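import Groth.Agent.Bousfield.TVan
import Groth.Prelude.Def_DCoh2

/-!
Objects on which a scalar is invertible; fibres of the telescope map are coreflections into them.
-/

set_option autoImplicit false
set_option backward.isDefEq.respectTransparency false
set_option linter.style.haveILetI false
universe u

open CategoryTheory Limits Pretriangulated

namespace Groth.Agent.Bousfield

section

variable {D : Type*} [Category D] [Preadditive D] {R : Type*} [CommRing R] [Linear R D] (s : R)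

/-- `s` is invertible on `X` -/
def SInv (X : D) : Prop := IsIso (s • 𝟙 X)

lemma sInv_iff_bijective (X : D) :
    SInv s X ↔ ∀ Y : D, Function.Bijective fun g : Y ⟶ X => s • g := by
  constructor
  · intro h Y
    have : (fun g : Y ⟶ X => s • g) = fun g => g ≫ (s • 𝟙 X) := by
      funext g; rw [Linear.comp_smul, Category.comp_id]
    rw [this]
    haveI : IsIso (s • 𝟙 X) := h
    exact ⟨fun a b hab => (cancel_mono (s • 𝟙 X)).1 hab,
      fun y => ⟨y ≫ inv (s • 𝟙 X), by change (y ≫ inv (s • 𝟙 X)) ≫ _ = y; rw [Category.assoc, IsIso.inv_hom_id, Category.comp_id]⟩⟩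
  · intro h
    obtain ⟨v, hv⟩ := (h X).2 (𝟙 X)
    simp only at hv
    exact ⟨v, by rw [Linear.smul_comp, Category.id_comp, hv], by rw [Linear.comp_smul, Category.comp_id, hv]⟩

lemma bijective_smul_source {X : D} (h : SInv s X) (K : D) : Function.Bijective fun g : X ⟶ K => s • g := by
  have : (fun g : X ⟶ K => s • g) = fun g => (s • 𝟙 X) ≫ g := by
    funext g; rw [Linear.smul_comp, Category.id_comp]
  rw [this]
  haveI : IsIso (s • 𝟙 X) := h
  exact ⟨fun a b hab => (cancel_epi (s • 𝟙 X)).1 hab, fun y => ⟨inv (s • 𝟙 X) ≫ y, by simp⟩⟩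

variable {M : Type*} [AddCommGroup M] [Module R M]

/-- recursion against an invertible scalar -/
lemma exists_seq_of_bijective (h : Function.Bijective fun x : M => s • x) (a : M) (z : ℕ → M) :
    ∃ φ : ℕ → M, φ 0 = a ∧ ∀ n, φ n - s • φ (n + 1) = z n := by
  choose r hr using h.2
  refine ⟨fun n => n.rec a (fun k x => r (x - z k)), rfl, fun n => ?_⟩
  simp only at hr ⊢
  rw [hr, sub_sub_cancel]

lemma seq_eq_zero_of_bijective (h : Function.Bijective fun x : M => s • x) {φ : ℕ → M}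
    (hφ : ∀ n, φ n - s • φ (n + 1) = 0) (h0 : φ 0 = 0) : ∀ n, φ n = 0
  | 0 => h0
  | n + 1 => h.1 (by
      simp only [smul_zero]
      rw [← sub_eq_zero.1 (hφ n), seq_eq_zero_of_bijective h hφ h0 n])

variable [HasZeroObject D] [HasShift D ℤ] [∀ n : ℤ, (shiftFunctor D n).Additive]
  [∀ n : ℤ, (shiftFunctor D n).Linear R] [Pretriangulated D]
  {K : D} [HasProduct fun _ : ℕ => K] {L : D} (a : L ⟶ ∏ᶜ fun _ : ℕ => K) {c : (∏ᶜ fun _ : ℕ => K) ⟶ L⟦(1 : ℤ)⟧}
  (hT : Triangle.mk a (phi s K) c ∈ distTriang D)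

omit [HasZeroObject D] [HasShift D ℤ] [∀ n : ℤ, (shiftFunctor D n).Additive]
  [∀ n : ℤ, (shiftFunctor D n).Linear R] [Pretriangulated D] in
lemma comp_phi_π {Y : D} (y : Y ⟶ ∏ᶜ fun _ : ℕ => K) (n : ℕ) :
    (y ≫ phi s K) ≫ Pi.π _ n = y ≫ Pi.π _ n - s • (y ≫ Pi.π _ (n + 1)) := by
  rw [Category.assoc, phi, limit.lift_π]
  dsimp only [Fan.mk_π_app]
  rw [Preadditive.comp_sub, Linear.comp_smul]

include hT in
/-- the fibre coreflects into the objects on which `s` is invertible -/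
theorem bijective_fibre {X : D} (hX : SInv s X) :
    Function.Bijective fun f : X ⟶ L => f ≫ a ≫ Pi.π (fun _ : ℕ => K) 0 := by
  have hinv := inv_rot_of_distTriang _ hT
  constructor
  · intro f g hfg
    rw [← sub_eq_zero]
    generalize hx : f - g = x
    have hx0 : x ≫ a ≫ Pi.π (fun _ : ℕ => K) 0 = 0 := by rw [← hx, Preadditive.sub_comp, sub_eq_zero]; exact hfg
    have ha : a ≫ phi s K = 0 := comp_distTriang_mor_zero₁₂ _ hT
    have hxa : x ≫ a = 0 := by
      refine limit.hom_ext fun ⟨n⟩ => ?_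
      rw [zero_comp]
      refine seq_eq_zero_of_bijective s (bijective_smul_source s hX K) (φ := fun m => (x ≫ a) ≫ Pi.π _ m)
        (fun m => ?_) ((Category.assoc _ _ _).trans hx0) n
      rw [← comp_phi_π, Category.assoc x, ha, comp_zero, zero_comp]
    obtain ⟨k, hk⟩ := Triangle.coyoneda_exact₂ _ hinv x hxa
    let k' : X ⟶ (∏ᶜ fun _ : ℕ => K)⟦(-1 : ℤ)⟧ := k
    let G := shiftFunctor D (-1 : ℤ)
    let hl : IsLimit (Fan.mk (G.obj (∏ᶜ fun _ : ℕ => K)) fun n => G.map (Pi.π (fun _ : ℕ => K) n)) :=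
      isLimitFanMkObjOfIsLimit G _ _ (productIsProduct fun _ : ℕ => K)
    obtain ⟨φ, -, hφ⟩ := exists_seq_of_bijective s (bijective_smul_source s hX (G.obj K)) 0
      fun n => k' ≫ G.map (Pi.π (fun _ : ℕ => K) n)
    let y : X ⟶ G.obj (∏ᶜ fun _ : ℕ => K) := Fan.IsLimit.lift hl φ
    have hy : y ≫ G.map (phi s K) = k' := Fan.IsLimit.hom_ext hl _ _ fun n => by
      change (y ≫ G.map (phi s K)) ≫ G.map (Pi.π _ n) = k' ≫ G.map (Pi.π _ n)
      rw [Category.assoc, ← G.map_comp, phi, limit.lift_π]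
      dsimp only [Fan.mk_π_app]
      rw [G.map_sub, G.map_smul, Preadditive.comp_sub, Linear.comp_smul]
      have e : ∀ m, y ≫ G.map (Pi.π (fun _ : ℕ => K) m) = φ m := fun m => Fan.IsLimit.fac hl φ m
      rw [e, e, hφ]
    have hz := comp_distTriang_mor_zero₁₂ _ (inv_rot_of_distTriang _ hinv)
    rw [hk]
    change k' ≫ (Triangle.mk a (phi s K) c).invRotate.mor₁ = 0
    rw [← hy, Category.assoc]
    have h0 : phi s K ≫ c = 0 := comp_distTriang_mor_zero₂₃ _ hT
    simp [Triangle.invRotate, G, ← Functor.map_comp_assoc, h0]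
  · intro g
    obtain ⟨φ, hφ0, hφ⟩ := exists_seq_of_bijective s (bijective_smul_source s hX K) g 0
    obtain ⟨f, hf⟩ := Triangle.coyoneda_exact₂ _ hT (Pi.lift φ : X ⟶ ∏ᶜ fun _ : ℕ => K) (by
      change Pi.lift φ ≫ phi s K = 0
      refine limit.hom_ext fun ⟨n⟩ => ?_
      erw [comp_phi_π, zero_comp]
      simpa using hφ n)
    refine ⟨f, ?_⟩
    change f ≫ (Triangle.mk a (phi s K) c).mor₁ ≫ _ = g
    rw [← Category.assoc, ← hf]
    simpa using hφ0

/-- the shift of the product -/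
noncomputable def sig (K : D) [HasProduct fun _ : ℕ => K] :
    (∏ᶜ fun _ : ℕ => K) ⟶ ∏ᶜ fun _ : ℕ => K :=
  Pi.lift fun n => Pi.π (fun _ : ℕ => K) (n + 1)

omit [HasZeroObject D] [HasShift D ℤ] [∀ n : ℤ, (shiftFunctor D n).Additive]
  [∀ n : ℤ, (shiftFunctor D n).Linear R] [Pretriangulated D] in
lemma phi_eq : phi s K = 𝟙 _ - s • sig K := by
  refine limit.hom_ext fun ⟨n⟩ => ?_
  simp [phi, sig, Preadditive.sub_comp]

omit [HasZeroObject D] [HasShift D ℤ] [∀ n : ℤ, (shiftFunctor D n).Additive]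
  [∀ n : ℤ, (shiftFunctor D n).Linear R] [Pretriangulated D] in
lemma sig_phi : sig K ≫ phi s K = phi s K ≫ sig K := by
  rw [phi_eq, Preadditive.comp_sub, Preadditive.sub_comp, Linear.comp_smul, Linear.smul_comp, Category.comp_id,
    Category.id_comp]

include hT in
/-- `s` is invertible on the fibre -/
theorem sInv_fibre : SInv s L := by
  refine (sInv_iff_bijective s L).2 fun Y => ?_
  have hinv := inv_rot_of_distTriang _ hT
  have ha : a ≫ phi s K = 0 := comp_distTriang_mor_zero₁₂ _ hT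
  have h0 : phi s K ≫ c = 0 := comp_distTriang_mor_zero₂₃ _ hT
  let G := shiftFunctor D (-1 : ℤ)
  let δ : G.obj (∏ᶜ fun _ : ℕ => K) ⟶ L := (Triangle.mk a (phi s K) c).invRotate.mor₁
  have hδ : G.map (phi s K) ≫ δ = 0 := by
    simp [δ, G, ← Functor.map_comp_assoc, h0]
  have hδ' : ∀ k : Y ⟶ G.obj (∏ᶜ fun _ : ℕ => K), k ≫ δ = 0 → ∃ y, k = y ≫ G.map (phi s K) := by
    intro k hk
    have hk' : k ≫ G.map c = 0 := by simpa [δ, G, Triangle.invRotate, ← Category.assoc] using hk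
    let e := (shiftFunctorCompIsoId D (1 : ℤ) (-1) (add_neg_cancel _)).app Y
    have hc : G.preimage (e.hom ≫ k) ≫ c = 0 :=
      G.map_injective (by rw [G.map_comp, G.map_preimage, Category.assoc, hk', comp_zero, G.map_zero])
    obtain ⟨y, hy⟩ := Triangle.coyoneda_exact₂ _ (rot_of_distTriang _ hT) _ hc
    refine ⟨e.inv ≫ G.map y, ?_⟩
    have h1 := congrArg G.map hy
    rw [G.map_preimage, G.map_comp] at h1
    rw [Category.assoc, ← Iso.inv_hom_id_assoc e k, h1]
    rfl
  have hsplit : ∀ k : Y ⟶ G.obj (∏ᶜ fun _ : ℕ => K),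
      k = s • (k ≫ G.map (sig K)) + k ≫ G.map (phi s K) := fun k => by
    rw [phi_eq, G.map_sub, G.map_smul, Preadditive.comp_sub, Linear.comp_smul, CategoryTheory.Functor.map_id,
      Category.comp_id, add_sub_cancel]
  have hφ : ∀ f : Y ⟶ L, f ≫ a = s • (f ≫ a ≫ sig K) := fun f => by
    have e : (f ≫ a) ≫ phi s K = 0 := by rw [Category.assoc, ha, comp_zero]
    rw [phi_eq, Preadditive.comp_sub, Category.comp_id, Linear.comp_smul, Category.assoc, sub_eq_zero] at e
    exact e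
  have hker : ∀ f : Y ⟶ L, f ≫ a = 0 → ∃ k, f = k ≫ δ := fun f hf =>
    Triangle.coyoneda_exact₂ _ hinv f hf
  refine ⟨fun f g hfg => sub_eq_zero.1 ?_, fun f => ?_⟩
  · have hz : s • (f - g) = 0 := by rw [smul_sub, sub_eq_zero]; exact hfg
    generalize f - g = x at hz
    obtain ⟨k, rfl⟩ := hker x (by rw [hφ, ← Category.assoc, ← Linear.smul_comp, ← Linear.smul_comp, hz]; simp)
    obtain ⟨y, hy⟩ := hδ' (s • k) (by rw [Linear.smul_comp, hz])
    have : k = (y ≫ G.map (sig K) + k) ≫ G.map (phi s K) := by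
      conv_lhs => rw [hsplit k, ← Linear.smul_comp, hy]
      rw [Preadditive.add_comp, Category.assoc, Category.assoc, ← G.map_comp, ← G.map_comp, sig_phi]
    rw [this, Category.assoc, hδ, comp_zero]
  · obtain ⟨g', hg'⟩ := Triangle.coyoneda_exact₂ _ hT (f ≫ a ≫ sig K) (by
      change (f ≫ a ≫ sig K) ≫ phi s K = 0
      rw [Category.assoc, Category.assoc, sig_phi, reassoc_of% ha, zero_comp, comp_zero])
    obtain ⟨g, hg⟩ : ∃ g : Y ⟶ L, f ≫ a ≫ sig K = g ≫ a := ⟨g', hg'⟩
    obtain ⟨k, hk⟩ := hker (f - s • g) (by rw [Preadditive.sub_comp, Linear.smul_comp, ← hg, ← hφ, sub_self])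
    refine ⟨g + (k ≫ G.map (sig K)) ≫ δ, ?_⟩
    have e : k ≫ δ = s • ((k ≫ G.map (sig K)) ≫ δ) := by
      conv_lhs => rw [hsplit k]
      rw [Preadditive.add_comp, Linear.smul_comp, Category.assoc k (G.map (phi s K)), hδ, comp_zero, add_zero]
    change s • _ = f
    rw [smul_add, ← e, ← hk, add_sub_cancel]

end

end Groth.Agent.Bousfield
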