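import Mathlib.CategoryTheory.Abelian.GrothendieckAxioms.Colim
import Mathlib.CategoryTheory.Abelian.GrothendieckCategory.Basic
import Mathlib.CategoryTheory.Limits.Constructions.Filtered
import Mathlib.CategoryTheory.Endomorphism
import Mathlib.Algebra.BigOperators.Group.Finset.Basic

/-!
The telescope map of an endomorphism is a monomorphism.
-/

set_option autoImplicit false
set_option linter.style.haveILetI false
universe v u

namespace Groth.Agent.Bousfield

open CategoryTheory Limits

variable {A : Type u} [Category.{v} A] [Abelian A] [IsGrothendieckAbelian.{v} A]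

/-- the telescope map `x in n ↦ x in n - e x in n+1` -/
noncomputable def telMap {X : A} (e : X ⟶ X) : (∐ fun _ : ℕ => X) ⟶ ∐ fun _ : ℕ => X :=
  Sigma.desc fun n => Sigma.ι (fun _ : ℕ => X) n - e ≫ Sigma.ι (fun _ : ℕ => X) (n + 1)

/-- iterates -/
noncomputable def pw {X : A} (e : X ⟶ X) : ℕ → (X ⟶ X)
  | 0 => 𝟙 X
  | k + 1 => e ≫ pw e k

/-- a map out of a coproduct with a dual family of projections is mono -/
theorem mono_of_projections {N : Type v} {X Y : A} (g : (∐ fun _ : N => X) ⟶ Y) (p : N → (Y ⟶ X))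
    [DecidableEq N] (hp : ∀ m n, Sigma.ι (fun _ : N => X) m ≫ g ≫ p n = if m = n then 𝟙 X else 0) : Mono g := by
  classical
  let cc := CoproductsFromFiniteFiltered.finiteSubcoproductsCocone fun _ : N => X
  have hcc : IsColimit cc := CoproductsFromFiniteFiltered.isColimitFiniteSubproductsCocone _
  haveI : IsConnected (Finset (Discrete N)) := IsFiltered.isConnected _
  let α : CoproductsFromFiniteFiltered.liftToFinsetObj (Discrete.functor fun _ : N => X) ⟶
      (Functor.const _).obj Y :=
    { app := fun s => cc.ι.app s ≫ g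
      naturality := fun s t f => (Category.assoc _ _ _).symm.trans
        ((congrArg (· ≫ g) (cc.w f)).trans (Category.comp_id _).symm) }
  haveI : ∀ s, Mono (α.app s) := fun s => by
    let r : Y ⟶ ∐ fun x : ↥s => X := ∑ x : ↥s, p x.1.as ≫ Sigma.ι (fun x : ↥s => X) x
    refine (SplitMono.mk r (Sigma.hom_ext _ _ fun y => ?_)).mono
    let i : (∐ fun x : ↥s => X) ⟶ ∐ fun _ : N => X := cc.ι.app s
    change Sigma.ι (fun x : ↥s => X) y ≫ (i ≫ g) ≫ r = Sigma.ι (fun x : ↥s => X) y ≫ 𝟙 _
    rw [Category.comp_id]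
    have hy : Sigma.ι (fun x : ↥s => X) y ≫ i = Sigma.ι (fun _ : N => X) y.1.as :=
      Sigma.ι_desc _ _
    simp only [Category.assoc, r, Preadditive.comp_sum]
    simp only [reassoc_of% hy, reassoc_of% hp]
    rw [Finset.sum_eq_single y (fun x _ hx => ?_) (fun h => absurd (Finset.mem_univ y) h)]
    · rw [if_pos rfl, Category.id_comp]
    · rw [if_neg fun h => hx (Subtype.ext (Discrete.ext h.symm)), zero_comp]
  haveI := NatTrans.mono_of_mono_app α
  exact colim.map_mono' α hcc (isColimitConstCocone _ _) g fun s => (Category.comp_id _).symm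

theorem mono_telMap {X : A} (e : X ⟶ X) : Mono (telMap e) := by
  classical
  let c : ℕ → ℕ → (X ⟶ X) := fun n m => if m ≤ n then pw e (n - m) else 0
  let p : ℕ → ((∐ fun _ : ℕ => X) ⟶ X) := fun n => Sigma.desc (c n)
  have hp : ∀ m n, Sigma.ι (fun _ : ℕ => X) m ≫ telMap e ≫ p n = if m = n then 𝟙 X else 0 := by
    intro m n
    rw [telMap, Sigma.ι_desc_assoc, Preadditive.sub_comp, Category.assoc, Sigma.ι_desc, Sigma.ι_desc]
    rcases lt_trichotomy m n with h | h | h
    · have h1 : n - m = (n - (m + 1)) + 1 := by omega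
      rw [if_neg h.ne]
      simp only [c, if_pos h.le, if_pos (show m + 1 ≤ n by omega), h1, pw]
      exact sub_self _
    · subst h
      simp [c, pw, Nat.not_succ_le_self]
    · rw [if_neg h.ne']
      simp [c, h.not_ge, show ¬ m + 1 ≤ n by omega]
  let u : (∐ fun _ : ULift.{v} ℕ => X) ⟶ ∐ fun _ : ℕ => X :=
    Sigma.desc fun n => Sigma.ι (fun _ : ℕ => X) n.down
  haveI : IsIso u := ⟨Sigma.desc fun n => Sigma.ι (fun _ : ULift.{v} ℕ => X) ⟨n⟩,
    Sigma.hom_ext _ _ fun n => by simp [u], Sigma.hom_ext _ _ fun n => by simp [u]⟩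
  haveI : Mono (u ≫ telMap e) := mono_of_projections _ (fun n => p n.down) fun m n => by
    simp only [u, Category.assoc, Sigma.ι_desc_assoc, hp, ULift.down_inj]
  exact (MorphismProperty.monomorphisms A).cancel_left_of_respectsIso u _ |>.1 this

end Groth.Agent.Bousfield
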