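import Groth.Agent.Bousfield.TensLinear
import Groth.Agent.Bousfield.TelMono
import Groth.Agent.Bousfield.Invert
import Groth.Agent.DQCoh.Coprod
import Mathlib.Algebra.Homology.GrothendieckAbelian
import Mathlib.Algebra.Homology.DerivedCategory.ShortExact

/-!
Tensor with the localisation at a global section, through the telescope.
-/

set_option autoImplicit false
set_option backward.isDefEq.respectTransparency false
set_option backward.isDefEq.respectTransparency.types false
set_option linter.style.haveILetI false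
set_option maxHeartbeats 1000000
universe u

open CategoryTheory Limits Opposite Pretriangulated

attribute [local instance] HasDerivedCategory.standard

namespace Groth.Agent.Bousfield

variable {C : Type u} [SmallCategory C] {J : GrothendieckTopology C} {O : Sheaf J CommRingCat.{u}}

theorem isIso_Q_toLocAway (s : DerComp.GSec O) (H : ModSite.Mod O ⥤ CochainComplex (ModSite.Mod O) ℤ) [H.Additive]
    [PreservesColimitsOfSize.{0, 0} H]
    (hs : H.map (DerComp.smulEnd s (ModSite.unit O)) = s • 𝟙 (H.obj (ModSite.unit O)))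
    (hZ : SInv s (DerivedCategory.Q.obj (H.obj (ModSite.unit O)))) :
    IsIso (DerivedCategory.Q.map (H.map (DerComp.toLocAway s (ModSite.unit O)))) := by
  haveI : IsGrothendieckAbelian.{u} (ModSite.Mod O) := KFlat.isGrothendieck O
  let O' := ModSite.unit O
  let Z := H.obj O'
  let M := fun _ : ℕ => O'
  let σ : (∐ fun _ : ℕ => Z) ≅ H.obj (∐ M) := asIso (sigmaComparison H M)
  have hσ : telMap (H.map (DerComp.smulEnd s O')) ≫ σ.hom = σ.hom ≫ H.map (DerComp.awayMap s O') := by
    refine Sigma.hom_ext _ _ fun n => ?_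
    simp only [σ, asIso_hom, telMap, Sigma.ι_desc_assoc, Preadditive.sub_comp, Category.assoc]
    erw [ι_comp_sigmaComparison, ι_comp_sigmaComparison, ι_comp_sigmaComparison_assoc]
    conv_rhs => rw [← H.map_comp, DerComp.awayMap, Sigma.ι_desc, H.map_sub, H.map_comp]
    try rw [H.map_comp]
    try rfl
  let S := ShortComplex.mk (H.map (DerComp.awayMap s O')) (H.map (cokernel.π (DerComp.awayMap s O')))
    (by rw [← H.map_comp, cokernel.condition, H.map_zero])
  haveI : Mono S.f := by
    haveI := mono_telMap (H.map (DerComp.smulEnd s O'))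
    have e : S.f = σ.inv ≫ telMap (H.map (DerComp.smulEnd s O')) ≫ σ.hom := by rw [hσ, σ.inv_hom_id_assoc]
    rw [e]
    infer_instance
  haveI : Epi S.g := inferInstanceAs (Epi (H.map (cokernel.π (DerComp.awayMap s O'))))
  have hS : S.ShortExact := HomologicalComplex.shortExact_of_degreewise_shortExact S fun i => by
    let E := HomologicalComplex.eval (ModSite.Mod O) (ComplexShape.up ℤ) i
    haveI : Mono (S.map E).f := inferInstanceAs (Mono (E.map S.f))
    haveI : Epi (S.map E).g := inferInstanceAs (Epi (E.map S.g))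
    refine { exact := ?_ }
    exact (S.map E).exact_of_g_is_cokernel (isColimitCoforkMapOfIsColimit' (H ⋙ E) (cokernel.condition (DerComp.awayMap s O'))
      (cokernelIsCokernel _))
  have hT := DerivedCategory.triangleOfSES_distinguished hS
  obtain ⟨hcol⟩ := DQCoh.nonempty_isColimit_Q_coprod (A := ModSite.Mod O)
    (fun K => by obtain ⟨I, t, hI, ht, -⟩ := KInj.exists_kInjective K; exact ⟨I, t, hI, ht⟩)
    (fun _ : ℕ => Z)
  let j : ℕ → (DerivedCategory.Q.obj Z ⟶ DerivedCategory.Q.obj (H.obj (∐ M))) := fun n =>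
    DerivedCategory.Q.map (H.map (Sigma.ι M n))
  let c : ∀ {K' : DerivedCategory (ModSite.Mod O)}, (DerivedCategory.Q.obj (H.obj (∐ M)) ⟶ K') →
      ℕ → (DerivedCategory.Q.obj Z ⟶ K') := fun g n => j n ≫ g
  have hj : ∀ n, DerivedCategory.Q.map (Sigma.ι (fun _ : ℕ => Z) n) ≫ DerivedCategory.Q.map σ.hom = j n := fun n => by
    rw [← Functor.map_comp]
    exact congrArg DerivedCategory.Q.map (ι_comp_sigmaComparison H M n)
  have hcinj : ∀ {K' : DerivedCategory (ModSite.Mod O)} (g g' : DerivedCategory.Q.obj (H.obj (∐ M)) ⟶ K'),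
      (∀ n, j n ≫ g = j n ≫ g') → g = g' := fun g g' h => by
    rw [← cancel_epi (DerivedCategory.Q.map σ.hom)]
    refine Cofan.IsColimit.hom_ext hcol _ _ fun n => ?_
    change DerivedCategory.Q.map (Sigma.ι _ n) ≫ _ = DerivedCategory.Q.map (Sigma.ι _ n) ≫ _
    rw [← Category.assoc, ← Category.assoc, hj, h]
  have hcsurj : ∀ {K' : DerivedCategory (ModSite.Mod O)} (φ : ℕ → (DerivedCategory.Q.obj Z ⟶ K')),
      ∃ g, ∀ n, j n ≫ g = φ n := fun φ => by
    refine ⟨DerivedCategory.Q.map σ.inv ≫ Cofan.IsColimit.desc hcol φ, fun n => ?_⟩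
    rw [← hj, Category.assoc, ← Functor.map_comp_assoc DerivedCategory.Q σ.hom, σ.hom_inv_id, CategoryTheory.Functor.map_id,
      Category.id_comp]
    exact Cofan.IsColimit.fac hcol φ n
  let a := DerivedCategory.Q.map S.f
  let p := DerivedCategory.Q.map S.g
  have ha : ∀ {K' : DerivedCategory (ModSite.Mod O)} (g : DerivedCategory.Q.obj (H.obj (∐ M)) ⟶ K') (n : ℕ),
      j n ≫ a ≫ g = j n ≫ g - s • (j (n + 1) ≫ g) := fun g n => by
    change DerivedCategory.Q.map _ ≫ DerivedCategory.Q.map (H.map (DerComp.awayMap s O')) ≫ g = _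
    rw [← Functor.map_comp_assoc, ← H.map_comp, DerComp.awayMap, Sigma.ι_desc, H.map_sub, H.map_comp, hs,
      Functor.map_sub, Functor.map_comp, Q_smul_id, Preadditive.sub_comp, Category.assoc, Linear.smul_comp,
      Category.id_comp]
  have hbij := fun K' => bijective_smul_source s hZ K'
  have hsurj : ∀ {K' : DerivedCategory (ModSite.Mod O)} (x : DerivedCategory.Q.obj (H.obj (∐ M)) ⟶ K'),
      ∃ y, a ≫ y = x := fun {K'} x => by
    obtain ⟨φ, -, hφ⟩ := exists_seq_of_bijective s (hbij K') 0 (c x)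
    obtain ⟨y, hy⟩ := hcsurj φ
    exact ⟨y, hcinj _ _ fun n => by rw [ha, hy, hy, hφ]⟩
  let w := j 0 ≫ p
  have hw : DerivedCategory.Q.map (H.map (DerComp.toLocAway s O')) = w := by
    rw [DerComp.toLocAway, H.map_comp, Functor.map_comp]
  rw [hw]
  have key : ∀ K' : DerivedCategory (ModSite.Mod O), Function.Bijective
      fun g : DerivedCategory.Q.obj S.X₃ ⟶ K' => w ≫ g := by
    intro K'
    refine ⟨fun g g' hgg => sub_eq_zero.1 ?_, fun g => ?_⟩
    · have hz : w ≫ (g - g') = 0 := by rw [Preadditive.comp_sub, sub_eq_zero]; exact hgg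
      generalize g - g' = x at hz
      have hpx : p ≫ x = 0 := hcinj _ _ fun n => by
        rw [comp_zero]
        refine seq_eq_zero_of_bijective s (hbij K') (φ := fun m => j m ≫ p ≫ x) (fun m => ?_)
          ((Category.assoc _ _ _).symm.trans hz) n
        rw [← ha]
        have : a ≫ p = 0 := comp_distTriang_mor_zero₁₂ _ hT
        rw [reassoc_of% this, zero_comp, comp_zero]
      obtain ⟨k, hk⟩ := Triangle.yoneda_exact₃ _ hT x hpx
      let i := (shiftFunctorCompIsoId (DerivedCategory (ModSite.Mod O)) (-1 : ℤ) (1 : ℤ) (neg_add_cancel _)).app K'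
      obtain ⟨y, hy⟩ := hsurj ((shiftFunctor _ (1 : ℤ)).preimage (k ≫ i.inv))
      have hk' : k = a⟦(1 : ℤ)⟧' ≫ y⟦(1 : ℤ)⟧' ≫ i.hom := by
        rw [← Functor.map_comp_assoc, hy, Functor.map_preimage, Category.assoc, i.inv_hom_id]
        exact (Category.comp_id k).symm
      rw [hk, hk']
      erw [reassoc_of% (comp_distTriang_mor_zero₃₁ _ hT)]
      rw [zero_comp]
    · obtain ⟨φ, hφ0, hφ⟩ := exists_seq_of_bijective s (hbij K') g 0
      obtain ⟨x, hx⟩ := hcsurj φ
      obtain ⟨y, hy⟩ := Triangle.yoneda_exact₂ _ hT x (by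
        change a ≫ x = 0
        exact hcinj _ _ fun n => by rw [ha, hx, hx, comp_zero, hφ]; rfl)
      refine ⟨y, ?_⟩
      change (j 0 ≫ p) ≫ y = g
      rw [Category.assoc, show p ≫ y = x from hy.symm, hx, hφ0]
  obtain ⟨v, hv⟩ := (key _).2 (𝟙 _)
  exact ⟨v, hv, (key _).1 (by simp only at hv ⊢; rw [reassoc_of% hv, Category.comp_id])⟩

end Groth.Agent.Bousfield
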