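import Groth.Agent.Bousfield.DCGlobal
import Groth.Agent.DecayLib.Basic
import Groth.Agent.DQCoh.PCTensor
import Groth.Agent.DQCoh.Affine
import Groth.Agent.QC.Coherent

/-!
Global cohomology of derived completions on affine schemes.
-/

set_option autoImplicit false
set_option maxHeartbeats 1000000
set_option linter.style.haveILetI false
set_option backward.isDefEq.respectTransparency false
set_option backward.isDefEq.respectTransparency.types false
universe u

open CategoryTheory Limits Opposite TopologicalSpace AlgebraicGeometry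

attribute [local instance] HasDerivedCategory.standard

namespace Groth.Agent.Bousfield

section Top

variable {T : Type u} [TopologicalSpace T] (O : Sheaf (Opens.grothendieckTopology T) CommRingCat.{u})

/-- global sections are sections over the top open -/
noncomputable def gsecTop : DerComp.GSec O ≃+* O.obj.obj (op (⊤ : Opens T)) where
  toFun s := s.1 ⊤
  invFun f := ⟨fun U => (O.obj.map (homOfLE (le_top : U ≤ ⊤)).op).hom f, fun U V g =>
    (ConcreteCategory.congr_hom (O.obj.map_comp (homOfLE (le_top : U ≤ ⊤)).op g.op) f).symm⟩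
  left_inv s := Subtype.ext (funext fun U => s.2 _)
  right_inv f := ConcreteCategory.congr_hom (O.obj.map_id (op (⊤ : Opens T))) f
  map_mul' _ _ := rfl
  map_add' _ _ := rfl

lemma isNoetherianRing_gsec [IsNoetherianRing (O.obj.obj (op (⊤ : Opens T)))] : IsNoetherianRing (DerComp.GSec O) :=
  isNoetherianRing_of_ringEquiv _ (gsecTop O).symm

/-- evaluation at `1` of maps out of the unit -/
noncomputable def evOne (M : ModSite.Mod O) : (ModSite.unit O ⟶ M) →+ M.val.obj (op (⊤ : Opens T)) :=
  AddMonoidHom.mk' (fun φ => φ.val.app (op ⊤) (1 : (ModSite.ringSh O).obj.obj (op (⊤ : Opens T))))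
    fun _ _ => rfl

lemma evOne_smul (M : ModSite.Mod O) (s : DerComp.GSec O) (φ : ModSite.unit O ⟶ M) :
    evOne O M (s • φ) = DerComp.GSec.val' s (op (⊤ : Opens T)) • evOne O M φ :=
  (φ.val.app (op ⊤)).hom.map_smul (DerComp.GSec.val' s (op ⊤)) _

lemma evOne_injective (M : ModSite.Mod O) : Function.Injective (evOne O M) := fun φ ψ h =>
  M.unitHomEquiv.injective (Subtype.ext (funext fun W => by
    refine ((M.unitHomEquiv φ).2 (homOfLE (le_top : W.unop ≤ ⊤)).op).symm.trans ?_
    refine (congrArg _ ?_).trans ((M.unitHomEquiv ψ).2 (homOfLE (le_top : W.unop ≤ ⊤)).op)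
    exact h))

/-- finiteness of maps out of the unit -/
theorem finite_homUnit [IsNoetherianRing (O.obj.obj (op (⊤ : Opens T)))] (M : ModSite.Mod O)
    (hM : Module.Finite ((ModSite.ringSh O).obj.obj (op (⊤ : Opens T))) (M.val.obj (op (⊤ : Opens T)))) :
    Module.Finite (DerComp.GSec O) (ModSite.unit O ⟶ M) := by
  haveI := isNoetherianRing_gsec O
  let σ : DerComp.GSec O →+* (ModSite.ringSh O).obj.obj (op (⊤ : Opens T)) := (gsecTop O).toRingHom
  letI : Module (DerComp.GSec O) (M.val.obj (op (⊤ : Opens T))) := Module.compHom _ σ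
  haveI : Module.Finite (DerComp.GSec O) (M.val.obj (op (⊤ : Opens T))) := by
    obtain ⟨t, ht⟩ := hM.fg_top
    refine ⟨⟨t, eq_top_iff.2 fun x _ => ?_⟩⟩
    have hx : x ∈ Submodule.span ((ModSite.ringSh O).obj.obj (op (⊤ : Opens T))) (t : Set (M.val.obj (op ⊤))) :=
      ht ▸ Submodule.mem_top
    induction hx using Submodule.span_induction with
    | mem y hy => exact Submodule.subset_span hy
    | zero => exact zero_mem _
    | add y z _ _ hy hz => exact add_mem (hy Submodule.mem_top) (hz Submodule.mem_top)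
    | smul a y _ hy =>
      obtain ⟨s, rfl⟩ := (gsecTop O).surjective a
      exact Submodule.smul_mem _ s (hy Submodule.mem_top)
  exact Module.Finite.of_injective
    ({ toFun := evOne O M, map_add' := map_add _, map_smul' := evOne_smul O M } :
      (ModSite.unit O ⟶ M) →ₗ[DerComp.GSec O] M.val.obj (op (⊤ : Opens T))) (evOne_injective O M)

/-- a retraction of the free module on the top open onto the unit -/
lemma exists_unit_retract : ∃ (a : HDU.freeMod O (⊤ : Opens T) ⟶ ModSite.unit O)
    (b : ModSite.unit O ⟶ HDU.freeMod O (⊤ : Opens T)), b ≫ a = 𝟙 _ := by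
  let one : (ModSite.unit O).val.obj (op (⊤ : Opens T)) := (1 : (ModSite.ringSh O).obj.obj (op ⊤))
  let F := HDU.freeMod O (⊤ : Opens T)
  let a : F ⟶ ModSite.unit O := (HDU.modSec O _ _).symm one
  let s : F.val.obj (op ⊤) := HDU.modSec O ⊤ F (𝟙 F)
  let b : ModSite.unit O ⟶ F := F.unitHomEquiv.symm (PresheafOfModules.sectionsMk
    (fun W => F.val.presheaf.map (homOfLE (le_top : W.unop ≤ ⊤)).op s) fun V W f => by
      change F.val.presheaf.map f (F.val.presheaf.map _ s) = _
      exact (ConcreteCategory.congr_hom (F.val.presheaf.map_comp _ f) s).symm)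
  refine ⟨a, b, (ModSite.unit O).unitHomEquiv.injective (Subtype.ext (funext fun W => ?_))⟩
  have h1 : a.val.app (op ⊤) s = one :=
    ((HDU.modSec_comp O (𝟙 F) a).symm.trans (by rw [Category.id_comp])).trans
      ((HDU.modSec O (⊤ : Opens T) (ModSite.unit O)).apply_symm_apply one)
  have hb : b.val.app W (1 : (ModSite.ringSh O).obj.obj W) =
      F.val.presheaf.map (homOfLE (le_top : W.unop ≤ ⊤)).op s :=
    congrArg (fun t : F.sections => t.val W) (F.unitHomEquiv.apply_symm_apply _)
  change a.val.app W (b.val.app W (1 : (ModSite.ringSh O).obj.obj W)) = (1 : (ModSite.ringSh O).obj.obj W)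
  rw [hb]
  refine (PresheafOfModules.naturality_apply a.val (homOfLE (le_top : W.unop ≤ ⊤)).op s).trans ?_
  rw [h1]
  exact map_one ((ModSite.ringSh O).obj.map (homOfLE (le_top : W.unop ≤ ⊤)).op).hom

/-- to the cohomology sheaf -/
noncomputable def toHD (K : DerivedCategory (ModSite.Mod O)) (q : ℤ) :
    ((DerivedCategory.singleFunctor (ModSite.Mod O) 0).obj (ModSite.unit O) ⟶ K⟦q⟧) →ₗ[DerComp.GSec O]
      (ModSite.unit O ⟶ (DerivedCategory.homologyFunctor (ModSite.Mod O) q).obj K) where
  toFun x := HDU.toH0 x ≫ ((DerivedCategory.homologyFunctor (ModSite.Mod O) 0).shiftIso q 0 q (by omega)).hom.app K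
  map_add' x y := by rw [HDU.toH0_add, Preadditive.add_comp]
  map_smul' a x := by
    have h : a • x = (DerivedCategory.singleFunctor (ModSite.Mod O) 0).map
        (DerComp.smulEnd a (ModSite.unit O)) ≫ x := by
      rw [single_map_smulEnd, Linear.smul_comp, Category.id_comp]
    rw [h, HDU.toH0_precomp, Category.assoc, RingHom.id_apply, DerComp.smul_def]

lemma toHD_injective (K : DerivedCategory (ModSite.Mod O)) (q : ℤ)
    (h : Function.Injective ((HDU.modData O).η K q (⊤ : Opens T))) : Function.Injective (toHD O K q) := by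
  obtain ⟨a, b, hab⟩ := exists_unit_retract O
  let F := DerivedCategory.singleFunctor (ModSite.Mod O) 0
  refine (injective_iff_map_eq_zero _).2 fun x hx => ?_
  have h1 : F.map a ≫ x = 0 := h (by
    rw [map_zero]
    change (HDU.modData O).sec ⊤ _ (HDU.toH0 (F.map a ≫ x) ≫ _) = 0
    rw [HDU.toH0_precomp, Category.assoc]
    change (HDU.modData O).sec ⊤ _ (a ≫ toHD O K q x) = 0
    rw [hx, comp_zero, map_zero])
  calc x = F.map (b ≫ a) ≫ x := by rw [hab, F.map_id, Category.id_comp]
    _ = 0 := by rw [F.map_comp, Category.assoc, h1, comp_zero]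

end Top

/-- finite cohomology of a complex with coherent cohomology on an affine Noetherian scheme -/
theorem finite_hom_unit {X : Scheme.{u}} [IsAffine X] [IsNoetherian X] (K : DCoh.D X) (hK : DCoh.IsCohD K) (q : ℤ) :
    Module.Finite (DerComp.GSec X.sheaf)
      ((DerivedCategory.singleFunctor (ModSite.Mod X.sheaf) 0).obj (ModSite.unit X.sheaf) ⟶ K⟦q⟧) := by
  haveI hN : IsNoetherianRing (X.sheaf.obj.obj (op (⊤ : X.Opens))) :=
    IsLocallyNoetherian.component_noetherian ⟨⊤, isAffineOpen_top X⟩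
  haveI := isNoetherianRing_gsec X.sheaf
  haveI : Module.Finite (DerComp.GSec X.sheaf)
      (ModSite.unit X.sheaf ⟶ (DerivedCategory.homologyFunctor (ModSite.Mod X.sheaf) q).obj K) :=
    finite_homUnit X.sheaf _ ((QC.isCoh_iff_finite_sections.mp (hK q)).2 ⟨⊤, isAffineOpen_top X⟩)
  exact Module.Finite.of_injective _ (toHD_injective X.sheaf K q
    (DQCoh.η_bijective_affine K (fun i => (hK i).1) ⊤ (isAffineOpen_top X) q).1)

section Transfer

variable {A : Type*} [CommRing A] {M N : Type*} [AddCommGroup M] [Module A M] [AddCommGroup N] [Module A N]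

/-- consequences of being the completion -/
theorem adic_of_completion (I : Ideal A) (hfg : I.FG) (η : M →ₗ[A] N) (e : N ≃ₗ[A] AdicCompletion I M)
    (he : ∀ x, e (η x) = AdicCompletion.of I M x) :
    IsAdicComplete I N ∧ ∀ n : ℕ, (∀ y : N, ∃ x : M, η x - y ∈ (I ^ n • ⊤ : Submodule A N)) ∧
      ∀ x : M, η x ∈ (I ^ n • ⊤ : Submodule A N) → x ∈ (I ^ n • ⊤ : Submodule A M) := by
  haveI := AdicCompletion.isAdicComplete (M := M) hfg
  refine ⟨DecayLib.isAdicComplete_of_linearEquiv I e.symm, fun n => ?_⟩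
  have hmem : ∀ y : N, y ∈ (I ^ n • ⊤ : Submodule A N) ↔ AdicCompletion.eval I M n (e y) = 0 := fun y => by
    rw [← DecayLib.mem_smul_top_congr e, AdicCompletion.pow_smul_top_eq_ker_eval hfg, LinearMap.mem_ker]
  refine ⟨fun y => ?_, fun x hx => ?_⟩
  · obtain ⟨x, hx⟩ := Submodule.mkQ_surjective _ (AdicCompletion.eval I M n (e y))
    refine ⟨x, (hmem _).2 ?_⟩
    rw [map_sub, map_sub, he, AdicCompletion.eval_of, hx, sub_self]
  · have h := (hmem _).1 hx
    rw [he, AdicCompletion.eval_of, Submodule.mkQ_apply, Submodule.Quotient.mk_eq_zero] at h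
    exact h

end Transfer

lemma exists_finite_isGenBy {C : Type u} [SmallCategory C] {J : GrothendieckTopology C} {O : Sheaf J CommRingCat.{u}}
    {I : Ideal (DerComp.GSec O)} {𝓘 : DerComp.IdealSh O}
    (h : 𝓘.IsGenBy (fun a : I => (a : DerComp.GSec O))) (hfg : I.FG) :
    ∃ (n : ℕ) (s : Fin n → DerComp.GSec O), Ideal.span (Set.range s) = I ∧ 𝓘.IsGenBy s := by
  obtain ⟨n, s, hs⟩ := Submodule.fg_iff_exists_fin_generating_family.1 hfg
  have hspan : Ideal.span (Set.range s) = I := hs
  refine ⟨n, s, hspan, fun i U => h.1 ⟨s i, hspan ▸ Ideal.subset_span ⟨i, rfl⟩⟩ U, fun I' hI' => h.2 I' fun a U => ?_⟩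
  let ev : DerComp.GSec O →+* O.obj.obj (op U) :=
    { toFun := fun t => t.1 U, map_one' := rfl, map_mul' := fun _ _ => rfl, map_zero' := rfl, map_add' := fun _ _ => rfl }
  have : I ≤ (I'.ideal U).comap ev := hspan ▸ Ideal.span_le.2 (by rintro _ ⟨i, rfl⟩; exact hI' i U)
  exact this a.2

/-- **global cohomology of derived completion on an affine Noetherian scheme** -/
theorem adic_derCompletion_affine (X : Scheme.{u}) [IsAffine X] [IsNoetherian X] (I : Ideal (DerComp.GSec X.sheaf))
    (𝓘 : DerComp.IdealSh X.sheaf) (h𝓘 : 𝓘.IsGenBy (fun a : I => (a : DerComp.GSec X.sheaf)))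
    [DerComp.HasDerCompletion X.sheaf 𝓘] (K : DCoh.D X) (hK : ∀ m : ℤ, DCoh.IsPseudoCoherentD m K) (p : ℤ) :
    ∃ e : ((DerivedCategory.singleFunctor (ModSite.Mod X.sheaf) 0).obj (ModSite.unit X.sheaf) ⟶
        ((DerComp.derCompletion X.sheaf 𝓘).obj K).obj⟦p⟧) ≃ₗ[DerComp.GSec X.sheaf]
        AdicCompletion I ((DerivedCategory.singleFunctor (ModSite.Mod X.sheaf) 0).obj (ModSite.unit X.sheaf) ⟶ K⟦p⟧),
      ∀ x, e (x ≫ (DerComp.toDerCompletion 𝓘 K)⟦p⟧') = AdicCompletion.of I _ x := by
  haveI hN : IsNoetherianRing (X.sheaf.obj.obj (op (⊤ : X.Opens))) :=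
    IsLocallyNoetherian.component_noetherian ⟨⊤, isAffineOpen_top X⟩
  haveI := isNoetherianRing_gsec X.sheaf
  obtain ⟨n, s, rfl, hs⟩ := exists_finite_isGenBy h𝓘 (IsNoetherian.noetherian I)
  exact completion_hom s hs _ K (finite_hom_unit K (DQCoh.isCohD_of_pc K hK)) p

end Groth.Agent.Bousfield
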