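import Groth.Agent.Bousfield.Main
import Groth.Agent.ModSiteGro.Basic
import Groth.Prelude.Def_DerComp

/-!
Derived completion with respect to any sheaf of ideals exists.
-/

set_option autoImplicit false
set_option backward.isDefEq.respectTransparency false
set_option linter.style.haveILetI false
universe u

open CategoryTheory Limits Opposite

attribute [local instance] HasDerivedCategory.standard

namespace Groth.Agent.Bousfield

variable {C : Type u} [SmallCategory C] {J : GrothendieckTopology C} {O : Sheaf J CommRingCat.{u}}
  (I : DerComp.IdealSh O)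

/-- the test complexes of derived completeness -/
noncomputable def tests (p : Σ U : C, {f : O.obj.obj (op U) // f ∈ I.ideal U}) :
    CochainComplex (ModSite.Mod O) ℤ :=
  (CochainComplex.singleFunctor (ModSite.Mod O) 0).obj
    ((ModSite.extZero O p.1).obj (DerComp.awayOver O p.1 p.2.1))

/-- the test objects in the derived category -/
noncomputable def testsIso (p : Σ U : C, {f : O.obj.obj (op U) // f ∈ I.ideal U}) :
    SiteCmp.inD O ((ModSite.extZero O p.1).obj (DerComp.awayOver O p.1 p.2.1)) ≅
      DerivedCategory.Q.obj (tests I p) :=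
  (DerivedCategory.singleFunctorIsoCompQ (ModSite.Mod O) 0).app _

lemma homShiftEquiv {D : Type*} [Category D] [HasShift D ℤ] (X K : D) (m n : ℤ) (h : m + n = 0)
    (hs : Subsingleton (X ⟶ K⟦n⟧)) : Subsingleton (X⟦m⟧ ⟶ K) := by
  refine ⟨fun a b => (CategoryTheory.shiftFunctor D n).map_injective ?_⟩
  let e := (shiftFunctorCompIsoId D m n h).app X
  exact (cancel_epi e.inv).1 (hs.elim _ _)

theorem isDerComp_eq : DerComp.IsDerComp O I = IsLocal (tests I) := by
  funext K
  refine propext ⟨fun h p m => ?_, fun h U f hf n => ?_⟩
  · exact homShiftEquiv _ K m (-m) (add_neg_cancel m)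
      ((testsIso I p).homFromEquiv.subsingleton_congr.mp (h p.1 p.2.1 p.2.2 (-m)))
  · exact (testsIso I ⟨U, f, hf⟩).homFromEquiv.subsingleton_congr.mpr
      ⟨fun a b => (CategoryTheory.shiftFunctor _ (-n)).map_injective
        ((cancel_mono ((shiftFunctorCompIsoId _ n (-n) (add_neg_cancel n)).app K).hom).1
          ((h ⟨U, f, hf⟩ (-n)).elim _ _))⟩

theorem hasDerCompletion : DerComp.HasDerCompletion O I := by
  haveI := ModSiteGro.isGrothendieckAbelian (R := ModSite.ringSh O)
  rw [DerComp.HasDerCompletion, isDerComp_eq]
  exact isRightAdjoint_ι _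

end Groth.Agent.Bousfield
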