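import Groth.Agent.Bousfield.Tower
import Groth.Agent.Bousfield.DerComp
import Groth.Agent.ModSiteExt.Sheaf

/-!
Derived completeness as vanishing of the limit and first derived limit of multiplication towers.
-/

set_option autoImplicit false
set_option backward.isDefEq.respectTransparency false
set_option backward.isDefEq.respectTransparency.types false
set_option linter.style.haveILetI false
universe u

open CategoryTheory Limits Opposite

attribute [local instance] HasDerivedCategory.standard

namespace Groth.Agent.Bousfield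

variable {C : Type u} [SmallCategory C] {J : GrothendieckTopology C} {O : Sheaf J CommRingCat.{u}}

/-- multiplication by `f` on `j_! O_U` -/
noncomputable def eU (U : C) (f : O.obj.obj (op U)) : ModSite.freeOn O U ⟶ ModSite.freeOn O U :=
  (ModSite.extZero O U).map (DerComp.smulEnd (DerComp.GSec.ofSect O U f) (ModSite.unit (O.over U)))

theorem subsingleton_away_iff (U : C) (f : O.obj.obj (op U)) (K : DerivedCategory (ModSite.Mod O)) :
    (∀ n : ℤ, Subsingleton (SiteCmp.inD O ((ModSite.extZero O U).obj (DerComp.awayOver O U f)) ⟶ K⟦n⟧)) ↔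
      ∀ n : ℤ, TBij ((DerivedCategory.singleFunctor (ModSite.Mod O) 0).map (eU U f)) (K⟦n⟧) := by
  haveI := ModSiteGro.isGrothendieckAbelian (R := ModSite.ringSh O)
  let j := ModSite.extZero O U
  let M := fun _ : ℕ => ModSite.unit (O.over U)
  haveI : PreservesColimitsOfSize.{u, u} j := (ModSite.extZeroAdj O U).leftAdjoint_preservesColimits
  haveI : PreservesColimitsOfSize.{0, 0} j := preservesSmallestColimits_of_preservesColimits _
  let σ : (∐ fun _ : ℕ => ModSite.freeOn O U) ≅ j.obj (∐ M) := asIso (sigmaComparison j M)
  have hσ : σ.hom ≫ j.map (DerComp.awayMap (DerComp.GSec.ofSect O U f) (ModSite.unit (O.over U))) =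
      telMap (eU U f) ≫ σ.hom := by
    refine Sigma.hom_ext _ _ fun n => ?_
    simp only [σ, asIso_hom, telMap, Sigma.ι_desc_assoc, Preadditive.sub_comp, Category.assoc]
    erw [ι_comp_sigmaComparison_assoc, ι_comp_sigmaComparison, ι_comp_sigmaComparison]
    rw [← j.map_comp, DerComp.awayMap, Sigma.ι_desc, j.map_sub, j.map_comp]
    rfl
  let e : j.obj (DerComp.awayOver O U f) ≅ cokernel (telMap (eU U f)) :=
    PreservesCokernel.iso j _ ≪≫ (cokernel.mapIso _ _ σ σ hσ.symm).symm
  refine Iff.trans (forall_congr' fun n => ?_) (subsingleton_cokernel_iff (eU U f) K)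
  exact (((DerivedCategory.singleFunctor (ModSite.Mod O) 0).mapIso e).homFromEquiv).subsingleton_congr

/-- **criterion** -/
theorem isDerComp_iff (I : DerComp.IdealSh O) (K : DerivedCategory (ModSite.Mod O)) :
    DerComp.IsDerComp O I K ↔ ∀ (U : C) (f : O.obj.obj (op U)), f ∈ I.ideal U → ∀ n : ℤ,
      TBij ((DerivedCategory.singleFunctor (ModSite.Mod O) 0).map (eU U f)) (K⟦n⟧) :=
  forall_congr' fun U => forall_congr' fun f => forall_congr' fun _ => subsingleton_away_iff U f K

end Groth.Agent.Bousfield
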