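import Groth.Agent.Bousfield.Opens
import Groth.Agent.DRingKP.DCFinite
import Groth.Agent.RHomMod.Completion
import Groth.Agent.ProjForm.Local
import Mathlib.Algebra.Homology.HomotopyCategory.HomComplexCohomology

/-!
`Hom(P, -)` of a derived completion is the adic completion, for finite `Hom(P, K[p])` over Noetherian global sections.
-/

set_option autoImplicit false
set_option maxHeartbeats 1000000
set_option linter.style.haveILetI false
set_option backward.isDefEq.respectTransparency false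
set_option backward.isDefEq.respectTransparency.types false
universe u

open CategoryTheory Limits Pretriangulated CochainComplex CochainComplex.HomComplex

attribute [local instance] HasDerivedCategory.standard

namespace Groth.Agent.Bousfield

open CochainComplex (mappingCone)

variable {C : Type u} [SmallCategory C] {J : GrothendieckTopology C} {O : Sheaf J CommRingCat.{u}}

/-- `Hom(P, -)` into modules over the global sections -/
noncomputable def homR (P : ModSite.Mod O) : ModSite.Mod O ⥤ ModuleCat.{u} (DerComp.GSec O) where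
  obj M := ModuleCat.of (DerComp.GSec O) (P ⟶ M)
  map g := ModuleCat.ofHom (Linear.rightComp (DerComp.GSec O) P g)
  map_id M := ModuleCat.hom_ext (LinearMap.ext fun (x : P ⟶ M) => (Category.comp_id x : x ≫ 𝟙 M = x))
  map_comp g h := ModuleCat.hom_ext (LinearMap.ext fun (x : P ⟶ _) => ((Category.assoc x g h).symm : x ≫ g ≫ h = (x ≫ g) ≫ h))

instance (P : ModSite.Mod O) : (homR P).Additive where
  map_add {M N f g} := ModuleCat.hom_ext (LinearMap.ext fun (x : P ⟶ M) =>
    (Preadditive.comp_add P M N x f g : x ≫ (f + g) = x ≫ f + x ≫ g))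

/-- on complexes -/
noncomputable abbrev homRCx (P : ModSite.Mod O) :
    CochainComplex (ModSite.Mod O) ℤ ⥤ DRing.Cx (DerComp.GSec O) :=
  (homR P).mapHomologicalComplex (ComplexShape.up ℤ)

lemma homRCx_smul (P : ModSite.Mod O) (a : DerComp.GSec O) (J : CochainComplex (ModSite.Mod O) ℤ) :
    (homRCx P).map (a • 𝟙 J) = a • 𝟙 ((homRCx P).obj J) := by
  refine HomologicalComplex.hom_ext _ _ fun i => ModuleCat.hom_ext (LinearMap.ext fun (z : P ⟶ J.X i) => ?_)
  change (z ≫ (a • 𝟙 (J.X i)) : P ⟶ J.X i) = a • z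
  rw [Linear.comp_smul]
  exact congrArg (a • ·) (Category.comp_id z)

section Cohomology

variable (P : ModSite.Mod O) (J : CochainComplex (ModSite.Mod O) ℤ) (p : ℤ)

/-- cocycles of `Hom(P, J)` -/
noncomputable abbrev cyc : Submodule (DerComp.GSec O) (P ⟶ J.X p) :=
  LinearMap.ker (Linear.rightComp (DerComp.GSec O) P (J.d p (p + 1)))

/-- the map to the derived category -/
noncomputable def ψ₀ (z : cyc P J p) :
    (DerivedCategory.singleFunctor (ModSite.Mod O) 0).obj P ⟶
      ((DerivedCategory.Q : _ ⥤ DerivedCategory (ModSite.Mod O)).obj J)⟦p⟧ :=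
  DerivedCategory.Q.map (Cocycle.equivHomShift.symm
    (Cocycle.fromSingleMk (X := P) z.1 (zero_add p) (p + 1) rfl z.2)) ≫
    ((DerivedCategory.Q : _ ⥤ DerivedCategory (ModSite.Mod O)).commShiftIso p).hom.app J

lemma ψ₀_add (z w : cyc P J p) : ψ₀ P J p (z + w) = ψ₀ P J p z + ψ₀ P J p w := by
  have h : Cocycle.fromSingleMk (X := P) (z + w).1 (zero_add p) (p + 1) rfl (z + w).2 =
      Cocycle.fromSingleMk (X := P) z.1 (zero_add p) (p + 1) rfl z.2 +
      Cocycle.fromSingleMk (X := P) w.1 (zero_add p) (p + 1) rfl w.2 :=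
    Cocycle.fromSingleMk_add (X := P) z.1 w.1 (zero_add p) (p + 1) rfl z.2 w.2
  rw [ψ₀, h, map_add, Functor.map_add, Preadditive.add_comp]
  rfl

lemma ψ₀_precomp (g : P ⟶ P) (z : cyc P J p) (w : cyc P J p) (hw : w.1 = g ≫ z.1) :
    ψ₀ P J p w = (DerivedCategory.singleFunctor (ModSite.Mod O) 0).map g ≫ ψ₀ P J p z := by
  have h : Cocycle.fromSingleMk (X := P) w.1 (zero_add p) (p + 1) rfl w.2 =
      (Cocycle.fromSingleMk (X := P) z.1 (zero_add p) (p + 1) rfl z.2).precomp ((singleFunctor _ 0).map g) := by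
    rw [← Cocycle.fromSingleMk_precomp]
    congr 1
  rw [ψ₀, h, Cocycle.equivHomShift_symm_precomp, Functor.map_comp, Category.assoc]
  rfl

/-- the linear map from cocycles -/
noncomputable def ψ : cyc P J p →ₗ[DerComp.GSec O]
    ((DerivedCategory.singleFunctor (ModSite.Mod O) 0).obj P ⟶
      ((DerivedCategory.Q : _ ⥤ DerivedCategory (ModSite.Mod O)).obj J)⟦p⟧) where
  toFun := ψ₀ P J p
  map_add' := ψ₀_add P J p
  map_smul' a z := by
    rw [ψ₀_precomp P J p (DerComp.smulEnd a P) z (a • z) rfl, single_map_smulEnd, Linear.smul_comp, Category.id_comp]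
    rfl

lemma ψ_natural {J' : CochainComplex (ModSite.Mod O) ℤ} (g : J ⟶ J') (z : cyc P J p) (w : cyc P J' p)
    (hw : w.1 = z.1 ≫ g.f p) : ψ P J' p w = ψ P J p z ≫ (DerivedCategory.Q.map g)⟦p⟧' := by
  have h : Cocycle.fromSingleMk (X := P) w.1 (zero_add p) (p + 1) rfl w.2 =
      (Cocycle.fromSingleMk (X := P) z.1 (zero_add p) (p + 1) rfl z.2).postcomp g := by
    rw [← Cocycle.fromSingleMk_postcomp]
    congr 1
  change ψ₀ P J' p w = ψ₀ P J p z ≫ _
  rw [ψ₀, h, Cocycle.equivHomShift_symm_postcomp, Functor.map_comp, Category.assoc, ψ₀, Category.assoc]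
  exact congrArg _ (((DerivedCategory.Q : _ ⥤ DerivedCategory (ModSite.Mod O)).commShiftIso p).hom.naturality g)

variable [J.IsKInjective]

lemma ψ_surjective : Function.Surjective (ψ P J p) := by
  intro x
  let e := ((DerivedCategory.Q : _ ⥤ DerivedCategory (ModSite.Mod O)).commShiftIso p).app J
  obtain ⟨h, hh⟩ := KInj.Q_map_surjective (K := (singleFunctor (ModSite.Mod O) 0).obj P) (I := J⟦p⟧) (x ≫ e.inv)
  obtain ⟨f, hf, hf'⟩ := Cocycle.fromSingleMk_surjective (Cocycle.equivHomShift h) p (zero_add p) (p + 1) rfl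
  refine ⟨⟨f, hf⟩, ?_⟩
  change ψ₀ P J p _ = x
  have h2 : Cocycle.equivHomShift.symm (Cocycle.fromSingleMk (X := P) f (zero_add p) (p + 1) rfl hf) = h := by
    rw [hf']
    exact Cocycle.equivHomShift.symm_apply_apply h
  change DerivedCategory.Q.map (Cocycle.equivHomShift.symm
    (Cocycle.fromSingleMk (X := P) f (zero_add p) (p + 1) rfl hf)) ≫ _ = _
  rw [h2, hh, Category.assoc]
  exact (congrArg (x ≫ ·) e.inv_hom_id).trans (Category.comp_id x)

lemma ψ_eq_zero_iff (z : cyc P J p) : ψ P J p z = 0 ↔ ∃ y : P ⟶ J.X (p - 1), y ≫ J.d (p - 1) p = z.1 := by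
  let c := Cocycle.fromSingleMk (X := P) z.1 (zero_add p) (p + 1) rfl z.2
  rw [← Cocycle.fromSingleMk_mem_coboundaries_iff z.1 (zero_add p) (p + 1) rfl z.2 (p - 1) (by lia),
    ← CohomologyClass.toHom_mk_eq_zero_iff, CohomologyClass.toHom_mk]
  constructor
  · intro h
    have h' : DerivedCategory.Q.map (Cocycle.equivHomShift.symm c) =
        (DerivedCategory.Q : _ ⥤ DerivedCategory (ModSite.Mod O)).map 0 := by
      rw [Functor.map_zero, ← cancel_mono (((DerivedCategory.Q :
        _ ⥤ DerivedCategory (ModSite.Mod O)).commShiftIso p).hom.app J), zero_comp]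
      exact h
    obtain ⟨H⟩ := KInj.nonempty_homotopy_of_Q_map_eq h'
    exact (HomotopyCategory.eq_of_homotopy (Cocycle.equivHomShift.symm c) 0
      ((Homotopy.ofEq (sub_zero _).symm).trans H)).trans
      ((HomotopyCategory.quotient _ _).map_zero _ _)
  · intro h
    have h1 : DerivedCategory.Q.map (Cocycle.equivHomShift.symm c) = 0 := by
      rw [← cancel_mono ((DerivedCategory.quotientCompQhIso (ModSite.Mod O)).inv.app _), zero_comp]
      erw [(DerivedCategory.quotientCompQhIso (ModSite.Mod O)).inv.naturality]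
      rw [Functor.comp_map]
      erw [h]
      rw [Functor.map_zero, comp_zero]
    change DerivedCategory.Q.map (Cocycle.equivHomShift.symm c) ≫ _ = 0
    rw [h1, zero_comp]

/-- the terms of `Hom(P, J)` -/
noncomputable def valE (i : ℤ) : ((homRCx P).obj J).X i ≃ₗ[DerComp.GSec O] (P ⟶ J.X i) :=
  LinearEquiv.refl (DerComp.GSec O) (P ⟶ J.X i)

lemma valE_d (i j : ℤ) (z : ((homRCx P).obj J).X i) :
    valE P J j ((((homRCx P).obj J).d i j).hom z) = valE P J i z ≫ J.d i j := rfl

/-- cycles in the complex of homs -/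
noncomputable def toCyc : ((homRCx P).obj J).cycles p →ₗ[DerComp.GSec O] cyc P J p :=
  ((valE P J p).toLinearMap ∘ₗ (((homRCx P).obj J).iCycles p).hom).codRestrict (cyc P J p) fun z => by
    have h := LinearMap.congr_fun (congrArg ModuleCat.Hom.hom
      (((homRCx P).obj J).iCycles_d p (p + 1))) z
    exact (valE_d P J p (p + 1) _).symm.trans ((congrArg (valE P J (p + 1)) h).trans (map_zero _))

lemma toCyc_val (z : ((homRCx P).obj J).cycles p) :
    (toCyc P J p z).1 = valE P J p ((((homRCx P).obj J).iCycles p).hom z) := rfl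

lemma ker_homologyπ :
    LinearMap.ker ((((homRCx P).obj J).homologyπ p).hom) = LinearMap.ker (ψ P J p ∘ₗ toCyc P J p) := by
  let K := (homRCx P).obj J
  have hinj : Function.Injective (K.iCycles p).hom := (ModuleCat.mono_iff_injective _).1 inferInstance
  have hex : Function.Exact (K.toCycles (p - 1) p).hom (K.homologyπ p).hom :=
    (ShortComplex.ShortExact.moduleCat_exact_iff_function_exact
      (ShortComplex.mk _ _ (K.toCycles_comp_homologyπ (p - 1) p))).1
      (ShortComplex.exact_of_g_is_cokernel _ (K.homologyIsCokernel (p - 1) p (by simp)))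
  ext z
  simp only [LinearMap.mem_ker, LinearMap.comp_apply, ψ_eq_zero_iff, toCyc_val]
  constructor
  · intro h
    obtain ⟨y, rfl⟩ := (hex z).1 h
    refine ⟨valE P J (p - 1) y, (valE_d P J (p - 1) p y).symm.trans (congrArg _ ?_)⟩
    exact (LinearMap.congr_fun (congrArg ModuleCat.Hom.hom (K.toCycles_i (p - 1) p)) y).symm
  · rintro ⟨y, hy⟩
    refine (hex z).2 ⟨(valE P J (p - 1)).symm y, hinj ((valE P J p).injective ?_)⟩
    refine (congrArg _ (LinearMap.congr_fun (congrArg ModuleCat.Hom.hom (K.toCycles_i (p - 1) p)) _)).trans ?_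
    exact (valE_d P J (p - 1) p _).trans hy

lemma toCyc_surjective : Function.Surjective (toCyc P J p) := by
  let K := (homRCx P).obj J
  rintro ⟨f, hf⟩
  let φ : ModuleCat.of (DerComp.GSec O) (cyc P J p) ⟶ K.X p :=
    ModuleCat.ofHom ((valE P J p).symm.toLinearMap ∘ₗ (cyc P J p).subtype)
  have hφ : φ ≫ K.d p (p + 1) = 0 := ModuleCat.hom_ext (LinearMap.ext fun x =>
    (valE P J (p + 1)).injective ((valE_d P J p (p + 1) _).trans (x.2.trans (map_zero _).symm)))
  refine ⟨(K.liftCycles φ (p + 1) (by simp) hφ).hom ⟨f, hf⟩, Subtype.ext ?_⟩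
  exact congrArg (valE P J p)
    (LinearMap.congr_fun (congrArg ModuleCat.Hom.hom (K.liftCycles_i φ (p + 1) (by simp) hφ)) ⟨f, hf⟩)

/-- the cohomology of `Hom(P, J)` -/
noncomputable def homREquiv : ((homRCx P).obj J).homology p ≃ₗ[DerComp.GSec O]
    ((DerivedCategory.singleFunctor (ModSite.Mod O) 0).obj P ⟶
      ((DerivedCategory.Q : _ ⥤ DerivedCategory (ModSite.Mod O)).obj J)⟦p⟧) :=
  (LinearMap.quotKerEquivOfSurjective _ ((ModuleCat.epi_iff_surjective (((homRCx P).obj J).homologyπ p)).1 inferInstance)).symm.trans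
    ((Submodule.quotEquivOfEq _ _ (ker_homologyπ P J p)).trans
      (LinearMap.quotKerEquivOfSurjective _ ((ψ_surjective P J p).comp (toCyc_surjective P J p))))

lemma homREquiv_π (z : ((homRCx P).obj J).cycles p) :
    homREquiv P J p ((((homRCx P).obj J).homologyπ p).hom z) = ψ P J p (toCyc P J p z) := by
  simp only [homREquiv, LinearEquiv.trans_apply]
  rw [LinearMap.quotKerEquivOfSurjective_symm_apply]
  rfl

lemma homREquiv_natural {J' : CochainComplex (ModSite.Mod O) ℤ} [J'.IsKInjective] (g : J ⟶ J')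
    (x : ((homRCx P).obj J).homology p) :
    homREquiv P J' p ((HomologicalComplex.homologyMap ((homRCx P).map g) p).hom x) =
      homREquiv P J p x ≫ (DerivedCategory.Q.map g)⟦p⟧' := by
  obtain ⟨z, rfl⟩ := (ModuleCat.epi_iff_surjective (((homRCx P).obj J).homologyπ p)).1 inferInstance x
  have h1 := LinearMap.congr_fun (congrArg ModuleCat.Hom.hom (HomologicalComplex.homologyπ_naturality ((homRCx P).map g) p)) z
  refine (congrArg (homREquiv P J' p) h1).trans ?_
  change homREquiv P J' p ((((homRCx P).obj J').homologyπ p).hom _) = _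
  rw [homREquiv_π, homREquiv_π]
  refine ψ_natural P J p g _ _ ?_
  exact congrArg (valE P J' p)
    (LinearMap.congr_fun (congrArg ModuleCat.Hom.hom (HomologicalComplex.cyclesMap_i ((homRCx P).map g) p)) z)

/-- the same in the derived category of modules -/
noncomputable def homRHD :
    Dual.HD (DerComp.GSec O) (DerivedCategory.Q.obj ((homRCx P).obj J)) p ≃ₗ[DerComp.GSec O]
      ((DerivedCategory.singleFunctor (ModSite.Mod O) 0).obj P ⟶
        ((DerivedCategory.Q : _ ⥤ DerivedCategory (ModSite.Mod O)).obj J)⟦p⟧) :=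
  ((DerivedCategory.homologyFunctorFactors (ModuleCat.{u} (DerComp.GSec O)) p).app _).toLinearEquiv.trans
    (homREquiv P J p)

lemma homRHD_natural {J' : CochainComplex (ModSite.Mod O) ℤ} [J'.IsKInjective] (g : J ⟶ J')
    (x : Dual.HD (DerComp.GSec O) (DerivedCategory.Q.obj ((homRCx P).obj J)) p) :
    homRHD P J' p (((DerivedCategory.homologyFunctor (ModuleCat.{u} (DerComp.GSec O)) p).map
      (DerivedCategory.Q.map ((homRCx P).map g))).hom x) = homRHD P J p x ≫ (DerivedCategory.Q.map g)⟦p⟧' := by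
  have h1 := LinearMap.congr_fun (congrArg ModuleCat.Hom.hom
    ((DerivedCategory.homologyFunctorFactors (ModuleCat.{u} (DerComp.GSec O)) p).hom.naturality ((homRCx P).map g))) x
  exact (congrArg (homREquiv P J' p) h1).trans (homREquiv_natural P J p g _)

end Cohomology

lemma noHom_homRCx (P : ModSite.Mod O) (I₀ : Ideal (DerComp.GSec O)) :
    ∀ l : List (DerComp.GSec O), (∀ a ∈ l, a ∈ I₀) → ∀ (J : CochainComplex (ModSite.Mod O) ℤ), J.IsKInjective →
      KosNull l ((DerivedCategory.Q : _ ⥤ DerivedCategory (ModSite.Mod O)).obj J) →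
      RGammaI.NoHom I₀ (DerivedCategory.Q.obj ((homRCx P).obj J)) := by
  intro l
  induction l with
  | nil =>
    intro _ J hJ h
    have hz : IsZero ((DerivedCategory.Q : _ ⥤ DerivedCategory (ModSite.Mod O)).obj J) :=
      h.isZero (fun a ha => absurd ha List.not_mem_nil)
    refine RHomMod.noHom_of_isZero (RGammaI.isZero_of_HD fun n => ?_)
    haveI : Subsingleton (Dual.HD (DerComp.GSec O) (DerivedCategory.Q.obj ((homRCx P).obj J)) n) :=
      ⟨fun a b => (homRHD P J n).injective
        (((CategoryTheory.shiftFunctor (DerivedCategory (ModSite.Mod O)) n).map_isZero hz).eq_of_tgt _ _)⟩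
    exact ModuleCat.isZero_of_subsingleton
      ((RGammaI.hF (DerComp.GSec O) n).obj (DerivedCategory.Q.obj ((homRCx P).obj J)))
  | cons a l ih =>
    intro hl J hJ h
    haveI : (mappingCone (a • 𝟙 J)).IsKInjective := ProjForm.isKInjective_mappingCone _
    let Q' := (DerivedCategory.Q : _ ⥤ DerivedCategory (ModSite.Mod O))
    have hT : Triangle.mk (a • 𝟙 (Q'.obj J))
        (Q'.mapTriangle.obj (CochainComplex.mappingCone.triangle (a • 𝟙 J))).mor₂
        (Q'.mapTriangle.obj (CochainComplex.mappingCone.triangle (a • 𝟙 J))).mor₃ ∈ distTriang _ :=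
      isomorphic_distinguished _ (DerivedCategory.mappingCone_triangle_distinguished (a • 𝟙 J)) _
        (Triangle.isoMk _ _ (Iso.refl _) (Iso.refl _) (Iso.refl _)
          (by change (a • 𝟙 _) ≫ 𝟙 _ = 𝟙 _ ≫ Q'.map (a • 𝟙 J); simp [Functor.map_smul]) (by simp; rfl) (by simp; rfl))
    have h1 := ih (fun b hb => hl b (List.mem_cons_of_mem _ hb)) (mappingCone (a • 𝟙 J)) inferInstance
      ((kosNull_cons_iff a l hT).1 h)
    refine RGammaI.noHom_of_mulCone (hl a List.mem_cons_self) (RHomMod.isMulCone_Q a ((homRCx P).obj J))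
      (h1.of_iso (DerivedCategory.Q.mapIso ?_))
    exact CochainComplex.mappingCone.mapHomologicalComplexIso (a • 𝟙 J) (homR P) ≪≫
      eqToIso (by rw [← homRCx_smul P a J])

/-- transport of shifted homs along isomorphisms -/
noncomputable def homShiftCongr (PD : DerivedCategory (ModSite.Mod O)) {Y Z : DerivedCategory (ModSite.Mod O)}
    (i : Y ≅ Z) (q : ℤ) : (PD ⟶ Y⟦q⟧) ≃ₗ[DerComp.GSec O] (PD ⟶ Z⟦q⟧) :=
  Linear.homCongr (DerComp.GSec O) (Iso.refl PD) ((CategoryTheory.shiftFunctor _ q).mapIso i)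

lemma homShiftCongr_natural {PD Y Z Y' Z' : DerivedCategory (ModSite.Mod O)} (i : Y ≅ Z) (i' : Y' ≅ Z') (q : ℤ)
    (η : Y ⟶ Y') (g : Z ⟶ Z') (hg : g = i.inv ≫ η ≫ i'.hom) (z : PD ⟶ Z⟦q⟧) :
    (homShiftCongr PD i' q).symm (z ≫ g⟦q⟧') = (homShiftCongr PD i q).symm z ≫ η⟦q⟧' := by
  subst hg
  simp [homShiftCongr, Linear.homCongr]

lemma exists_kInj_model (Y : DerivedCategory (ModSite.Mod O)) :
    ∃ J₀ : CochainComplex (ModSite.Mod O) ℤ, J₀.IsKInjective ∧
      Nonempty (Y ≅ (DerivedCategory.Q : _ ⥤ DerivedCategory (ModSite.Mod O)).obj J₀) := by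
  haveI : IsGrothendieckAbelian.{u} (ModSite.Mod O) := KFlat.isGrothendieck O
  obtain ⟨⟨A₀⟩, hA, e⟩ := (KInj.isDeforming_Qh RPushSite.exists_kInj
    ((𝟭 (ModSite.Mod O)).mapHomotopyCategory (ComplexShape.up ℤ) ⋙ DerivedCategory.Qh)).res Y
  exact ⟨A₀, hA, e.map fun i => i ≪≫ (DerivedCategory.quotientCompQhIso _).app A₀⟩

/-- the cohomology of a model is homs -/
noncomputable def modelEquiv (P : ModSite.Mod O) {Y : DerivedCategory (ModSite.Mod O)}
    {J₀ : CochainComplex (ModSite.Mod O) ℤ} [J₀.IsKInjective]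
    (i : Y ≅ (DerivedCategory.Q : _ ⥤ DerivedCategory (ModSite.Mod O)).obj J₀) (q : ℤ) :
    Dual.HD (DerComp.GSec O) (DerivedCategory.Q.obj ((homRCx P).obj J₀)) q ≃ₗ[DerComp.GSec O]
      ((DerivedCategory.singleFunctor (ModSite.Mod O) 0).obj P ⟶ Y⟦q⟧) :=
  (homRHD P J₀ q).trans (homShiftCongr _ i q).symm

lemma modelEquiv_natural (P : ModSite.Mod O) {Y Y' : DerivedCategory (ModSite.Mod O)}
    {J₁ J₂ : CochainComplex (ModSite.Mod O) ℤ} [J₁.IsKInjective] [J₂.IsKInjective]
    (e₁ : Y ≅ (DerivedCategory.Q : _ ⥤ DerivedCategory (ModSite.Mod O)).obj J₁)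
    (e₂ : Y' ≅ (DerivedCategory.Q : _ ⥤ DerivedCategory (ModSite.Mod O)).obj J₂)
    (η : Y ⟶ Y') (g : J₁ ⟶ J₂) (hg : DerivedCategory.Q.map g = e₁.inv ≫ η ≫ e₂.hom) (q : ℤ)
    (x : Dual.HD (DerComp.GSec O) (DerivedCategory.Q.obj ((homRCx P).obj J₁)) q) :
    modelEquiv P e₂ q (((DerivedCategory.homologyFunctor (ModuleCat.{u} (DerComp.GSec O)) q).map
      (DerivedCategory.Q.map ((homRCx P).map g))).hom x) = modelEquiv P e₁ q x ≫ η⟦q⟧' :=
  (congrArg (homShiftCongr _ e₂ q).symm (homRHD_natural P J₁ q g x)).trans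
    (homShiftCongr_natural e₁ e₂ q η _ hg _)

lemma isDerivedComplete_model [IsNoetherianRing (DerComp.GSec O)] {I : DerComp.IdealSh O} {n : ℕ}
    (s : Fin n → DerComp.GSec O) (hI : I.IsGenBy s) (P : ModSite.Mod O) {L : DerivedCategory (ModSite.Mod O)}
    (hL : DerComp.IsDerComp O I L) {J₂ : CochainComplex (ModSite.Mod O) ℤ} [J₂.IsKInjective]
    (e₂ : L ≅ (DerivedCategory.Q : _ ⥤ DerivedCategory (ModSite.Mod O)).obj J₂) :
    DRing.IsDerivedComplete (Ideal.span (Set.range s)) (DerivedCategory.Q.obj ((homRCx P).obj J₂)) := by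
  have hspan : Ideal.span {a | a ∈ List.ofFn s} = Ideal.span (Set.range s) := by simp [Set.range]
  refine (DRingKP.isDerivedComplete_span_iff _ _ hspan _).2 fun f hf q => ?_
  obtain ⟨i, rfl⟩ := List.mem_ofFn.1 hf
  refine DRingKP.TBij.of_equiv ?_ (modelEquiv P e₂ q).symm
  have h := tBij_of_isDerComp hL (s i) (hI.1 i) ((DerivedCategory.singleFunctor (ModSite.Mod O) 0).obj P) q
  unfold DRingKP.TBij
  unfold TBij at h
  convert h using 1
  funext φ m
  simp [DRingKP.tele]

lemma noHom_cone_model [IsNoetherianRing (DerComp.GSec O)] {I : DerComp.IdealSh O} [DerComp.HasDerCompletion O I]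
    {n : ℕ} (s : Fin n → DerComp.GSec O) (hI : I.IsGenBy s) (P : ModSite.Mod O)
    (K : DerivedCategory (ModSite.Mod O)) {J₁ J₂ : CochainComplex (ModSite.Mod O) ℤ} [J₁.IsKInjective] [J₂.IsKInjective]
    (e₁ : K ≅ (DerivedCategory.Q : _ ⥤ DerivedCategory (ModSite.Mod O)).obj J₁)
    (e₂ : ((DerComp.derCompletion O I).obj K).obj ≅ (DerivedCategory.Q : _ ⥤ DerivedCategory (ModSite.Mod O)).obj J₂)
    (g : J₁ ⟶ J₂) (hg : DerivedCategory.Q.map g = e₁.inv ≫ DerComp.toDerCompletion I K ≫ e₂.hom) :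
    RGammaI.NoHom (Ideal.span (Set.range s)) (DerivedCategory.Q.obj (mappingCone ((homRCx P).map g))) := by
  obtain ⟨N, i', p', hT⟩ := distinguished_cocone_triangle (DerComp.toDerCompletion I K)
  have hN : KosNull (List.ofFn s) N := (killed_cone_toDerCompletion K hT).kosNull s hI
  haveI : (mappingCone g).IsKInjective := ProjForm.isKInjective_mappingCone _
  let eN : N ≅ (DerivedCategory.Q : _ ⥤ DerivedCategory (ModSite.Mod O)).obj (mappingCone g) :=
    Triangle.π₃.mapIso (isoTriangleOfIso₁₂ _ _ hT (DerivedCategory.mappingCone_triangle_distinguished g) e₁ e₂ (by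
      change DerComp.toDerCompletion I K ≫ e₂.hom = e₁.hom ≫ DerivedCategory.Q.map g
      rw [hg, Iso.hom_inv_id_assoc]))
  have hspan : Ideal.span {a | a ∈ List.ofFn s} = Ideal.span (Set.range s) := by simp [Set.range]
  exact (noHom_homRCx P _ _ (fun a ha => hspan ▸ Ideal.subset_span ha) _ inferInstance (hN.of_iso eN)).of_iso
    (DerivedCategory.Q.mapIso (CochainComplex.mappingCone.mapHomologicalComplexIso g (homR P)))

/-- **completion on global homs** -/
theorem completion_hom [IsNoetherianRing (DerComp.GSec O)] {I : DerComp.IdealSh O} [DerComp.HasDerCompletion O I]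
    {n : ℕ} (s : Fin n → DerComp.GSec O) (hI : I.IsGenBy s) (P : ModSite.Mod O)
    (K : DerivedCategory (ModSite.Mod O))
    (hfin : ∀ p : ℤ, Module.Finite (DerComp.GSec O)
      ((DerivedCategory.singleFunctor (ModSite.Mod O) 0).obj P ⟶ K⟦p⟧)) (p : ℤ) :
    ∃ e : ((DerivedCategory.singleFunctor (ModSite.Mod O) 0).obj P ⟶
        ((DerComp.derCompletion O I).obj K).obj⟦p⟧) ≃ₗ[DerComp.GSec O]
        AdicCompletion (Ideal.span (Set.range s))
          ((DerivedCategory.singleFunctor (ModSite.Mod O) 0).obj P ⟶ K⟦p⟧),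
      ∀ x, e (x ≫ (DerComp.toDerCompletion I K)⟦p⟧') = AdicCompletion.of (Ideal.span (Set.range s)) _ x := by
  let I₀ := Ideal.span (Set.range s)
  let L := ((DerComp.derCompletion O I).obj K).obj
  let η : K ⟶ L := DerComp.toDerCompletion I K
  obtain ⟨J₁, hJ₁, ⟨e₁⟩⟩ := exists_kInj_model K
  obtain ⟨J₂, hJ₂, ⟨e₂⟩⟩ := exists_kInj_model L
  haveI := hJ₁; haveI := hJ₂
  obtain ⟨g, hg⟩ := KInj.Q_map_surjective (K := J₁) (I := J₂) (e₁.inv ≫ η ≫ e₂.hom)
  let M₁ := DerivedCategory.Q.obj ((homRCx P).obj J₁)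
  let u := DerivedCategory.Q.map ((homRCx P).map g)
  have hc := isDerivedComplete_model s hI P ((DerComp.derCompletion O I).obj K).property e₂
  have hnull := noHom_cone_model s hI P K e₁ e₂ g hg
  haveI : DRing.HasDerivedCompletion I₀ := DRingKP.hasDerivedCompletion I₀ (IsNoetherian.noetherian I₀)
  obtain ⟨v, hv⟩ := DRingKP.exists_iso_completion I₀ u hc fun Z hZ =>
    RGammaI.bijective_of_noHom I₀ (DerivedCategory.mappingCone_triangle_distinguished ((homRCx P).map g)) hnull hZ
  have hf₁ : ∀ q, Module.Finite (DerComp.GSec O) (Dual.HD (DerComp.GSec O) M₁ q) := fun q => by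
    haveI := hfin q
    exact Module.Finite.equiv (modelEquiv P e₁ q).symm
  obtain ⟨e, he⟩ := DRingKP.exists_completion_HD I₀ M₁ hf₁ p
  refine ⟨((modelEquiv P e₂ p).symm.trans
    ((((DerivedCategory.homologyFunctor (ModuleCat.{u} (DerComp.GSec O)) p).mapIso v).toLinearEquiv).trans
    e)).trans ((AdicCompletion.congr I₀ (modelEquiv P e₁ p)).restrictScalars _), fun x => ?_⟩
  obtain ⟨y, rfl⟩ := (modelEquiv P e₁ p).surjective x
  have h2 : (modelEquiv P e₂ p).symm (modelEquiv P e₁ p y ≫ η⟦p⟧') =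
      ((DerivedCategory.homologyFunctor (ModuleCat.{u} (DerComp.GSec O)) p).map u).hom y :=
    (modelEquiv P e₂ p).injective (by rw [LinearEquiv.apply_symm_apply, modelEquiv_natural P e₁ e₂ η g hg])
  have h3 := he y
  rw [← hv, Functor.map_comp] at h3
  simp only [LinearEquiv.trans_apply]
  erw [h2]
  refine (congrArg _ h3).trans ?_
  exact AdicCompletion.map_of I₀ (modelEquiv P e₁ p).toLinearMap y

end Groth.Agent.Bousfield
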