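import Groth.Agent.Bousfield.RestrFree

/-!
On a topological space restriction commutes with derived completion.
-/

set_option autoImplicit false
set_option backward.isDefEq.respectTransparency false
set_option backward.isDefEq.respectTransparency.types false
set_option linter.style.haveILetI false
set_option maxHeartbeats 1000000
universe u

open CategoryTheory Limits Opposite Pretriangulated TopologicalSpace

attribute [local instance] HasDerivedCategory.standard

namespace Groth.Agent.Bousfield

variable {X : Type u} [TopologicalSpace X] {O : Sheaf (Opens.grothendieckTopology X) CommRingCat.{u}}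
  {I : DerComp.IdealSh O}

theorem killed_restr_opens (U : Opens X) {N : DerivedCategory (ModSite.Mod O)} (h : Killed I N) :
    Killed (I.over U) ((restrD O U).obj N) := by
  refine killed_restr U (fun p => killed_restr_test U p.1 p.2.1 p.2.2 fun Z hZ n => ?_) h
  let H₀ : Over U := Over.mk (homOfLE (inf_le_right : p.1 ⊓ U ≤ U))
  let k₀ : H₀.left ⟶ p.1 := homOfLE inf_le_left
  obtain ⟨i, hi⟩ := exists_restr_free_iso H₀ k₀ (fun H k =>
    ⟨Over.homMk (homOfLE (le_inf (leOfHom k) (leOfHom H.hom))), Subsingleton.elim _ _,
      fun _ _ => Over.OverMorphism.ext (Subsingleton.elim _ _)⟩) p.2.1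
  refine ((isDerComp_iff (I.over U) Z).1 hZ H₀ _ (I.map_mem k₀ p.2.2) n).of_comm
    ((DerivedCategory.singleFunctor (ModSite.Mod (O.over U)) 0).mapIso i.symm) ?_
  rw [Functor.mapIso_hom, ← Functor.map_comp, ← Functor.map_comp]
  exact congrArg _ (by rw [Iso.symm_hom, Iso.inv_comp_eq, ← Category.assoc, hi, Category.assoc, Iso.hom_inv_id, Category.comp_id])

theorem isIso_completion_restr (U : Opens X) [DerComp.HasDerCompletion O I]
    [DerComp.HasDerCompletion (O.over U) (I.over U)] (F : DerivedCategory (ModSite.Mod O))
    (h : DerComp.IsDerComp (O.over U) (I.over U) ((restrD O U).obj ((DerComp.derCompletion O I).obj F).obj)) :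
    IsIso (((DerComp.derCompletionAdj (O.over U) (I.over U)).homEquiv ((restrD O U).obj F)
      ⟨(restrD O U).obj ((DerComp.derCompletion O I).obj F).obj, h⟩).symm
        ((restrD O U).map (DerComp.toDerCompletion I F))) := by
  obtain ⟨N, i, p, hT⟩ := distinguished_cocone_triangle (DerComp.toDerCompletion I F)
  exact isIso_homEquiv_symm _ _ ((restrD O U).map_distinguished _ hT)
    (killed_restr_opens U (killed_cone_toDerCompletion F hT))

end Groth.Agent.Bousfield
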