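import Groth.Agent.Bousfield.DCGlobal
import Groth.Agent.DQCoh.Affine
import Groth.Agent.QC.Coherent
import Groth.Agent.Bousfield.Opens

/-!
Cohomology over affine opens of derived completions of coherent modules.
-/

set_option autoImplicit false
set_option maxHeartbeats 1000000
set_option linter.style.haveILetI false
set_option backward.isDefEq.respectTransparency false
set_option backward.isDefEq.respectTransparency.types false
universe u

open CategoryTheory Limits Opposite TopologicalSpace AlgebraicGeometry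

attribute [local instance] HasDerivedCategory.standard

namespace Groth.Agent.Bousfield

section Terminal

variable {C : Type u} [SmallCategory C] {J : GrothendieckTopology C} (O : Sheaf J CommRingCat.{u})

/-- evaluation of global sections -/
def evGSec (T : C) : DerComp.GSec O →+* O.obj.obj (op T) where
  toFun s := s.1 T
  map_one' := rfl
  map_mul' _ _ := rfl
  map_zero' := rfl
  map_add' _ _ := rfl

lemma evGSec_bijective (T : C) (t : ∀ W : C, W ⟶ T) (ht : ∀ (W : C) (a b : W ⟶ T), a = b) :
    Function.Bijective (evGSec O T) := by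
  refine ⟨fun s s' h => Subtype.ext (funext fun W => ?_), fun f => ⟨⟨fun W => (O.obj.map (t W).op).hom f, fun U V g => ?_⟩, ?_⟩⟩
  · rw [← s.2 (t W), ← s'.2 (t W)]
    exact congrArg (O.obj.map (t W).op).hom h
  · rw [← CommRingCat.comp_apply, ← Functor.map_comp, ← op_comp, ht V (g ≫ t U) (t V)]
  · change (O.obj.map (t T).op).hom f = f
    rw [ht T (t T) (𝟙 T), op_id, CategoryTheory.Functor.map_id]
    rfl

variable {O}

lemma sec_add (T : C) (M : ModSite.Mod O) (a b : ModSite.freeOn O T ⟶ M) :
    sec T M (a + b) = sec T M a + sec T M b := by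
  rw [sec_eq_app, sec_eq_app, sec_eq_app]
  rfl

lemma sec_smul (T : C) (M : ModSite.Mod O) (s : DerComp.GSec O) (φ : ModSite.freeOn O T ⟶ M) :
    sec T M (s • φ) = (show (ModSite.ringSh O).obj.obj (op T) from evGSec O T s) • sec T M φ := by
  rw [DerComp.smul_def, smulEnd_freeOn, sec_eU]
  rfl

/-- finiteness of maps out of the free module on a terminal object -/
theorem finite_homFree (T : C) (hbij : Function.Bijective (evGSec O T)) [IsNoetherianRing (O.obj.obj (op T))]
    (M : ModSite.Mod O) (hM : Module.Finite ((ModSite.ringSh O).obj.obj (op T)) (M.val.obj (op T))) :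
    Module.Finite (DerComp.GSec O) (ModSite.freeOn O T ⟶ M) := by
  let σ : DerComp.GSec O →+* (ModSite.ringSh O).obj.obj (op T) := evGSec O T
  haveI : IsNoetherianRing (DerComp.GSec O) :=
    isNoetherianRing_of_ringEquiv _ (RingEquiv.ofBijective (evGSec O T) hbij).symm
  letI : Module (DerComp.GSec O) (M.val.obj (op T)) := Module.compHom _ σ
  haveI : Module.Finite (DerComp.GSec O) (M.val.obj (op T)) := by
    obtain ⟨t, ht⟩ := hM.fg_top
    refine ⟨⟨t, eq_top_iff.2 fun x _ => ?_⟩⟩
    have hx : x ∈ Submodule.span ((ModSite.ringSh O).obj.obj (op T)) (t : Set (M.val.obj (op T))) :=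
      ht ▸ Submodule.mem_top
    induction hx using Submodule.span_induction with
    | mem y hy => exact Submodule.subset_span hy
    | zero => exact zero_mem _
    | add y z _ _ hy hz => exact add_mem (hy Submodule.mem_top) (hz Submodule.mem_top)
    | smul a y _ hy =>
      obtain ⟨s, rfl⟩ := hbij.surjective a
      exact Submodule.smul_mem _ s (hy Submodule.mem_top)
  exact Module.Finite.of_injective
    ({ toFun := sec T M, map_add' := sec_add T M, map_smul' := sec_smul T M } :
      (ModSite.freeOn O T ⟶ M) →ₗ[DerComp.GSec O] M.val.obj (op T)) (sec_injective T M)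

end Terminal

section Scheme

variable {X : Scheme.{u}} (U : X.Opens)

/-- the terminal object of the slice -/
abbrev topOver : Over U := Over.mk (𝟙 U)

lemma isNoetherianRing_gsec_over [IsLocallyNoetherian X] (hU : IsAffineOpen U) :
    IsNoetherianRing (DerComp.GSec (X.sheaf.over U)) := by
  haveI : IsNoetherianRing ((X.sheaf.over U).obj.obj (op (topOver U))) :=
    IsLocallyNoetherian.component_noetherian ⟨U, hU⟩
  exact isNoetherianRing_of_ringEquiv _ (RingEquiv.ofBijective (evGSec (X.sheaf.over U) (topOver U))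
    (evGSec_bijective _ _ (fun W => Over.homMk W.hom) fun W a b => Over.OverMorphism.ext (Subsingleton.elim _ _))).symm

/-- a sheaf of ideals with localising sections is generated on an affine open by finitely many sections -/
theorem exists_isGenBy_over [IsLocallyNoetherian X] (𝓘 : DerComp.IdealSh X.sheaf)
    (hqc : ∀ (U : X.affineOpens) (g : Γ(X, ↑U)),
      𝓘.ideal (X.basicOpen g) = Ideal.map (X.presheaf.map (homOfLE (X.basicOpen_le g)).op).hom (𝓘.ideal ↑U))
    (hU : IsAffineOpen U) :
    ∃ (n : ℕ) (s : Fin n → DerComp.GSec (X.sheaf.over U)), (𝓘.over U).IsGenBy s := by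
  haveI : IsNoetherianRing Γ(X, U) := IsLocallyNoetherian.component_noetherian ⟨U, hU⟩
  haveI : IsNoetherianRing (X.sheaf.obj.obj (op U)) := IsLocallyNoetherian.component_noetherian ⟨U, hU⟩
  obtain ⟨n, a, ha⟩ := Submodule.fg_iff_exists_fin_generating_family.1 (IsNoetherian.noetherian (𝓘.ideal U))
  have hspan : Ideal.span (Set.range a) = 𝓘.ideal U := ha
  refine ⟨n, fun i => DerComp.GSec.ofSect X.sheaf U (a i),
    fun i W => 𝓘.map_mem W.hom (hspan ▸ Ideal.subset_span ⟨i, rfl⟩), fun I' hI' W f hf => ?_⟩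
  let S : Sieve W :=
    { arrows := fun V _ => ∃ g : Γ(X, U), V.left ≤ X.basicOpen g ∧ X.basicOpen g ≤ W.left
      downward_closed := fun {V V'} g ⟨r, h1, h2⟩ b => ⟨r, (leOfHom b.left).trans h1, h2⟩ }
  refine I'.glue S ?_ fun V b hb => ?_
  · rw [GrothendieckTopology.mem_over_iff]
    intro x hx
    obtain ⟨r, hr, hxr⟩ := hU.exists_basicOpen_le ⟨x, hx⟩ ((leOfHom W.hom) hx)
    refine ⟨X.basicOpen r, homOfLE hr, ?_, hxr⟩
    rw [Sieve.overEquiv_iff]
    exact ⟨r, le_rfl, hr⟩
  · obtain ⟨r, hV, hr⟩ := hb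
    let R : Over U := Over.mk (homOfLE (X.basicOpen_le r))
    let c : R ⟶ W := Over.homMk (homOfLE hr) (Subsingleton.elim _ _)
    let d : V ⟶ R := Over.homMk (homOfLE hV) (Subsingleton.elim _ _)
    obtain rfl : b = d ≫ c := Over.OverMorphism.ext (Subsingleton.elim _ _)
    rw [op_comp, Functor.map_comp, CommRingCat.comp_apply]
    refine I'.map_mem d ?_
    have hle : 𝓘.ideal (X.basicOpen r) ≤ (I'.ideal R : Ideal (X.sheaf.obj.obj (op (X.basicOpen r)))) := by
      rw [hqc ⟨U, hU⟩ r, Ideal.map_le_iff_le_comap]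
      change 𝓘.ideal U ≤ _
      rw [← hspan]
      refine Ideal.span_le.2 ?_
      rintro _ ⟨i, rfl⟩
      exact hI' i R
    exact hle (𝓘.map_mem (homOfLE hr) hf)

lemma isZero_HD_inD' (M : X.Modules) {i : ℤ} (hi : i ≠ 0) : IsZero (DCoh.HD (DCoh.inD X M) i) := by
  rcases lt_or_gt_of_ne hi with h | h
  · exact (DerivedCategory.isGE_iff _ 0).1 inferInstance i h
  · exact (DerivedCategory.isLE_iff _ 0).1 inferInstance i h

theorem subsingleton_hom_freeOn {F : X.Modules} (hF : Coh.IsQCoh F) (hU : IsAffineOpen U) {q : ℤ} (hq : q ≠ 0) :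
    Subsingleton ((DerivedCategory.singleFunctor (ModSite.Mod X.sheaf) 0).obj (ModSite.freeOn X.sheaf U) ⟶
      ((DerivedCategory.singleFunctor (ModSite.Mod X.sheaf) 0).obj F)⟦q⟧) := by
  have hQ : DCoh.IsQCohD (DCoh.inD X F) := fun i => by
    by_cases hi : i = 0
    · subst hi
      exact QC.isQCoh_of_iso ((DerivedCategory.singleFunctorCompHomologyFunctorIso X.Modules 0).app F).symm hF
    · exact DQCoh.isQCoh_of_isZero (isZero_HD_inD' F hi)
  have hb := DQCoh.η_bijective_affine (DCoh.inD X F) hQ U hU q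
  have hz : Subsingleton (((HDU.modData X.sheaf).HS (DCoh.inD X F) q).obj.obj (op U)) :=
    AddCommGrpCat.subsingleton_of_isZero
      (IsZero.obj ((sheafToPresheaf _ _).map_isZero
        ((HDU.modData X.sheaf).Φ.map_isZero (isZero_HD_inD' F hq))) _)
  refine ⟨fun x y => ?_⟩
  let e := (DerivedCategory.singleFunctor (ModSite.Mod X.sheaf) 0).mapIso (ModSiteFree.freeOnIso X.sheaf U)
  rw [← cancel_epi e.inv]
  exact hb.1 (hz.elim _ _)

/-- vanishing over affine opens -/
theorem subsingleton_completion [IsLocallyNoetherian X] (𝓘 : DerComp.IdealSh X.sheaf)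
    (hqc : ∀ (U : X.affineOpens) (g : Γ(X, ↑U)),
      𝓘.ideal (X.basicOpen g) = Ideal.map (X.presheaf.map (homOfLE (X.basicOpen_le g)).op).hom (𝓘.ideal ↑U))
    [DerComp.HasDerCompletion X.sheaf 𝓘] (F : ModSite.Mod X.sheaf) (hF : Coh.IsCoh (X := X) F) (hU : IsAffineOpen U)
    (p : ℤ) (hp : p ≠ 0) :
    Subsingleton ((DerivedCategory.singleFunctor (ModSite.Mod X.sheaf) 0).obj (ModSite.freeOn X.sheaf U) ⟶
      ((DerComp.derCompletion X.sheaf 𝓘).obj
        ((DerivedCategory.singleFunctor (ModSite.Mod X.sheaf) 0).obj F)).obj⟦p⟧) := by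
  let O' := X.sheaf.over U
  let T : Over U := topOver U
  let P := ModSite.freeOn O' T
  let FD := (DerivedCategory.singleFunctor (ModSite.Mod X.sheaf) 0).obj F
  let K' := (restrD X.sheaf U).obj FD
  let L := ((DerComp.derCompletion X.sheaf 𝓘).obj FD).obj
  haveI := isNoetherianRing_gsec_over U hU
  haveI : DerComp.HasDerCompletion O' (𝓘.over U) := hasDerCompletion _
  obtain ⟨n, s, hs⟩ := exists_isGenBy_over U 𝓘 hqc hU
  let Pd := (DerivedCategory.singleFunctor (ModSite.Mod O') 0).obj P
  let eP : (extD X.sheaf U).obj Pd ≅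
      (DerivedCategory.singleFunctor (ModSite.Mod X.sheaf) 0).obj (ModSite.freeOn X.sheaf U) :=
    ((ModSite.extZero X.sheaf U).mapDerivedCategorySingleFunctor 0).app _ ≪≫
      (DerivedCategory.singleFunctor (ModSite.Mod X.sheaf) 0).mapIso (freeOverIso T)
  have hE : ∀ (Y : DerivedCategory (ModSite.Mod X.sheaf)) (q : ℤ),
      Subsingleton ((DerivedCategory.singleFunctor (ModSite.Mod X.sheaf) 0).obj (ModSite.freeOn X.sheaf U) ⟶ Y⟦q⟧) ↔
      Subsingleton (Pd ⟶ ((restrD X.sheaf U).obj Y)⟦q⟧) := fun Y q =>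
    eP.symm.homFromEquiv.subsingleton_congr.trans
      (Equiv.ofBijective _ (bijective_extRestrEquiv Pd q Y)).subsingleton_congr
  have hzero : ∀ q : ℤ, q ≠ 0 → Subsingleton (Pd ⟶ K'⟦q⟧) := fun q hq =>
    (hE FD q).1 (subsingleton_hom_freeOn U hF.1 hU hq)
  have hfin : ∀ q : ℤ, Module.Finite (DerComp.GSec O') (Pd ⟶ K'⟦q⟧) := fun q => by
    by_cases hq : q = 0
    · subst hq
      let σ := (((ModSite.restr X.sheaf U).mapDerivedCategorySingleFunctor 0).app F)
      haveI : IsNoetherianRing ((X.sheaf.over U).obj.obj (op T)) := IsLocallyNoetherian.component_noetherian ⟨U, hU⟩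
      haveI : Module.Finite (DerComp.GSec O') (P ⟶ (ModSite.restr X.sheaf U).obj F) :=
        finite_homFree T (evGSec_bijective _ _ (fun W => Over.homMk W.hom) fun W a b =>
          Over.OverMorphism.ext (Subsingleton.elim _ _)) _ ((QC.isCoh_iff_finite_sections.mp hF).2 ⟨U, hU⟩)
      let G := DerivedCategory.singleFunctor (ModSite.Mod O') 0
      refine Module.Finite.of_surjective
        ((Linear.homCongr (DerComp.GSec O') (Iso.refl Pd)
          (σ.symm.trans ((shiftFunctorZero (DerivedCategory (ModSite.Mod O')) ℤ).app K').symm)).toLinearMap ∘ₗ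
          G.mapLinearMap (DerComp.GSec O') (X := P) (Y := (ModSite.restr X.sheaf U).obj F)) ?_
      exact (Linear.homCongr (DerComp.GSec O') (Iso.refl Pd) _).surjective.comp G.map_surjective
    · haveI := hzero q hq
      infer_instance
  obtain ⟨e, -⟩ := completion_hom s hs P K' hfin p
  haveI := hzero p hp
  haveI : Subsingleton (AdicCompletion (Ideal.span (Set.range s)) (Pd ⟶ K'⟦p⟧)) :=
    ⟨fun a b => AdicCompletion.ext fun m => (Submodule.mkQ_surjective _).subsingleton.elim _ _⟩
  have hC : Subsingleton (Pd ⟶ ((DerComp.derCompletion O' (𝓘.over U)).obj K').obj⟦p⟧) := e.toEquiv.subsingleton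
  have h := isDerComp_restr (I := 𝓘) ((DerComp.derCompletion X.sheaf 𝓘).obj FD).property U
  haveI := isIso_completion_restr U FD h
  let v := ((DerComp.IsDerComp O' (𝓘.over U)).ι).mapIso
    (asIso (((DerComp.derCompletionAdj (X.sheaf.over U) (𝓘.over U)).homEquiv K'
      ⟨(restrD X.sheaf U).obj L, h⟩).symm ((restrD X.sheaf U).map (DerComp.toDerCompletion 𝓘 FD))))
  refine (hE L p).2 ?_
  exact (((CategoryTheory.shiftFunctor _ p).mapIso v).homToEquiv).subsingleton_congr.1 hC

end Scheme

end Groth.Agent.Bousfield
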