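import Groth.Agent.Bousfield.TVan
import Groth.Agent.KFlat.Site
import Groth.Agent.KFlat.LeftDerived
import Groth.Agent.DQCoh.TensorUnit

/-!
Linearity of the tensor product over global sections; `LTensorCx` computed on K-flat complexes of a site.
-/

set_option autoImplicit false
set_option backward.isDefEq.respectTransparency false
set_option backward.isDefEq.respectTransparency.types false
set_option linter.style.haveILetI false
set_option maxHeartbeats 1000000
universe u

open CategoryTheory Limits Opposite MonoidalCategory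

attribute [local instance] HasDerivedCategory.standard

namespace Groth.Agent.Bousfield

variable {C : Type u} [SmallCategory C] {J : GrothendieckTopology C} {O : Sheaf J CommRingCat.{u}}

/-- sectionwise scalar multiplication on a presheaf of modules -/
noncomputable def pSmul (s : DerComp.GSec O) (P : ModSiteExt.PM O.obj) : P ⟶ P where
  app X := ModuleCat.ofHom
    { toFun := fun x => DerComp.GSec.val' s X • x
      map_add' := fun x y => smul_add _ x y
      map_smul' := fun r x => by
        rw [RingHom.id_apply, smul_smul, smul_smul]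
        exact congrArg (fun t => t • x) (DerComp.GSec.val'_comm s X r) }
  naturality := fun {X Y} g => by
    ext x
    dsimp
    erw [PresheafOfModules.map_smul]
    congr 1
    exact (s.2 g.unop).symm

lemma pSmul_whiskerRight (s : DerComp.GSec O) (P Q : ModSiteExt.PM O.obj) :
    pSmul s P ▷ Q = pSmul s (P ⊗ Q) := by
  refine PresheafOfModules.hom_ext fun X => ?_
  refine ModuleCat.MonoidalCategory.tensor_ext (R := O.obj.obj X) fun p q => ?_
  rfl

lemma sheafify_pSmul (s : DerComp.GSec O) (P : ModSiteExt.PM O.obj) :
    (ModSite.sheafify O).map (pSmul s P) = DerComp.smulEnd s ((ModSite.sheafify O).obj P) := by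
  let adj := PresheafOfModules.sheafificationAdjunction.{u} (R := ModSite.ringSh O) (𝟙 (ModSite.ringSh O).obj)
  refine (adj.homEquiv _ _).injective ?_
  rw [adj.homEquiv_unit, adj.homEquiv_unit]
  refine (adj.unit.naturality (pSmul s P)).symm.trans ?_
  refine PresheafOfModules.hom_ext fun X => ?_
  ext x
  exact ((adj.unit.app P).app X).hom.map_smul (DerComp.GSec.val' s X) x

lemma smulEnd_tensor_left (s : DerComp.GSec O) (M N : ModSite.Mod O) :
    ((ModSite.tensorBi O).map (DerComp.smulEnd s M)).app N =
      DerComp.smulEnd s (((ModSite.tensorBi O).obj M).obj N) :=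
  (congrArg (ModSite.sheafify O).map
    (pSmul_whiskerRight s ((ModSiteExt.toPM O).obj M) ((ModSiteExt.toPM O).obj N))).trans (sheafify_pSmul s _)

lemma smulEnd_tensor_right (s : DerComp.GSec O) (M N : ModSite.Mod O) :
    ((ModSite.tensorBi O).obj M).map (DerComp.smulEnd s N) =
      DerComp.smulEnd s (((ModSite.tensorBi O).obj M).obj N) := by
  let β := KFlat.braid O
  rw [← cancel_mono ((β.hom.app M).app N)]
  refine ((β.hom.app M).naturality (DerComp.smulEnd s N)).trans ?_
  change (β.hom.app M).app N ≫ ((ModSite.tensorBi O).map (DerComp.smulEnd s N)).app M = _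
  rw [smulEnd_tensor_left]
  exact (DerComp.smulEnd_comm s ((β.hom.app M).app N)).symm

/-- termwise scalar multiplication on complexes -/
lemma smul_id_f (s : DerComp.GSec O) (P : CochainComplex (ModSite.Mod O) ℤ) (n : ℤ) :
    (s • 𝟙 P : P ⟶ P).f n = DerComp.smulEnd s (P.X n) := by
  rw [HomologicalComplex.smul_f_apply, HomologicalComplex.id_f, DerComp.smul_def, Category.comp_id]

lemma Q_smul_id (s : DerComp.GSec O) (P : CochainComplex (ModSite.Mod O) ℤ) :
    DerivedCategory.Q.map (s • 𝟙 P) = s • 𝟙 (DerivedCategory.Q.obj P) := by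
  rw [Functor.map_smul, CategoryTheory.Functor.map_id]

lemma tens_map_smul_id (s : DerComp.GSec O) (L K : CochainComplex (ModSite.Mod O) ℤ) :
    ((ModSite.tensorCx O).map (s • 𝟙 L)).app K = s • 𝟙 (((ModSite.tensorCx O).obj L).obj K) := by
  refine HomologicalComplex.hom_ext _ _ fun n => ?_
  rw [smul_id_f]
  refine HomologicalComplex.mapBifunctor.hom_ext fun p q h => ?_
  refine (HomologicalComplex.ι_mapBifunctorMap _ _ _ _ p q n h).trans ?_
  rw [smul_id_f, HomologicalComplex.id_f, CategoryTheory.Functor.map_id, Category.id_comp, smulEnd_tensor_left]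
  exact DerComp.smulEnd_comm s _

/-- the resolutions deriving `- ⊗ P` on a site -/
noncomputable def leftResSite (P : CochainComplex (ModSite.Mod O) ℤ) :
    KFlat.LeftRes (HomologicalComplex.quasiIso (ModSite.Mod O) (ComplexShape.up ℤ)) (ModSite.tensorCxQ P)
      (KFlat.RFlat (ModSite.tensorBi O)) where
  ρ := (KFlat.exists_functorial_resolution_site O).choose
  ψ := (KFlat.exists_functorial_resolution_site O).choose_spec.choose
  mem G := ((KFlat.exists_functorial_resolution_site O).choose_spec.choose_spec G).1
  weq G := ((KFlat.exists_functorial_resolution_site O).choose_spec.choose_spec G).2.2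
  isIso_map {K L} α hK hL hα := by
    have : QuasiIso α := hα
    have hC : KFlat.RFlat (ModSite.tensorBi O) (CochainComplex.mappingCone α) :=
      KFlat.rflat_mappingCone (B := ModSite.tensorBi O) α hK hL
    have := KFlat.quasiIso_map_app_of_acyclic (B := ModSite.tensorBi O) α P
      (KFlat.acyclic_of_iso (KFlat.swapIso (KFlat.braid O) P _)
        (KFlat.acyclic_tens_of_acyclic_rflat (KFlat.braid O) (KFlat.exists_resolution_site' O) hC
          (KFlat.mappingCone_acyclic α) P))
    exact inferInstanceAs (IsIso (DerivedCategory.Q.map (((ModSite.tensorCx O).map α).app P)))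

/-- the counit of `- ⊗^L P` -/
noncomputable abbrev ltCounit (P : CochainComplex (ModSite.Mod O) ℤ) [ModSite.HasLTensorCx P] :
    DerivedCategory.Q ⋙ ModSite.LTensorCx P ⟶ ModSite.tensorCxQ P :=
  (ModSite.tensorCxQ P).totalLeftDerivedCounit DerivedCategory.Q
    (HomologicalComplex.quasiIso (ModSite.Mod O) (ComplexShape.up ℤ))

lemma isIso_ltCounit (P : CochainComplex (ModSite.Mod O) ℤ) [ModSite.HasLTensorCx P]
    {L : CochainComplex (ModSite.Mod O) ℤ} (hL : KFlat.RFlat (ModSite.tensorBi O) L) :
    IsIso ((ltCounit P).app L) :=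
  (leftResSite P).isIso_app (ModSite.LTensorCx P) (ltCounit P) hL

/-- every object has a K-flat model -/
lemma exists_rflat_model (X : DerivedCategory (ModSite.Mod O)) :
    ∃ L : CochainComplex (ModSite.Mod O) ℤ,
      KFlat.RFlat (ModSite.tensorBi O) L ∧ Nonempty (DerivedCategory.Q.obj L ≅ X) := by
  obtain ⟨L, q, hL, hq⟩ := KFlat.exists_resolution_site' O (DerivedCategory.Q.objPreimage X)
  exact ⟨L, hL, ⟨asIso (DerivedCategory.Q.map q) ≪≫ DerivedCategory.Q.objObjPreimageIso X⟩⟩

/-- derived tensor product is linear on the identities -/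
lemma lTensor_smul_id (P : CochainComplex (ModSite.Mod O) ℤ) [ModSite.HasLTensorCx P] (s : DerComp.GSec O)
    (X : DerivedCategory (ModSite.Mod O)) :
    (ModSite.LTensorCx P).map (s • 𝟙 X) = s • 𝟙 ((ModSite.LTensorCx P).obj X) := by
  obtain ⟨L, hL, ⟨i⟩⟩ := exists_rflat_model X
  let T := ModSite.LTensorCx P
  have hc := isIso_ltCounit P hL
  have h0 : T.map (s • 𝟙 (DerivedCategory.Q.obj L)) = s • 𝟙 (T.obj (DerivedCategory.Q.obj L)) := by
    rw [← cancel_mono ((ltCounit P).app L), Linear.smul_comp, Category.id_comp, ← Q_smul_id]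
    refine ((ltCounit P).naturality (s • 𝟙 L)).trans ?_
    change _ ≫ DerivedCategory.Q.map (((ModSite.tensorCx O).map (s • 𝟙 L)).app P) = _
    rw [tens_map_smul_id, Q_smul_id, Linear.comp_smul]
    erw [Category.comp_id]
  rw [← cancel_epi (T.map i.hom), ← T.map_comp, Linear.comp_smul, Category.comp_id, Linear.comp_smul,
    Category.comp_id, ← Category.id_comp i.hom, ← Linear.smul_comp, T.map_comp, h0, Linear.smul_comp]
  simp [T]

end Groth.Agent.Bousfield
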