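import Groth.Agent.Bousfield.Restrict
import Groth.Agent.Bousfield.TensLinear
import Groth.Agent.KFlat.MapTens

/-!
`RHom(P, L)` is derived complete when `L` is.
-/

set_option autoImplicit false
set_option backward.isDefEq.respectTransparency false
set_option backward.isDefEq.respectTransparency.types false
set_option linter.style.haveILetI false
set_option maxHeartbeats 1000000
universe u

open CategoryTheory Limits Opposite

attribute [local instance] HasDerivedCategory.standard

namespace Groth.Agent.Bousfield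

lemma TBij.shift {D : Type*} [Category D] [Preadditive D] [HasShift D ℤ]
    [∀ n : ℤ, (shiftFunctor D n).Additive] {X K : D} {e : X ⟶ X} (m n : ℤ) (hmn : m + n = 0)
    (h : TBij (e⟦m⟧') K) : TBij e (K⟦n⟧) := by
  let i := (shiftFunctorCompIsoId D m n hmn).app X
  let b : (X⟦m⟧ ⟶ K) →+ (X ⟶ K⟦n⟧) :=
    AddMonoidHom.mk' (fun g => i.inv ≫ g⟦n⟧') fun g g' => by rw [Functor.map_add, Preadditive.comp_add]
  refine h.transfer b ⟨fun g g' hg => (shiftFunctor D n).map_injective ((cancel_epi i.inv).1 hg), fun y =>
    ⟨(shiftFunctor D n).preimage (i.hom ≫ y), by simp [b]⟩⟩ fun g => ?_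
  change i.inv ≫ (e⟦m⟧' ≫ g)⟦n⟧' = e ≫ i.inv ≫ g⟦n⟧'
  rw [Functor.map_comp, ← Category.assoc, ← Category.assoc e]
  congr 1
  exact ((shiftFunctorCompIsoId D m n hmn).inv.naturality e).symm

variable {C : Type u} [SmallCategory C] {J : GrothendieckTopology C} {O : Sheaf J CommRingCat.{u}} (U : C)

/-- `j_! M ⊗ P ≅ j_!(M ⊗ P|_U)` on complexes -/
noncomputable def projCxIso (L : CochainComplex (ModSite.Mod (O.over U)) ℤ) (P : CochainComplex (ModSite.Mod O) ℤ) :
    ((ModSite.tensorCx O).obj (((ModSite.extZero O U).mapHomologicalComplex (ComplexShape.up ℤ)).obj L)).obj P ≅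
      ((ModSite.extZero O U).mapHomologicalComplex (ComplexShape.up ℤ)).obj
        (((ModSite.tensorCx (O.over U)).obj L).obj (((ModSite.restr O U).mapHomologicalComplex (ComplexShape.up ℤ)).obj P)) :=
  haveI : PreservesColimitsOfSize.{u, u} (ModSite.extZero O U) :=
    (ModSite.extZeroAdj O U).leftAdjoint_preservesColimits
  haveI : PreservesColimitsOfSize.{0, 0} (ModSite.extZero O U) := preservesSmallestColimits_of_preservesColimits _
  KFlat.mapTensIso (ModSite.extZero O U) (𝟭 (ModSite.Mod O)) (𝟭 (ModSite.Mod (O.over U)))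
    (ModSite.restr O U) (ModSite.extZero O U) (ModSite.tensorBi (O.over U)) (ModSite.tensorBi O)
    (fun M N => ((ModSiteExt.projectionIso O U N).app M).symm)
    (fun {M M'} f N => (ModSiteExt.projectionIso O U N).inv.naturality f)
    (fun M {N N'} g => by
      have h := ModSiteExt.projectionIso_naturality_right O U M g
      exact ((((ModSiteExt.projectionIso O U N').app M).comp_inv_eq.2)
        ((((ModSiteExt.projectionIso O U N).app M).inv_comp_eq.2 h).symm.trans (Category.assoc _ _ _).symm))) L P

lemma projCxIso_natural {L L' : CochainComplex (ModSite.Mod (O.over U)) ℤ} (g : L ⟶ L')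
    (P : CochainComplex (ModSite.Mod O) ℤ) :
    ((ModSite.tensorCx O).map (((ModSite.extZero O U).mapHomologicalComplex (ComplexShape.up ℤ)).map g)).app P ≫
        (projCxIso U L' P).hom =
      (projCxIso U L P).hom ≫ ((ModSite.extZero O U).mapHomologicalComplex (ComplexShape.up ℤ)).map
        (((ModSite.tensorCx (O.over U)).map g).app
          (((ModSite.restr O U).mapHomologicalComplex (ComplexShape.up ℤ)).obj P)) := by
  haveI : PreservesColimitsOfSize.{u, u} (ModSite.extZero O U) :=
    (ModSite.extZeroAdj O U).leftAdjoint_preservesColimits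
  haveI : PreservesColimitsOfSize.{0, 0} (ModSite.extZero O U) := preservesSmallestColimits_of_preservesColimits _
  refine HomologicalComplex.hom_ext _ _ fun n => ?_
  simp only [HomologicalComplex.comp_f, projCxIso, KFlat.mapTensIso, HomologicalComplex.Hom.isoOfComponents_hom_f,
    asIso_hom, Functor.mapHomologicalComplex_map_f]
  refine HomologicalComplex.mapBifunctor.hom_ext fun p q h => ?_
  refine (Category.assoc _ _ _).symm.trans ?_
  erw [HomologicalComplex.ι_mapBifunctorMap]
  simp only [HomologicalComplex.id_f, CategoryTheory.Functor.map_id, Category.id_comp]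
  refine (Category.assoc _ _ _).trans ?_
  have hι := fun L₁ => KFlat.ι_mapTensX (ModSite.extZero O U) (𝟭 (ModSite.Mod O)) (𝟭 (ModSite.Mod (O.over U)))
    (ModSite.restr O U) (ModSite.extZero O U) (ModSite.tensorBi (O.over U)) (ModSite.tensorBi O)
    (fun M N => ((ModSiteExt.projectionIso O U N).app M).symm) L₁ P n p q h
  refine (congrArg (_ ≫ ·) (hι L')).trans ?_
  refine Eq.trans ?_ ((congrArg (· ≫ _) (hι L)).symm.trans (Category.assoc _ _ _))
  refine Eq.trans ?_ (Category.assoc _ _ _).symm
  rw [← (ModSite.extZero O U).map_comp]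
  erw [HomologicalComplex.ι_mapBifunctorMap]
  simp only [HomologicalComplex.id_f, CategoryTheory.Functor.map_id, Category.id_comp]
  erw [Functor.map_comp]
  refine (Category.assoc _ _ _).symm.trans (Eq.trans ?_ (Category.assoc _ _ _))
  exact congrArg (· ≫ _) ((ModSiteExt.projectionIso O U (P.X q)).inv.naturality (g.f p))

lemma single_map_smul (s : DerComp.GSec O) (M : ModSite.Mod O) (n : ℤ) :
    (CochainComplex.singleFunctor (ModSite.Mod O) n).map (DerComp.smulEnd s M) =
      s • 𝟙 ((CochainComplex.singleFunctor (ModSite.Mod O) n).obj M) := by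
  refine HomologicalComplex.hom_ext _ _ fun i => ?_
  rw [smul_id_f]
  by_cases h : i = n
  · subst h
    change ((HomologicalComplex.single (ModSite.Mod O) (ComplexShape.up ℤ) i).map (DerComp.smulEnd s M)).f i = _
    rw [HomologicalComplex.single_map_f_self, DerComp.smulEnd_comm]
    exact Iso.hom_inv_id_assoc _ _
  · exact (HomologicalComplex.isZero_single_obj_X (ComplexShape.up ℤ) n M i h).eq_of_src _ _

variable {U}

/-- derived complete along a section: all towers on extensions by zero -/
theorem GoodAt.tBij_ext {K : DerivedCategory (ModSite.Mod O)} {f : O.obj.obj (op U)} (h : GoodAt K U f)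
    (Y : DerivedCategory (ModSite.Mod (O.over U))) :
    TBij ((extD O U).map (DerComp.GSec.ofSect O U f • 𝟙 Y)) K :=
  ((tBij_ext_iff _ 0 K).2 (h.tBij_slice Y 0)).of_iso ((shiftFunctorZero _ ℤ).app K)

theorem isDerComp_rhom (I : DerComp.IdealSh O) (P : CochainComplex (ModSite.Mod O) ℤ) [ModSite.HasLTensorCx P]
    [DerComp.HasRHom P] (L : DerivedCategory (ModSite.Mod O)) (hL : DerComp.IsDerComp O I L) :
    DerComp.IsDerComp O I ((DerComp.RHom P).obj L) := by
  rw [isDerComp_iff]
  intro U f hf n
  let T := ModSite.LTensorCx P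
  let adj := DerComp.RHomAdj P
  let F := DerivedCategory.singleFunctor (ModSite.Mod O) 0
  let M := ModSite.freeOn O U
  refine TBij.shift (-n) n (neg_add_cancel n) ?_
  let e' := (F.map (eU U f))⟦-n⟧'
  suffices TBij (T.map e') L by
    let b : (T.obj ((F.obj M)⟦-n⟧) ⟶ L) →+ ((F.obj M)⟦-n⟧ ⟶ (DerComp.RHom P).obj L) :=
      AddMonoidHom.mk' (adj.homEquiv _ _) fun g g' => by
        haveI : PreservesLimitsOfSize.{0, 0} (DerComp.RHom P) := adj.rightAdjoint_preservesLimits
        haveI : PreservesBinaryBiproducts (DerComp.RHom P) :=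
          preservesBinaryBiproducts_of_preservesBinaryProducts _
        haveI : (DerComp.RHom P).Additive := Functor.additive_of_preservesBinaryBiproducts _
        simp [Adjunction.homEquiv_unit, Preadditive.comp_add]
    exact this.transfer b (adj.homEquiv _ _).bijective fun g => adj.homEquiv_naturality_left _ _
  -- the shifted free module as a complex
  let sn := CochainComplex.singleFunctor (ModSite.Mod O) n
  let σ : DerivedCategory.singleFunctor (ModSite.Mod O) 0 ⋙ shiftFunctor (DerivedCategory (ModSite.Mod O)) (-n) ≅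
      sn ⋙ DerivedCategory.Q :=
    (DerivedCategory.singleFunctors (ModSite.Mod O)).shiftIso (-n) n 0 (neg_add_cancel n) ≪≫
      DerivedCategory.singleFunctorIsoCompQ (ModSite.Mod O) n
  refine TBij.of_comm (e := T.map (DerivedCategory.Q.map (sn.map (eU U f)))) ?_ (T.mapIso (σ.app M)) ?_
  swap
  · rw [Functor.mapIso_hom, ← T.map_comp, ← T.map_comp]
    exact congrArg T.map (σ.hom.naturality (eU U f)).symm
  -- compute on the K-flat complex
  have hS : KFlat.RFlat (ModSite.tensorBi O) (sn.obj M) :=
    KFlat.rflat_single ((KFlat.flatObj_iff O M).2 (ModSiteFree.isFlat_freeOn U)) n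
  haveI := isIso_ltCounit P hS
  refine TBij.of_comm (e := DerivedCategory.Q.map (((ModSite.tensorCx O).map (sn.map (eU U f))).app P)) ?_
    (asIso ((ltCounit P).app (sn.obj M))) ?_
  swap
  · exact ((ltCounit P).naturality (sn.map (eU U f))).symm
  -- projection formula
  let j := (ModSite.extZero O U).mapHomologicalComplex (ComplexShape.up ℤ)
  let M₀ := (CochainComplex.singleFunctor (ModSite.Mod (O.over U)) n).obj (ModSite.unit (O.over U))
  let s := DerComp.GSec.ofSect O U f
  let Y₀ := ((ModSite.tensorCx (O.over U)).obj M₀).obj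
    (((ModSite.restr O U).mapHomologicalComplex (ComplexShape.up ℤ)).obj P)
  let τ := HomologicalComplex.singleMapHomologicalComplex (ModSite.extZero O U) (ComplexShape.up ℤ) n
  let i₁ : ((ModSite.tensorCx O).obj (sn.obj M)).obj P ≅ j.obj Y₀ :=
    ((ModSite.tensorCx O).mapIso (τ.app (ModSite.unit (O.over U))).symm).app P ≪≫ projCxIso U M₀ P
  have hi₁ : ((ModSite.tensorCx O).map (sn.map (eU U f))).app P ≫ i₁.hom = i₁.hom ≫ j.map (s • 𝟙 Y₀) := by
    have h1 : sn.map (eU U f) ≫ (τ.app (ModSite.unit (O.over U))).inv =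
        (τ.app (ModSite.unit (O.over U))).inv ≫ j.map (s • 𝟙 M₀) := by
      rw [← single_map_smul]
      exact τ.inv.naturality (DerComp.smulEnd s (ModSite.unit (O.over U)))
    have h2 := congrArg (fun t => ((ModSite.tensorCx O).map t).app P) h1
    simp only [Functor.map_comp, NatTrans.comp_app] at h2
    simp only [i₁, Iso.trans_hom, Iso.app_hom, Functor.mapIso_hom, Iso.symm_hom, Category.assoc]
    have h3 : ((ModSite.tensorCx (O.over U)).map (s • 𝟙 M₀)).app
        (((ModSite.restr O U).mapHomologicalComplex (ComplexShape.up ℤ)).obj P) = s • 𝟙 Y₀ :=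
      tens_map_smul_id s M₀ _
    rw [reassoc_of% h2, projCxIso_natural]
    exact congrArg (fun t => _ ≫ (projCxIso U M₀ P).hom ≫ j.map t) h3
  refine TBij.of_comm (e := (extD O U).map (s • 𝟙 (DerivedCategory.Q.obj Y₀)))
    ((goodAt_of_isDerComp hL hf).tBij_ext _)
    (DerivedCategory.Q.mapIso i₁ ≪≫ ((ModSite.extZero O U).mapDerivedCategoryFactors.app Y₀).symm) ?_
  rw [Iso.trans_hom, Functor.mapIso_hom, Iso.symm_hom, Iso.app_inv, ← Category.assoc, ← DerivedCategory.Q.map_comp,
    hi₁, DerivedCategory.Q.map_comp, Category.assoc, Category.assoc, ← Q_smul_id]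
  exact congrArg (_ ≫ ·) ((ModSite.extZero O U).mapDerivedCategoryFactors.inv.naturality (s • 𝟙 Y₀)).symm

end Groth.Agent.Bousfield
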