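import Groth.Agent.Bousfield.KosNull
import Groth.Agent.Bousfield.RHomComp
import Groth.Agent.Bousfield.DerComp

/-!
Objects without maps to derived complete ones.
-/

set_option autoImplicit false
set_option backward.isDefEq.respectTransparency false
set_option backward.isDefEq.respectTransparency.types false
set_option linter.style.haveILetI false
set_option maxHeartbeats 1000000
universe u

open CategoryTheory Limits Opposite Pretriangulated

attribute [local instance] HasDerivedCategory.standard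

namespace Groth.Agent.Bousfield

section Generic

variable {D : Type*} [Category D] [Preadditive D] {R : Type*} [CommRing R] [Linear R D]

/-- nilpotent scalars on the target -/
lemma NilOn.tBij {s : R} {K : D} (h : NilOn s K) (Y : D) : TBij (s • 𝟙 Y) K := by
  obtain ⟨m, hm⟩ := h
  have h0 : ∀ x : Y ⟶ K, s ^ m • x = 0 := fun x => by
    calc s ^ m • x = x ≫ (s ^ m • 𝟙 K) := by simp
      _ = 0 := by rw [hm, comp_zero]
  have hS : SBij (Y ⟶ K) s := by
    refine sBij_of_exists (fun y => ⟨fun n => ∑ i ∈ Finset.range m, s ^ i • y (n + i), fun n => ?_⟩) fun φ hφ => ?_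
    · rw [Finset.smul_sum]
      have h1 := Finset.sum_range_succ' (fun i => s ^ i • y (n + i)) m
      rw [Finset.sum_range_succ, h0, add_zero, pow_zero, one_smul, Nat.add_zero] at h1
      simp only
      rw [h1, add_comm]
      congr 1
      exact Finset.sum_congr rfl fun i _ => by rw [smul_smul, ← pow_succ', Nat.add_assoc, Nat.add_comm 1]
    · have : ∀ k, φ 0 = s ^ k • φ k := by
        intro k
        induction k with
        | zero => simp
        | succ k ih => rw [ih, hφ k, smul_smul, ← pow_succ]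
      rw [this m, h0]
  simpa [TBij, SBij] using hS

variable [HasZeroObject D] [HasShift D ℤ] [∀ n : ℤ, (shiftFunctor D n).Additive]
  [∀ n : ℤ, (shiftFunctor D n).Linear R] [Pretriangulated D]

/-- no maps from a null object to one with bijective towers -/
theorem KosNull.hom_eq_zero (l : List R) {X L : D} (h : KosNull l X)
    (hL : ∀ a ∈ l, ∀ (Y : D) (j : ℤ), TBij (a • 𝟙 Y) (L⟦j⟧)) (j : ℤ) (g : X ⟶ L⟦j⟧) : g = 0 := by
  induction l generalizing X j with
  | nil => exact (h.isZero (by simp)).eq_of_src _ _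
  | cons a l ih =>
    obtain ⟨Z, i, p, hT⟩ := distinguished_cocone_triangle (a • 𝟙 X)
    have hb := (subsingleton_iff_bijective _ hT L).1 fun n => ⟨fun f f' => by
      rw [ih ((kosNull_cons_iff a l hT).1 h) (fun b hb => hL b (List.mem_cons_of_mem _ hb)) n f,
        ih ((kosNull_cons_iff a l hT).1 h) (fun b hb => hL b (List.mem_cons_of_mem _ hb)) n f']⟩
    choose r hr using (hb j).2
    let φ : ℕ → (X ⟶ L⟦j⟧) := fun n => r^[n] g
    have hφ : ∀ n, φ n = (a • 𝟙 X) ≫ φ (n + 1) := fun n => by
      simp only [φ, Function.iterate_succ_apply']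
      exact (hr _).symm
    exact congrFun ((hL a (List.mem_cons_self ..) X j).1 (a₁ := φ) (a₂ := 0)
      (funext fun n => by simp [← hφ n])) 0

/-- covariant form of `subsingleton_iff_bijective` -/
theorem subsingleton_iff_bijective_left (T : Triangle D) (hT : T ∈ distTriang D) (Y : D) :
    (∀ (n : ℤ) (g : Y⟦n⟧ ⟶ T.obj₃), g = 0) ↔
      ∀ n : ℤ, Function.Bijective fun g : Y⟦n⟧ ⟶ T.obj₁ => g ≫ T.mor₁ := by
  constructor
  · intro h n
    refine ⟨fun f g hfg => sub_eq_zero.1 ?_, fun g => ?_⟩
    · have h0 : (f - g) ≫ T.mor₁ = 0 := by rw [Preadditive.sub_comp, sub_eq_zero]; exact hfg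
      let i := (shiftFunctorAdd D n (1 : ℤ)).app Y
      obtain ⟨k, hk⟩ := T.coyoneda_exact₁ hT ((f - g)⟦(1 : ℤ)⟧')
        (by rw [← Functor.map_comp, h0, Functor.map_zero])
      refine (shiftFunctor D (1 : ℤ)).map_injective ?_
      rw [hk, Functor.map_zero]
      have : i.hom ≫ k = 0 := h _ _
      rw [(cancel_epi i.hom).1 (this.trans comp_zero.symm), zero_comp]
    · obtain ⟨k, hk⟩ := T.coyoneda_exact₂ hT g (h n _)
      exact ⟨k, hk.symm⟩
  · intro h n g
    have h3 : g ≫ T.mor₃ = 0 := by
      let i := (shiftFunctorCompIsoId D (-1 : ℤ) 1 (by norm_num)).app (Y⟦n⟧)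
      let i' := (shiftFunctorAdd D n (-1 : ℤ)).app Y
      obtain ⟨x, hx⟩ : ∃ x : (Y⟦n⟧)⟦(-1 : ℤ)⟧ ⟶ T.obj₁, x⟦(1 : ℤ)⟧' = i.hom ≫ g ≫ T.mor₃ :=
        ⟨_, (shiftFunctor D (1 : ℤ)).map_preimage _⟩
      have hx0 : x ≫ T.mor₁ = 0 := by
        refine (shiftFunctor D (1 : ℤ)).map_injective ?_
        rw [Functor.map_comp, hx, Category.assoc, Category.assoc, comp_distTriang_mor_zero₃₁ _ hT, comp_zero,
          comp_zero, Functor.map_zero]
      have : i'.hom ≫ x = 0 := (h (n + -1)).1 (by simp [hx0])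
      rw [(cancel_epi i'.hom).1 (this.trans comp_zero.symm), Functor.map_zero] at hx
      exact (cancel_epi i.hom).1 (hx.symm.trans comp_zero.symm)
    obtain ⟨k, hk⟩ := T.coyoneda_exact₃ hT g h3
    obtain ⟨x, hx⟩ := (h n).2 k
    simp only at hx
    rw [hk, ← hx, Category.assoc, comp_distTriang_mor_zero₁₂ _ hT, comp_zero]

end Generic

section Killed

variable {C : Type u} [SmallCategory C] {J : GrothendieckTopology C} {O : Sheaf J CommRingCat.{u}}

/-- no maps into derived complete objects -/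
def Killed (I : DerComp.IdealSh O) (X : DerivedCategory (ModSite.Mod O)) : Prop :=
  ∀ Z, DerComp.IsDerComp O I Z → ∀ g : X ⟶ Z, g = 0

variable {I : DerComp.IdealSh O}

lemma isDerComp_shift {Z : DerivedCategory (ModSite.Mod O)} (hZ : DerComp.IsDerComp O I Z) (n : ℤ) :
    DerComp.IsDerComp O I (Z⟦n⟧) := by
  rw [isDerComp_eq] at hZ ⊢
  exact hZ.shift n

lemma Killed.of_iso {X X' : DerivedCategory (ModSite.Mod O)} (h : Killed I X) (e : X ≅ X') : Killed I X' :=
  fun Z hZ g => by rw [← cancel_epi e.hom, comp_zero]; exact h Z hZ _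

lemma Killed.of_triangle {T : Triangle (DerivedCategory (ModSite.Mod O))} (hT : T ∈ distTriang _)
    (h₁ : Killed I T.obj₁) (h₂ : Killed I T.obj₂) : Killed I T.obj₃ := fun Z hZ g => by
  obtain ⟨k, hk⟩ := T.yoneda_exact₃ hT g (h₂ Z hZ _)
  obtain ⟨k', rfl⟩ : ∃ k' : T.obj₁ ⟶ Z⟦(-1 : ℤ)⟧,
      k = k'⟦(1 : ℤ)⟧' ≫ ((shiftFunctorCompIsoId _ (-1 : ℤ) 1 (by norm_num)).app Z).hom :=
    ⟨(shiftFunctor _ (1 : ℤ)).preimage (k ≫ ((shiftFunctorCompIsoId _ (-1 : ℤ) 1 (by norm_num)).app Z).inv),
      by rw [Functor.map_preimage, Category.assoc, Iso.inv_hom_id, Category.comp_id]⟩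
  rw [hk, h₁ _ (isDerComp_shift hZ _) k']
  simp

lemma Killed.isZero {X : DerivedCategory (ModSite.Mod O)} (h : Killed I X) (hX : DerComp.IsDerComp O I X) :
    IsZero X := (IsZero.iff_id_eq_zero X).2 (h X hX _)

lemma killed_cone_iff (T : Triangle (DerivedCategory (ModSite.Mod O))) (hT : T ∈ distTriang _) :
    Killed I T.obj₃ ↔ ∀ Z, DerComp.IsDerComp O I Z → Function.Bijective fun f : T.obj₂ ⟶ Z => T.mor₁ ≫ f := by
  constructor
  · intro h Z hZ
    have := (subsingleton_iff_bijective T hT Z).1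
      (fun n => ⟨fun f f' => (h _ (isDerComp_shift hZ n) f).trans (h _ (isDerComp_shift hZ n) f').symm⟩) 0
    let e := (shiftFunctorZero (DerivedCategory (ModSite.Mod O)) ℤ).app Z
    refine ⟨fun f f' hf => (cancel_mono e.inv).1 (this.1 (by simp only at hf ⊢; rw [reassoc_of% hf])), fun g => ?_⟩
    obtain ⟨f, hf⟩ := this.2 (g ≫ e.inv)
    refine ⟨f ≫ e.hom, ?_⟩
    simp only at hf ⊢
    rw [reassoc_of% hf, Iso.inv_hom_id, Category.comp_id]
  · intro h Z hZ g
    have hs := (subsingleton_iff_bijective T hT Z).2 fun n => h _ (isDerComp_shift hZ n)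
    let e := (shiftFunctorZero (DerivedCategory (ModSite.Mod O)) ℤ).app Z
    exact (cancel_mono e.inv).1 (((hs 0).elim _ _).trans zero_comp.symm)

/-- the cone of the completion map is killed -/
theorem killed_cone_toDerCompletion [DerComp.HasDerCompletion O I] (M : DerivedCategory (ModSite.Mod O))
    {N : DerivedCategory (ModSite.Mod O)} {i : ((DerComp.derCompletion O I).obj M).obj ⟶ N}
    {p : N ⟶ M⟦(1 : ℤ)⟧} (hT : Triangle.mk (DerComp.toDerCompletion I M) i p ∈ distTriang _) : Killed I N := by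
  refine (killed_cone_iff (Triangle.mk (DerComp.toDerCompletion I M) i p) hT).2 fun Z hZ => ?_
  have hb : Function.Bijective fun f : ((DerComp.derCompletion O I).obj M).obj ⟶ Z =>
      DerComp.toDerCompletion I M ≫ f := by
    refine ⟨fun f f' h => ?_, fun g => ⟨(((DerComp.derCompletionAdj O I).homEquiv M ⟨Z, hZ⟩).symm g).hom, ?_⟩⟩
    · have := ((DerComp.derCompletionAdj O I).homEquiv M ⟨Z, hZ⟩).injective
        (a₁ := ObjectProperty.homMk f) (a₂ := ObjectProperty.homMk f')
        (by rw [Adjunction.homEquiv_unit, Adjunction.homEquiv_unit]; exact h)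
      exact congrArg InducedCategory.Hom.hom this
    · have := ((DerComp.derCompletionAdj O I).homEquiv M ⟨Z, hZ⟩).apply_symm_apply g
      rw [Adjunction.homEquiv_unit] at this
      exact this
  exact hb

/-- maps inducing bijections into complete objects become isomorphisms after completion -/
theorem isIso_homEquiv_symm [DerComp.HasDerCompletion O I] {M : DerivedCategory (ModSite.Mod O)} (Z : DerComp.DComp O I)
    (g : M ⟶ Z.obj) {N : DerivedCategory (ModSite.Mod O)} {i : Z.obj ⟶ N} {p : N ⟶ M⟦(1 : ℤ)⟧}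
    (hT : Triangle.mk g i p ∈ distTriang _) (hN : Killed I N) :
    IsIso (((DerComp.derCompletionAdj O I).homEquiv M Z).symm g) := by
  let adj := DerComp.derCompletionAdj O I
  rw [isIso_iff_coyoneda_map_bijective]
  intro W
  let e : (Z ⟶ W) ≃ (Z.obj ⟶ W.obj) := ⟨fun x => x.hom, ObjectProperty.homMk, fun _ => rfl, fun _ => rfl⟩
  have hb := (killed_cone_iff (Triangle.mk g i p) hT).1 hN W.obj W.property
  have h : (fun x : Z ⟶ W => (adj.homEquiv M Z).symm g ≫ x) =
      (adj.homEquiv M W).symm ∘ (fun f : Z.obj ⟶ W.obj => g ≫ f) ∘ e :=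
    funext fun x => (adj.homEquiv_naturality_right_symm g x).symm
  rw [h]
  exact (Equiv.bijective _).comp (hb.comp e.bijective)

end Killed

section Slices

variable {C : Type u} [SmallCategory C] {J : GrothendieckTopology C} {O : Sheaf J CommRingCat.{u}}

lemma smulEnd_freeOn (s : DerComp.GSec O) (V : C) : DerComp.smulEnd s (ModSite.freeOn O V) = eU V (s.1 V) := by
  refine sec_injective V _ ?_
  conv_lhs => rw [← Category.id_comp (DerComp.smulEnd s (ModSite.freeOn O V)), sec_comp]
  conv_rhs => rw [← Category.comp_id (eU V (s.1 V)), sec_eU]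
  rfl

/-- completeness from finitely many nilpotent generators -/
theorem isDerComp_of_nilOn {I : DerComp.IdealSh O} {n : ℕ} (s : Fin n → DerComp.GSec O) (hI : I.IsGenBy s)
    {Z : DerivedCategory (ModSite.Mod O)} (hZ : ∀ i, NilOn (s i) Z) : DerComp.IsDerComp O I Z := by
  have hle : I ≤ vanIdeal Z := hI.2 _ fun i U V g m => by
    have hv : (O.obj.map g.op).hom ((s i).1 U) = (s i).1 V := (s i).2 g
    rw [hv, ← smulEnd_freeOn, single_map_smulEnd]
    exact ((hZ i).shift m).tBij _
  exact (isDerComp_iff I Z).2 fun U f hf m => by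
    have := (hle U hf : GoodAt Z U f) U (𝟙 U) m
    simpa using this

/-- towers of global sections in the ideal on a complete object -/
theorem tBij_of_isDerComp {I : DerComp.IdealSh O} {Z : DerivedCategory (ModSite.Mod O)}
    (hZ : DerComp.IsDerComp O I Z) (s : DerComp.GSec O) (hs : ∀ U, s.1 U ∈ I.ideal U)
    (Y : DerivedCategory (ModSite.Mod O)) (j : ℤ) : TBij (s • 𝟙 Y) (Z⟦j⟧) :=
  tBij_all_of_free s Z (fun V n => by rw [smulEnd_freeOn]; exact (isDerComp_iff I Z).1 hZ V _ (hs V) n) Y j

/-- (A) killed objects are null -/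
theorem Killed.kosNull {I : DerComp.IdealSh O} {n : ℕ} (s : Fin n → DerComp.GSec O) (hI : I.IsGenBy s)
    {X : DerivedCategory (ModSite.Mod O)} (h : Killed I X) : KosNull (List.ofFn s) X :=
  kosNull_of_forall _ (fun Z => Killed I Z) (fun _ _ _ _ _ hT hX => Killed.of_triangle hT hX hX) h fun Z hZ hn =>
    hZ.isZero (isDerComp_of_nilOn s hI fun i => hn _ (List.mem_ofFn.2 ⟨i, rfl⟩))

/-- (B) null objects are killed -/
theorem killed_of_kosNull {I : DerComp.IdealSh O} {n : ℕ} (s : Fin n → DerComp.GSec O) (hI : I.Contains s)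
    {X : DerivedCategory (ModSite.Mod O)} (h : KosNull (List.ofFn s) X) : Killed I X := fun Z hZ g => by
  refine (cancel_mono ((shiftFunctorZero _ ℤ).app Z).inv).1 ((h.hom_eq_zero _ (fun a ha => ?_) 0 _).trans zero_comp.symm)
  obtain ⟨i, rfl⟩ := List.mem_ofFn.1 ha
  exact tBij_of_isDerComp hZ _ (hI i)

lemma freeOverIso_eU {U : C} (V : Over U) (f : O.obj.obj (op V.left)) :
    (ModSite.extZero O U).map (eU (O := O.over U) V f) ≫ (freeOverIso V).hom =
      (freeOverIso V).hom ≫ eU V.left f := by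
  let adj := ModSite.extZeroAdj O U
  refine (adj.homEquiv _ _).injective (sec_injective (O := O.over U) V _ ?_)
  have key : sec (O := O.over U) V _ (adj.homEquiv _ _ (freeOverIso V).hom) =
      sec V.left _ (𝟙 (ModSite.freeOn O V.left)) := by
    simp only [freeOverIso, Functor.CorepresentableBy.uniqueUpToIso_hom, sec]
    simp [Coyoneda.fullyFaithful, adj]
    exact Equiv.apply_symm_apply _ _
  rw [Adjunction.homEquiv_naturality_left, Adjunction.homEquiv_naturality_right, sec_eU, sec_comp, key]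
  refine Eq.trans ?_ ((sec_comp (𝟙 _) (eU V.left f)).trans rfl)
  rw [Category.id_comp, ← Category.comp_id (eU V.left f), sec_eU]

/-- restriction preserves completeness -/
theorem isDerComp_restr {I : DerComp.IdealSh O} {Z : DerivedCategory (ModSite.Mod O)}
    (hZ : DerComp.IsDerComp O I Z) (U : C) : DerComp.IsDerComp (O.over U) (I.over U) ((restrD O U).obj Z) := by
  refine (isDerComp_iff _ _).2 fun V f hf n => ?_
  refine (tBij_ext_iff _ n Z).1 ?_
  let σ := (ModSite.extZero O U).mapDerivedCategorySingleFunctor 0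
  refine TBij.of_comm (e := (DerivedCategory.singleFunctor (ModSite.Mod O) 0).map (eU V.left f))
    ((isDerComp_iff I Z).1 hZ V.left f hf n)
    (σ.app _ ≪≫ (DerivedCategory.singleFunctor (ModSite.Mod O) 0).mapIso (freeOverIso V)) ?_
  rw [Iso.trans_hom, Iso.app_hom, Functor.mapIso_hom, Category.assoc, ← Functor.map_comp, ← freeOverIso_eU,
    Functor.map_comp]
  exact (σ.hom.naturality_assoc _ _).symm

end Slices

end Groth.Agent.Bousfield
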