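import Groth.Agent.Bousfield.KosNull
import Groth.Agent.Bousfield.Killed
import Groth.Agent.DRingKP.DCAlg
import Groth.Agent.AdicLim.Noetherian
import Groth.Agent.DCohShriek.ExtFinite

/-!
Derived completion does not change `Hom` between coherent complexes on a scheme proper over a complete ring.
-/

set_option autoImplicit false
set_option maxHeartbeats 1000000
set_option linter.style.haveILetI false
set_option backward.isDefEq.respectTransparency false
set_option backward.isDefEq.respectTransparency.types false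
universe u

open CategoryTheory Limits Pretriangulated

namespace Groth.Agent.Bousfield

section Triangle

variable {D : Type*} [Category D] [Preadditive D] [HasZeroObject D] [HasShift D ℤ]
  [∀ n : ℤ, (shiftFunctor D n).Additive] [Pretriangulated D] {Y : D} (e : Y ⟶ Y)

lemma tBij_obj₃_aux (T : Triangle D) (hT : T ∈ distTriang D) (h1 : TBij e T.obj₁) (h1' : TBij e (T.obj₁⟦(1 : ℤ)⟧))
    (h2 : TBij e T.obj₂) (h2' : TBij e (T.obj₂⟦(1 : ℤ)⟧)) : TBij e T.obj₃ := by
  refine ⟨fun φ φ' hφ => sub_eq_zero.1 ?_, fun y => ?_⟩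
  · have hd : ∀ n, (φ - φ') n = e ≫ (φ - φ') (n + 1) := fun n => by
      have h := congrFun hφ n
      simp only [Pi.sub_apply, Preadditive.comp_sub] at h ⊢
      rw [← sub_eq_zero] at h ⊢
      rw [← h]; abel
    generalize φ - φ' = d at hd ⊢
    have h0 : (fun n => d n ≫ T.mor₃) = 0 := h1'.1 (funext fun n => by
      simp only [Pi.zero_apply, comp_zero, sub_zero]
      rw [hd n, Category.assoc, sub_self])
    choose ψ hψ using fun n => T.coyoneda_exact₃ hT (d n) (congrFun h0 n)
    choose χ hχ using fun n => T.coyoneda_exact₂ hT (ψ n - e ≫ ψ (n + 1))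
      (by rw [Preadditive.sub_comp, Category.assoc, ← hψ, ← hψ, ← hd, sub_self])
    obtain ⟨α, hα⟩ := h1.2 χ
    have h3 : (fun n => ψ n - α n ≫ T.mor₁) = 0 := h2.1 (funext fun n => by
      simp only [Pi.zero_apply, comp_zero, sub_zero]
      rw [Preadditive.comp_sub]
      have h := hχ n
      rw [← congrFun hα n, Preadditive.sub_comp, Category.assoc] at h
      linear_combination (norm := abel) h)
    funext n
    have h4 : ψ n - α n ≫ T.mor₁ = 0 := congrFun h3 n
    rw [hψ n, sub_eq_zero.1 h4, Category.assoc, comp_distTriang_mor_zero₁₂ _ hT, comp_zero]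
    rfl
  · obtain ⟨β, hβ⟩ := h1'.2 fun n => y n ≫ T.mor₃
    have h0 : (fun n => β n ≫ T.mor₁⟦(1 : ℤ)⟧') = 0 := h2'.1 (funext fun n => by
      simp only [Pi.zero_apply, comp_zero, sub_zero]
      rw [← Category.assoc, ← Preadditive.sub_comp]
      rw [show β n - e ≫ β (n + 1) = y n ≫ T.mor₃ from congrFun hβ n, Category.assoc,
        comp_distTriang_mor_zero₃₁ _ hT, comp_zero])
    choose γ hγ using fun n => T.coyoneda_exact₁ hT (β n) (congrFun h0 n)
    choose δ hδ using fun n => T.coyoneda_exact₃ hT (y n - (γ n - e ≫ γ (n + 1)))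
      (by
        rw [Preadditive.sub_comp, Preadditive.sub_comp, Category.assoc, ← hγ, ← hγ, sub_eq_zero]
        exact (congrFun hβ n).symm)
    obtain ⟨ε, hε⟩ := h2.2 δ
    refine ⟨fun n => γ n + ε n ≫ T.mor₂, funext fun n => ?_⟩
    have h := hδ n
    rw [← congrFun hε n, Preadditive.sub_comp, Category.assoc] at h
    simp only [Preadditive.comp_add]
    rw [sub_eq_iff_eq_add] at h
    rw [h]; abel

lemma tBij_obj₃ (T : Triangle D) (hT : T ∈ distTriang D) (h1 : ∀ n : ℤ, TBij e (T.obj₁⟦n⟧))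
    (h2 : ∀ n : ℤ, TBij e (T.obj₂⟦n⟧)) (n : ℤ) : TBij e (T.obj₃⟦n⟧) :=
  tBij_obj₃_aux e ((Triangle.shiftFunctor D n).obj T) (Triangle.shift_distinguished T hT n) (h1 n)
    ((h1 (n + 1)).of_iso ((shiftFunctorAdd D n (1 : ℤ)).app _)) (h2 n)
    ((h2 (n + 1)).of_iso ((shiftFunctorAdd D n (1 : ℤ)).app _))

end Triangle

section Null

variable {R : Type*} [CommRing R] {D : Type*} [Category D] [Preadditive D] [Linear R D] [HasZeroObject D]
  [HasShift D ℤ] [∀ n : ℤ, (shiftFunctor D n).Additive] [∀ n : ℤ, (shiftFunctor D n).Linear R] [Pretriangulated D]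

/-- no maps into null objects when the maps are complete -/
theorem subsingleton_hom_of_kosNull (F : D) : ∀ (l : List R) (M : D), KosNull l M →
    (∀ a ∈ l, ∀ n : ℤ, TBij (a • 𝟙 F) (M⟦n⟧)) → ∀ n : ℤ, Subsingleton (F ⟶ M⟦n⟧) := by
  intro l
  induction l with
  | nil =>
    intro M h _ n
    have hz : IsZero M := h.isZero fun a ha => absurd ha List.not_mem_nil
    exact ⟨fun x y => ((shiftFunctor D n).map_isZero hz).eq_of_tgt _ _⟩
  | cons a l ih =>
    intro M h hT n
    obtain ⟨Z, i, p, hZ⟩ := distinguished_cocone_triangle (a • 𝟙 M)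
    have hb : ∀ b ∈ l, ∀ m : ℤ, TBij (b • 𝟙 F) (Z⟦m⟧) := fun b hb m =>
      tBij_obj₃ _ _ hZ (hT b (List.mem_cons_of_mem _ hb)) (hT b (List.mem_cons_of_mem _ hb)) m
    have h0 := ih Z ((kosNull_cons_iff a l hZ).1 h) hb n
    have hdiv : ∀ x : F ⟶ M⟦n⟧, ∃ y : F ⟶ M⟦n⟧, x = a • y := fun x => by
      obtain ⟨y, hy⟩ := Triangle.coyoneda_exact₂ _ (Triangle.shift_distinguished _ hZ n) x (h0.elim _ _)
      refine ⟨n.negOnePow • y, hy.trans ?_⟩
      dsimp [Triangle.shiftFunctor]
      simp only [Triangle.shiftFunctor_obj, Triangle.mk_mor₁, Functor.map_smul, CategoryTheory.Functor.map_id,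
        Linear.comp_units_smul, Linear.comp_smul, Category.comp_id]
      erw [CategoryTheory.Functor.map_id, Category.comp_id]
      rw [Units.smul_def, Units.smul_def]
      exact smul_comm _ a y
    refine ⟨fun x y => sub_eq_zero.1 ?_⟩
    generalize x - y = z
    choose g hg using hdiv
    have hz : (fun k => g^[k] z) = 0 := (hT a List.mem_cons_self n).1 (funext fun k => by
      simp only [Pi.zero_apply, comp_zero, sub_zero]
      rw [Linear.smul_comp, Category.id_comp, Function.iterate_succ_apply', ← hg, sub_self])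
    exact congrFun hz 0

end Null

end Groth.Agent.Bousfield

namespace Groth.Agent.Bousfield

open AlgebraicGeometry Opposite TopologicalSpace

attribute [local instance] HasDerivedCategory.standard

lemma smul_id_eq_of_iso {R A D : Type*} [CommRing R] [CommRing A] [Category D] [Preadditive D] [Linear R D]
    [Linear A D] {Q F : D} (e : Q ≅ F) {r : R} {a : A} (h : r • 𝟙 Q = a • 𝟙 Q) : r • 𝟙 F = a • 𝟙 F := by
  have h' := congrArg (fun t => e.inv ≫ t ≫ e.hom) h
  simpa [Linear.smul_comp, Linear.comp_smul] using h'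

variable {A : Type u} [CommRing A] {X : Scheme.{u}} [X.Over (Spec (CommRingCat.of A))]

variable (X) in
/-- the global sections of the base -/
noncomputable def gsecBase : A →+* DerComp.GSec X.sheaf where
  toFun a := ⟨fun U => (X.presheaf.map (homOfLE (le_top : U ≤ ⊤)).op).hom
      (Coh.toGlobal (X ↘ Spec (CommRingCat.of A)) a), fun U V g => by
    exact (ConcreteCategory.congr_hom (X.presheaf.map_comp (homOfLE (le_top : U ≤ ⊤)).op g.op) _).symm⟩
  map_one' := Subtype.ext (funext fun U => by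
    change (X.presheaf.map _).hom (Coh.toGlobal _ (1 : A)) = 1
    rw [map_one]; exact map_one _)
  map_mul' a b := Subtype.ext (funext fun U => by
    change (X.presheaf.map _).hom (Coh.toGlobal _ (a * b)) = _
    rw [map_mul]; exact map_mul _ _ _)
  map_zero' := Subtype.ext (funext fun U => by
    change (X.presheaf.map _).hom (Coh.toGlobal _ (0 : A)) = 0
    rw [map_zero]; exact map_zero _)
  map_add' a b := Subtype.ext (funext fun U => by
    change (X.presheaf.map _).hom (Coh.toGlobal _ (a + b)) = _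
    rw [map_add]; exact map_add _ _ _)

lemma smulEnd_gsecBase (a : A) (M : X.Modules) :
    DerComp.smulEnd (O := X.sheaf) (gsecBase X a) M = Formal.smulMod A M a := by
  ext U m
  rfl

lemma smul_gsecBase {M N : X.Modules} (a : A) (φ : M ⟶ N) :
    gsecBase X a • (show (show ModSite.Mod X.sheaf from M) ⟶ N from φ) = a • φ :=
  congrArg (· ≫ φ) (smulEnd_gsecBase a M)

lemma smul_gsecBase_derived (a : A) (F : DCoh.D X) :
    (gsecBase X a • 𝟙 (show DerivedCategory (ModSite.Mod X.sheaf) from F) : F ⟶ F) = a • 𝟙 F := by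
  obtain ⟨C, ⟨e⟩⟩ : ∃ C, Nonempty (DerivedCategory.Q.obj C ≅ F) :=
    ⟨(DerivedCategory.Q : _ ⥤ DCoh.D X).objPreimage F, ⟨DerivedCategory.Q.objObjPreimageIso F⟩⟩
  have h : (gsecBase X a • 𝟙 (show CochainComplex (ModSite.Mod X.sheaf) ℤ from C) : C ⟶ C) = a • 𝟙 C :=
    HomologicalComplex.hom_ext _ _ fun i => smul_gsecBase a (𝟙 (C.X i))
  have h' := congrArg (DerivedCategory.Q : _ ⥤ DCoh.D X).map h
  rw [Functor.map_smul, CategoryTheory.Functor.map_id] at h'
  have h1 : ((DerivedCategory.Q : _ ⥤ DerivedCategory (ModSite.Mod X.sheaf)).map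
      (gsecBase X a • 𝟙 (show CochainComplex (ModSite.Mod X.sheaf) ℤ from C))) = gsecBase X a • 𝟙 _ := by
    rw [Functor.map_smul, CategoryTheory.Functor.map_id]
  have h2 : (gsecBase X a • 𝟙 (show DerivedCategory (ModSite.Mod X.sheaf) from DerivedCategory.Q.obj C) :
      DerivedCategory.Q.obj C ⟶ DerivedCategory.Q.obj C) = a • 𝟙 _ := h1.symm.trans h'
  letI : Linear A (DerivedCategory (ModSite.Mod X.sheaf)) := (inferInstance : Linear A (DCoh.D X))
  exact smul_id_eq_of_iso (R := DerComp.GSec X.sheaf) (A := A) (D := DerivedCategory (ModSite.Mod X.sheaf)) e h2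

/-- finite homs are complete along sections from a complete base -/
theorem tBij_of_finite (I : Ideal A) [IsAdicComplete I A] [IsNoetherianRing A] {a : A} (ha : a ∈ I) (F G : DCoh.D X)
    [Module.Finite A (F ⟶ G)] :
    TBij (gsecBase X a • 𝟙 (show DerivedCategory (ModSite.Mod X.sheaf) from F)) (show DerivedCategory (ModSite.Mod X.sheaf) from G) := by
  haveI : IsAdicComplete I (F ⟶ G) := AdicLim.isAdicComplete_of_finite I (F ⟶ G)
  have h := DRingKP.TBij.of_isAdicComplete (M := F ⟶ G) I ha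
  rw [smul_gsecBase_derived]
  unfold DRingKP.TBij at h
  unfold TBij
  convert h using 1
  funext φ m
  simp [DRingKP.tele]

/-- **formal functions for homs of coherent complexes** -/
theorem bijective_comp_toDerCompletion (I : Ideal A) [IsAdicComplete I A] [IsNoetherianRing A]
    [IsProper (X ↘ Spec (CommRingCat.of A))] (𝓙 : DerComp.IdealSh X.sheaf) [DerComp.HasDerCompletion X.sheaf 𝓙]
    (hc : ∀ a ∈ I, ∀ U, (gsecBase X a).1 U ∈ 𝓙.ideal U)
    (hmin : ∀ 𝓙' : DerComp.IdealSh X.sheaf, (∀ a ∈ I, ∀ U, (gsecBase X a).1 U ∈ 𝓙'.ideal U) → 𝓙 ≤ 𝓙')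
    (F G : DCoh.D X) (hF : DCoh.IsCohD F) (hG : DCoh.IsCohD G) (a b : ℤ) [F.IsLE a] [G.IsGE b] :
    Function.Bijective fun ψ : F ⟶ G =>
      ((ψ ≫ DerComp.toDerCompletion 𝓙 (show DerivedCategory (ModSite.Mod X.sheaf) from G)) :
        (show DerivedCategory (ModSite.Mod X.sheaf) from F) ⟶ _) := by
  obtain ⟨n, g, hg⟩ := Submodule.fg_iff_exists_fin_generating_family.1 (IsNoetherian.noetherian I)
  have hspan : Ideal.span (Set.range g) = I := hg
  let s : Fin n → DerComp.GSec X.sheaf := fun i => gsecBase X (g i)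
  have hgI : ∀ i, g i ∈ I := fun i => hspan ▸ Ideal.subset_span ⟨i, rfl⟩
  have hI : 𝓙.IsGenBy s := by
    refine ⟨fun i U => hc _ (hgI i) U, fun I' hI' => hmin I' fun a ha U => ?_⟩
    let ev : A →+* X.sheaf.obj.obj (op U) :=
      { toFun := fun t => (gsecBase X t).1 U
        map_one' := by rw [map_one]; rfl
        map_mul' := fun _ _ => by rw [map_mul]; rfl
        map_zero' := by rw [map_zero]; rfl
        map_add' := fun _ _ => by rw [map_add]; rfl }
    have : I ≤ (I'.ideal U).comap ev := hspan ▸ Ideal.span_le.2 (by rintro _ ⟨i, rfl⟩; exact hI' i U)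
    exact this ha
  let G' : DerivedCategory (ModSite.Mod X.sheaf) := G
  let η := DerComp.toDerCompletion 𝓙 G'
  obtain ⟨N, i, p, hT⟩ := distinguished_cocone_triangle η
  have hN : KosNull (List.ofFn s) N := (killed_cone_toDerCompletion G' hT).kosNull s hI
  have hTB : ∀ c ∈ List.ofFn s, ∀ m : ℤ,
      TBij (c • 𝟙 (show DerivedCategory (ModSite.Mod X.sheaf) from F)) (N⟦m⟧) := fun c hc m => by
    obtain ⟨j, rfl⟩ := List.mem_ofFn.1 hc
    refine tBij_obj₃ _ _ hT (fun k => ?_) (fun k => ?_) m
    · haveI : (G⟦k⟧).IsGE (b - k) := DerivedCategory.TStructure.t.isGE_shift G b k (b - k) (by omega)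
      haveI : Module.Finite A (F ⟶ G⟦k⟧) := DCohShriek.finite_hom_of_proper F (G⟦k⟧) hF a
        (fun i => by
          exact CohFinite.isCoh_of_iso
            (((DerivedCategory.homologyFunctor X.Modules 0).shiftIso k i (k + i) rfl).app G).symm (hG (k + i)))
        (b - k)
      exact tBij_of_finite I (hgI j) F (G⟦k⟧)
    · exact tBij_of_isDerComp ((DerComp.derCompletion X.sheaf 𝓙).obj G').property (s j) (hI.1 j) _ k
  have h0 := subsingleton_hom_of_kosNull (show DerivedCategory (ModSite.Mod X.sheaf) from F) _ N hN hTB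
  have hN0 : Subsingleton ((show DerivedCategory (ModSite.Mod X.sheaf) from F) ⟶ N) :=
    (((shiftFunctorZero (DerivedCategory (ModSite.Mod X.sheaf)) ℤ).app N).homToEquiv).subsingleton_congr.1 (h0 0)
  constructor
  · intro x y hxy
    refine sub_eq_zero.1 ?_
    have hz : (x - y) ≫ η = 0 := by
      rw [Preadditive.sub_comp, sub_eq_zero]
      exact hxy
    obtain ⟨w, hw⟩ := Triangle.coyoneda_exact₂ _ (inv_rot_of_distTriang _ hT) (x - y) hz
    rw [hw, (h0 (-1)).elim w 0, zero_comp]
  · intro y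
    obtain ⟨x, hx⟩ := Triangle.coyoneda_exact₂ _ hT y (hN0.elim _ _)
    exact ⟨x, hx.symm⟩

end Groth.Agent.Bousfield
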