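import Mathlib

/-!
Objects of a linear triangulated category on which finitely many scalars act as a "unit ideal":
they receive no maps from objects on which all these scalars are nilpotent.
-/

set_option autoImplicit false
set_option backward.isDefEq.respectTransparency false
set_option linter.style.haveILetI false
set_option linter.unusedSectionVars false
universe w v v' u u'

namespace Groth.Agent.Bousfield

open CategoryTheory Category Limits Pretriangulated

section Defs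

variable {R : Type w} [CommRing R] {D : Type u} [Category.{v} D] [Preadditive D] [Linear R D]

/-- `a` acts nilpotently on `X` -/
def NilOn (a : R) (X : D) : Prop := ∃ m : ℕ, a ^ m • 𝟙 X = 0

/-- no maps from objects on which all members of `l` are nilpotent -/
def KosNull (l : List R) (X : D) : Prop :=
  ∀ Y : D, (∀ a ∈ l, NilOn a Y) → ∀ g : Y ⟶ X, g = 0

lemma KosNull.of_iso {l : List R} {X X' : D} (h : KosNull l X) (e : X ≅ X') : KosNull l X' := fun Y hY g => by
  rw [← cancel_mono e.inv, zero_comp]; exact h Y hY _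

lemma kosNull_of_isZero (l : List R) {X : D} (h : IsZero X) : KosNull l X := fun _ _ _ => h.eq_of_tgt _ _

lemma KosNull.isZero {l : List R} {X : D} (h : KosNull l X) (hl : ∀ a ∈ l, NilOn a X) : IsZero X :=
  (IsZero.iff_id_eq_zero X).2 (h X hl _)

/-- scalars generating the unit ideal in the endomorphisms -/
theorem kosNull_of_sum {n : ℕ} (a : Fin n → R) {X : D} (c : Fin n → (X ⟶ X))
    (hc : ∑ i, a i • c i = 𝟙 X) : KosNull (List.ofFn a) X := by
  intro Y hY g
  let I : Ideal R := Ideal.span (Set.range a)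
  let A : Ideal R := Module.annihilator R (Y ⟶ X)
  have hI : I ≤ A.radical := Ideal.span_le.2 (by
    rintro _ ⟨i, rfl⟩
    obtain ⟨m, hm⟩ := hY (a i) (List.mem_ofFn.2 ⟨i, rfl⟩)
    refine ⟨m, Module.mem_annihilator.2 fun f => ?_⟩
    calc a i ^ m • f = (a i ^ m • 𝟙 Y) ≫ f := by simp
      _ = 0 := by rw [hm, zero_comp])
  obtain ⟨N, hN⟩ := Ideal.exists_pow_le_of_le_radical_of_fg hI (Submodule.fg_span (Set.finite_range a))
  have key : ∀ k, ∀ f : Y ⟶ X, f ∈ (I ^ k • ⊤ : Submodule R (Y ⟶ X)) := by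
    intro k
    induction k with
    | zero => intro f; simp
    | succ k ih =>
      intro f
      have hf : f = ∑ i, a i • (f ≫ c i) := by
        calc f = f ≫ ∑ i, a i • c i := by rw [hc, comp_id]
          _ = _ := by simp [Preadditive.comp_sum]
      rw [hf, pow_succ', Submodule.mul_smul]
      exact Submodule.sum_mem _ fun i _ =>
        Submodule.smul_mem_smul (Ideal.subset_span (Set.mem_range_self i)) (ih _)
  refine Submodule.smul_induction_on (key N g) (fun r hr f _ => Module.mem_annihilator.1 (hN hr) f) ?_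
  rintro x y rfl rfl
  exact add_zero 0

end Defs

section Triangulated

variable {R : Type w} [CommRing R] {D : Type u} [Category.{v} D] [Preadditive D] [Linear R D]
  [HasZeroObject D] [HasShift D ℤ] [∀ n : ℤ, (shiftFunctor D n).Additive]
  [∀ n : ℤ, (shiftFunctor D n).Linear R] [Pretriangulated D]

lemma NilOn.shift {a : R} {X : D} (h : NilOn a X) (n : ℤ) : NilOn a (X⟦n⟧) := by
  obtain ⟨m, hm⟩ := h
  refine ⟨m, ?_⟩
  rw [← CategoryTheory.Functor.map_id, ← Functor.map_smul, hm, Functor.map_zero]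

lemma NilOn.of_triangle {a : R} (T : Triangle D) (hT : T ∈ distTriang D) (h₁ : NilOn a T.obj₁)
    (h₂ : NilOn a T.obj₂) : NilOn a T.obj₃ := by
  obtain ⟨m, hm⟩ := h₂
  obtain ⟨m', hm'⟩ := h₁.shift (1 : ℤ)
  refine ⟨m + m', ?_⟩
  have h0 : T.mor₂ ≫ (a ^ m • 𝟙 T.obj₃) = 0 := by
    calc T.mor₂ ≫ (a ^ m • 𝟙 T.obj₃) = (a ^ m • 𝟙 T.obj₂) ≫ T.mor₂ := by simp
      _ = 0 := by rw [hm, zero_comp]
  obtain ⟨k, hk⟩ := T.yoneda_exact₃ hT _ h0
  calc a ^ (m + m') • 𝟙 T.obj₃ = a ^ m' • (a ^ m • 𝟙 T.obj₃) := by rw [smul_smul, ← pow_add, add_comm]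
    _ = T.mor₃ ≫ (a ^ m' • 𝟙 (T.obj₁⟦(1 : ℤ)⟧)) ≫ k := by rw [hk]; simp
    _ = 0 := by rw [hm', zero_comp, comp_zero]

lemma nilOn_cone (a : R) (T : Triangle D) (hT : T ∈ distTriang D) (e : T.obj₁ ≅ T.obj₂)
    (h : T.mor₁ = a • e.hom) : NilOn a T.obj₃ := by
  refine ⟨2, ?_⟩
  have h0 : T.mor₂ ≫ (a • 𝟙 T.obj₃) = 0 := by
    rw [← cancel_epi e.hom, comp_zero]
    calc e.hom ≫ T.mor₂ ≫ (a • 𝟙 T.obj₃) = (a • e.hom) ≫ T.mor₂ := by simp
      _ = 0 := by rw [← h, comp_distTriang_mor_zero₁₂ _ hT]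
  obtain ⟨k, hk⟩ := T.yoneda_exact₃ hT _ h0
  have h1 : T.mor₃ ≫ (a • 𝟙 (T.obj₁⟦(1 : ℤ)⟧)) = 0 := by
    rw [← cancel_mono (e.hom⟦(1 : ℤ)⟧'), zero_comp]
    calc (T.mor₃ ≫ (a • 𝟙 (T.obj₁⟦(1 : ℤ)⟧))) ≫ e.hom⟦(1 : ℤ)⟧'
        = T.mor₃ ≫ (a • e.hom)⟦(1 : ℤ)⟧' := by simp [Functor.map_smul]
      _ = 0 := by rw [← h]; exact comp_distTriang_mor_zero₃₁ _ hT
  calc a ^ 2 • 𝟙 T.obj₃ = a • (a • 𝟙 T.obj₃) := by rw [sq, mul_smul]
    _ = (T.mor₃ ≫ (a • 𝟙 (T.obj₁⟦(1 : ℤ)⟧))) ≫ k := by rw [hk]; simp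
    _ = 0 := by rw [h1, zero_comp]

lemma KosNull.shift {l : List R} {X : D} (h : KosNull l X) (n : ℤ) : KosNull l (X⟦n⟧) := fun Y hY g => by
  let e := (shiftFunctorCompIsoId D n (-n) (add_neg_cancel n)).app X
  have := h (Y⟦-n⟧) (fun a ha => (hY a ha).shift _) (g⟦-n⟧' ≫ e.hom)
  refine (shiftFunctor D (-n)).map_injective ?_
  rw [Functor.map_zero, ← cancel_mono e.hom, zero_comp, this]

/-- one scalar can be traded for its cone -/
theorem kosNull_cons_iff (a : R) (l : List R) {X Z : D} {i : X ⟶ Z} {p : Z ⟶ X⟦(1 : ℤ)⟧}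
    (hT : Triangle.mk (a • 𝟙 X) i p ∈ distTriang D) : KosNull (a :: l) X ↔ KosNull l Z := by
  constructor
  · intro h Y hY g
    obtain ⟨Y', j, q, hT'⟩ := distinguished_cocone_triangle (a • 𝟙 Y)
    have hY' : ∀ b ∈ a :: l, NilOn b Y' := fun b hb => by
      rcases List.mem_cons.1 hb with rfl | hb
      · exact nilOn_cone b _ hT' (Iso.refl _) rfl
      · exact NilOn.of_triangle _ hT' (hY b hb) (hY b hb)
    -- `a` is bijective on maps into shifts of `X`
    have hv : ∀ (m : ℤ) (f : Y' ⟶ X⟦m⟧), f = 0 := fun m f => (h.shift m) Y' hY' f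
    have hinj : ∀ (m : ℤ) (f : Y ⟶ X⟦m⟧), a • f = 0 → f = 0 := fun m f hf => by
      obtain ⟨k, hk⟩ := Triangle.yoneda_exact₂ _ hT' f
        (show (a • 𝟙 Y) ≫ f = 0 by rw [Linear.smul_comp, id_comp, hf])
      change f = j ≫ k at hk
      rw [hk, hv m k, comp_zero]
    have hsurj : ∀ f : Y ⟶ X, ∃ f' : Y ⟶ X, a • f' = f := fun f => by
      have h0 : q ≫ f⟦(1 : ℤ)⟧' = 0 := hv 1 _
      obtain ⟨k, hk⟩ := Triangle.yoneda_exact₂ _ (rot_of_distTriang _ (rot_of_distTriang _ hT')) (f⟦(1 : ℤ)⟧') h0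
      refine ⟨-(shiftFunctor D (1 : ℤ)).preimage k, (shiftFunctor D (1 : ℤ)).map_injective ?_⟩
      rw [Functor.map_smul, Functor.map_neg, Functor.map_preimage, hk]
      simp [Triangle.rotate, Functor.map_smul]
      exact congrArg (a • ·) ((congrArg (· ≫ k) ((shiftFunctor D (1 : ℤ)).map_id Y)).trans (id_comp k)).symm
    have h0 : g ≫ p = 0 := hinj 1 _ (by
      calc a • (g ≫ p) = g ≫ p ≫ (a • 𝟙 X)⟦(1 : ℤ)⟧' := by simp [Functor.map_smul]
        _ = 0 := by
          have := comp_distTriang_mor_zero₃₁ _ hT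
          simp only [Triangle.mk_mor₃, Triangle.mk_mor₁] at this
          rw [this, comp_zero])
    obtain ⟨k, hk⟩ := Triangle.coyoneda_exact₃ _ hT g h0
    obtain ⟨k', hk'⟩ := hsurj k
    rw [hk]
    change k ≫ i = 0
    rw [← hk', Linear.smul_comp, ← Linear.comp_smul]
    have h12 : (a • 𝟙 X) ≫ i = 0 := comp_distTriang_mor_zero₁₂ _ hT
    rw [Linear.smul_comp, id_comp] at h12
    rw [h12, comp_zero]
  · intro h Y hY g
    obtain ⟨m, hm⟩ := hY a (List.mem_cons_self ..)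
    have hsurj : ∀ k : ℕ, ∀ f : Y ⟶ X, ∃ f' : Y ⟶ X, a ^ k • f' = f := by
      intro k
      induction k with
      | zero => intro f; exact ⟨f, by simp⟩
      | succ k ih =>
        intro f
        obtain ⟨f₁, hf₁⟩ := ih f
        obtain ⟨f₂, hf₂⟩ := Triangle.coyoneda_exact₂ _ hT f₁
          (h Y (fun b hb => hY b (List.mem_cons_of_mem _ hb)) _)
        refine ⟨f₂, ?_⟩
        rw [← hf₁, hf₂]
        rw [pow_succ, mul_smul]
        change a ^ k • a • f₂ = a ^ k • (f₂ ≫ (a • 𝟙 X))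
        rw [Linear.comp_smul]
        exact congrArg (a ^ k • a • ·) (comp_id f₂).symm
    obtain ⟨f, hf⟩ := hsurj m g
    rw [← hf]
    calc a ^ m • f = (a ^ m • 𝟙 Y) ≫ f := by simp
      _ = 0 := by rw [hm, zero_comp]

/-- dévissage through the iterated cones -/
theorem kosNull_of_forall (l : List R) (P : D → Prop)
    (hP : ∀ (a : R) (X Z : D) (i : X ⟶ Z) (p : Z ⟶ X⟦(1 : ℤ)⟧),
      Triangle.mk (a • 𝟙 X) i p ∈ distTriang D → P X → P Z)
    {X : D} (hX : P X) (h : ∀ Z, P Z → (∀ a ∈ l, NilOn a Z) → IsZero Z) : KosNull l X := by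
  induction l generalizing P X with
  | nil => exact kosNull_of_isZero _ (h X hX fun a ha => absurd ha (by simp))
  | cons a l ih =>
    obtain ⟨Z, i, p, hT⟩ := distinguished_cocone_triangle (a • 𝟙 X)
    refine (kosNull_cons_iff a l hT).2 (ih (fun Z => P Z ∧ NilOn a Z) (fun b Y Y' i' p' hY h' =>
      ⟨hP b Y Y' i' p' hY h'.1, NilOn.of_triangle _ hY h'.2 h'.2⟩)
      ⟨hP a X Z i p hT hX, nilOn_cone a _ hT (Iso.refl _) rfl⟩ fun W hW hl => h W hW.1 fun b hb => ?_)
    rcases List.mem_cons.1 hb with rfl | hb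
    · exact hW.2
    · exact hl b hb

end Triangulated

section Functor

variable {R : Type w} [CommRing R] {D : Type u} [Category.{v} D] [Preadditive D] [Linear R D]
  [HasZeroObject D] [HasShift D ℤ] [∀ n : ℤ, (shiftFunctor D n).Additive]
  [∀ n : ℤ, (shiftFunctor D n).Linear R] [Pretriangulated D]
  {R' : Type w} [CommRing R'] {D' : Type u'} [Category.{v'} D'] [Preadditive D'] [Linear R' D']
  [HasZeroObject D'] [HasShift D' ℤ] [∀ n : ℤ, (shiftFunctor D' n).Additive]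
  [∀ n : ℤ, (shiftFunctor D' n).Linear R'] [Pretriangulated D']

/-- exact functors compatible with the scalars -/
theorem KosNull.map (F : D ⥤ D') [F.CommShift ℤ] [F.IsTriangulated] (ψ : R' → R)
    (hF : ∀ (s : R') (X : D), F.map (ψ s • 𝟙 X) = s • 𝟙 (F.obj X)) (l : List R') {X : D}
    (h : KosNull (l.map ψ) X) : KosNull l (F.obj X) := by
  induction l generalizing X with
  | nil => exact kosNull_of_isZero _ (F.map_isZero (h.isZero (by simp)))
  | cons a l ih =>
    obtain ⟨Z, i, p, hT⟩ := distinguished_cocone_triangle (ψ a • 𝟙 X)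
    have hT' := F.map_distinguished _ hT
    refine (kosNull_cons_iff a l (i := F.map i) (p := F.map p ≫ (F.commShiftIso (1 : ℤ)).hom.app X) ?_).2
      (ih ((kosNull_cons_iff _ _ hT).1 h))
    rw [← hF a X]
    exact hT'

end Functor

section Detect

variable {R : Type w} [CommRing R] {D : Type u} [Category.{v} D] [Preadditive D] [Linear R D]
  [HasZeroObject D] [HasShift D ℤ] [∀ n : ℤ, (shiftFunctor D n).Additive]
  [∀ n : ℤ, (shiftFunctor D n).Linear R] [Pretriangulated D]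
  {ι : Type*} {R' : ι → Type w} [∀ j, CommRing (R' j)] {D' : ι → Type u'} [∀ j, Category.{v'} (D' j)]
  [∀ j, Preadditive (D' j)] [∀ j, Linear (R' j) (D' j)] [∀ j, HasZeroObject (D' j)] [∀ j, HasShift (D' j) ℤ]
  [∀ j (n : ℤ), (shiftFunctor (D' j) n).Additive] [∀ j (n : ℤ), (shiftFunctor (D' j) n).Linear (R' j)]
  [∀ j, Pretriangulated (D' j)]

/-- detection by a conservative family -/
theorem KosNull.of_family (F : ∀ j, D ⥤ D' j) [∀ j, (F j).CommShift ℤ] [∀ j, (F j).IsTriangulated]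
    (ψ : ∀ j, R → R' j) (hF : ∀ (j : ι) (s : R) (X : D), (F j).map (s • 𝟙 X) = ψ j s • 𝟙 ((F j).obj X))
    (hz : ∀ X : D, (∀ j, IsZero ((F j).obj X)) → IsZero X) (l : List R) {X : D}
    (h : ∀ j, KosNull (l.map (ψ j)) ((F j).obj X)) : KosNull l X := by
  induction l generalizing X with
  | nil => exact kosNull_of_isZero _ (hz X fun j => (h j).isZero (by simp))
  | cons a l ih =>
    obtain ⟨Z, i, p, hT⟩ := distinguished_cocone_triangle (a • 𝟙 X)
    refine (kosNull_cons_iff a l hT).2 (ih fun j => ?_)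
    refine (kosNull_cons_iff (ψ j a) (l.map (ψ j)) (i := (F j).map i)
      (p := (F j).map p ≫ ((F j).commShiftIso (1 : ℤ)).hom.app X) ?_).1 (h j)
    rw [← hF j a X]
    exact (F j).map_distinguished _ hT

end Detect

end Groth.Agent.Bousfield
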