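import Groth.Agent.KInj.Ops
import Mathlib.Algebra.Homology.HomotopyCategory.DegreewiseSplit

/-!
Lifting against the degreewise split epimorphism `cone (𝟙 W) ⟶ W⟦1⟧`.
-/

set_option autoImplicit false
set_option linter.style.haveILetI false
universe v u

namespace Groth.Agent.Bousfield

open CategoryTheory Limits CochainComplex

variable {A : Type u} [Category.{v} A] [Abelian A]

/-- every map `T ⟶ W` is homotopic to zero -/
def AllNull (T W : CochainComplex A ℤ) : Prop := ∀ c : T ⟶ W, Nonempty (Homotopy c 0)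

lemma eq_nullHomotopicMap {T W : CochainComplex A ℤ} {c : T ⟶ W} (h : Homotopy c 0) :
    c = Homotopy.nullHomotopicMap h.hom := by
  ext n
  simpa [Homotopy.nullHomotopicMap] using h.comm n

lemma exists_lift_of_homotopy {T P W : CochainComplex A ℤ} (p : P ⟶ W) (s : ∀ n, W.X n ⟶ P.X n)
    (hs : ∀ n, s n ≫ p.f n = 𝟙 _) (c : T ⟶ W) (h : Homotopy c 0) : ∃ c' : T ⟶ P, c' ≫ p = c := by
  refine ⟨Homotopy.nullHomotopicMap fun i j => h.hom i j ≫ s j, ?_⟩
  rw [Homotopy.nullHomotopicMap_comp]
  simp only [Category.assoc, hs, Category.comp_id]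
  exact (eq_nullHomotopicMap h).symm

/-- null-homotopic maps into a complex with injective terms extend along monomorphisms, as null-homotopic maps -/
lemma exists_extension_of_homotopy {X Y P : CochainComplex A ℤ} (i : X ⟶ Y) [Mono i]
    (hP : ∀ n, Injective (P.X n)) (a : X ⟶ P) (h : Homotopy a 0) :
    ∃ a' : Y ⟶ P, i ≫ a' = a ∧ Nonempty (Homotopy a' 0) := by
  classical
  let h' : ∀ p q, Y.X p ⟶ P.X q := fun p q => haveI := hP q
    if (ComplexShape.up ℤ).Rel q p then Injective.factorThru (h.hom p q) (i.f p) else 0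
  refine ⟨Homotopy.nullHomotopicMap h', ?_, ⟨Homotopy.nullHomotopy h' fun p q hpq => if_neg hpq⟩⟩
  rw [Homotopy.comp_nullHomotopicMap, eq_nullHomotopicMap h]
  congr 1
  funext p q
  haveI := hP q
  by_cases hpq : (ComplexShape.up ℤ).Rel q p
  · simp only [h', if_pos hpq, Injective.comp_factorThru]
  · simp only [h', if_neg hpq, comp_zero, h.zero p q hpq]

/-- the cone of the identity of `W` -/
noncomputable abbrev cone (W : CochainComplex A ℤ) : CochainComplex A ℤ := mappingCone (𝟙 W)

/-- the projection `cone (𝟙 W) ⟶ W⟦1⟧` -/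
noncomputable abbrev coneProj (W : CochainComplex A ℤ) : cone W ⟶ W⟦(1 : ℤ)⟧ :=
  (mappingCone.triangleRotateShortComplex (𝟙 W)).g

lemma inr_coneProj (W : CochainComplex A ℤ) : mappingCone.inr (𝟙 W) ≫ coneProj W = 0 :=
  (mappingCone.triangleRotateShortComplex (𝟙 W)).zero

lemma injective_cone {W : CochainComplex A ℤ} (hW : ∀ n, Injective (W.X n)) (n : ℤ) :
    Injective ((cone W).X n) :=
  haveI := hW (n + 1)
  haveI := hW n
  Injective.of_iso (HomologicalComplex.homotopyCofiber.XIsoBiprod (𝟙 W) n (n + 1) rfl).symm inferInstance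

lemma nonempty_homotopy_to_cone {T W : CochainComplex A ℤ} (a : T ⟶ cone W) : Nonempty (Homotopy a 0) :=
  ⟨(Homotopy.ofEq (Category.comp_id a).symm).trans
    (((mappingCone.homotopyToZeroOfId W).compLeft a).trans (Homotopy.ofEq comp_zero))⟩

lemma shortExact_cone (W : CochainComplex A ℤ) :
    (mappingCone.triangleRotateShortComplex (𝟙 W)).ShortExact :=
  HomologicalComplex.shortExact_of_degreewise_shortExact _ fun n =>
    (mappingCone.triangleRotateShortComplexSplitting (𝟙 W) n).shortExact

/-- **lifting criterion** -/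
theorem hasLiftingProperty_coneProj (S : ShortComplex (CochainComplex A ℤ)) (hS : S.ShortExact)
    {W : CochainComplex A ℤ} (hW : ∀ n, Injective (W.X n)) (hnull : AllNull S.X₃ (W⟦(1 : ℤ)⟧)) :
    HasLiftingProperty S.f (coneProj W) where
  sq_hasLift := by
    intro a b sq
    haveI := hS.mono_f
    haveI := hS.epi_g
    obtain ⟨a', ha', -⟩ := exists_extension_of_homotopy S.f (injective_cone hW) a
      (nonempty_homotopy_to_cone a).some
    have hd : S.f ≫ (b - a' ≫ coneProj W) = 0 := by
      rw [Preadditive.comp_sub, ← Category.assoc, ha', sub_eq_zero]; exact sq.w.symm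
    obtain ⟨c, hc⟩ := CokernelCofork.IsColimit.desc' hS.exact.gIsCokernel _ hd
    obtain ⟨c', hc'⟩ := exists_lift_of_homotopy (coneProj W)
      (fun n => (mappingCone.triangleRotateShortComplexSplitting (𝟙 W) n).s)
      (fun n => (mappingCone.triangleRotateShortComplexSplitting (𝟙 W) n).s_g) c (hnull c).some
    refine CommSq.HasLift.mk' ⟨a' + S.g ≫ c', ?_, ?_⟩
    · rw [Preadditive.comp_add, ha', S.zero_assoc, zero_comp, add_zero]
    · rw [Preadditive.add_comp, Category.assoc, hc']
      exact eq_add_of_sub_eq' hc.symm |>.symm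

/-- extension along a map lifting against `coneProj W` -/
lemma exists_extension_of_lifting {X Y W : CochainComplex A ℤ} (i : X ⟶ Y)
    [HasLiftingProperty i (coneProj W)] (a : X ⟶ W) : ∃ a' : Y ⟶ W, i ≫ a' = a := by
  have sq : CommSq (a ≫ mappingCone.inr (𝟙 W)) i (coneProj W) 0 :=
    ⟨by rw [Category.assoc, inr_coneProj, comp_zero, comp_zero]⟩
  have hS := shortExact_cone W
  haveI := hS.mono_f
  let l : Y ⟶ W := hS.exact.lift sq.lift sq.fac_right
  have hl : l ≫ mappingCone.inr (𝟙 W) = sq.lift := hS.exact.lift_f sq.lift sq.fac_right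
  haveI : Mono (mappingCone.inr (𝟙 W)) := hS.mono_f
  exact ⟨l, by rw [← cancel_mono (mappingCone.inr (𝟙 W))]; exact (Category.assoc _ _ _).trans ((congrArg (i ≫ ·) hl).trans sq.fac_left)⟩

/-- maps vanishing on the source are null-homotopic -/
lemma nonempty_homotopy_of_lifting {X Y W : CochainComplex A ℤ} (i : X ⟶ Y)
    [HasLiftingProperty i (coneProj W)] (g : Y ⟶ W⟦(1 : ℤ)⟧) (hg : i ≫ g = 0) : Nonempty (Homotopy g 0) := by
  have sq : CommSq (0 : X ⟶ cone W) i (coneProj W) g := ⟨by rw [zero_comp, hg]⟩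
  exact ⟨(Homotopy.ofEq sq.fac_right.symm).trans
    (((nonempty_homotopy_to_cone sq.lift).some.compRight _).trans (Homotopy.ofEq zero_comp))⟩

end Groth.Agent.Bousfield
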