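import Groth.Agent.Bousfield.Lift
import Groth.Agent.KInj.Existence
import Mathlib.CategoryTheory.Adjunction.Comma

/-!
Bousfield localization of the derived category of a Grothendieck abelian category at a set of objects:
the objects without maps from shifts of the given ones form a reflective subcategory.
-/

set_option autoImplicit false
set_option linter.style.haveILetI false
universe w v u

namespace Groth.Agent.Bousfield

open CategoryTheory Limits MorphismProperty CochainComplex ZeroObject

variable {A : Type u} [Category.{v} A] [Abelian A] [HasDerivedCategory.{w} A] {ι : Type v}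
  (S : ι → CochainComplex A ℤ)

/-- objects receiving no non-zero map from a shift of some `S s` -/
def IsLocal : ObjectProperty (DerivedCategory A) := fun K =>
  ∀ (s : ι) (m : ℤ), Subsingleton ((DerivedCategory.Q.obj (S s))⟦m⟧ ⟶ K)

variable {S}

lemma IsLocal.of_iso {K K' : DerivedCategory A} (h : IsLocal S K) (e : K ≅ K') : IsLocal S K' :=
  fun s m => (e.homToEquiv).symm.subsingleton_congr.mpr (h s m)

lemma IsLocal.shift {K : DerivedCategory A} (h : IsLocal S K) (k : ℤ) : IsLocal S (K⟦k⟧) := by
  intro s m
  refine ⟨fun f g => (CategoryTheory.shiftFunctor (DerivedCategory A) (-k)).map_injective ?_⟩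
  let e := (shiftFunctorAdd (DerivedCategory A) m (-k)).app (DerivedCategory.Q.obj (S s))
  let e' := (shiftFunctorCompIsoId (DerivedCategory A) k (-k) (add_neg_cancel k)).app K
  exact (cancel_epi e.hom).1 ((cancel_mono e'.hom).1 ((h s (m + -k)).elim _ _))

lemma allNull_of_subsingleton {T W : CochainComplex A ℤ} [W.IsKInjective]
    (h : Subsingleton (DerivedCategory.Q.obj T ⟶ DerivedCategory.Q.obj W)) : AllNull T W := fun c =>
  (KInj.nonempty_homotopy_of_Q_map_eq (f := c) (g := 0) (h.elim _ _)).map
    fun H => (Homotopy.ofEq (sub_zero c).symm).trans H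

lemma subsingleton_of_allNull {T W : CochainComplex A ℤ} [W.IsKInjective] (h : AllNull T W) :
    Subsingleton (DerivedCategory.Q.obj T ⟶ DerivedCategory.Q.obj W) := by
  refine ⟨fun f g => ?_⟩
  obtain ⟨f, rfl⟩ := KInj.Q_map_surjective (K := T) (I := W) f
  obtain ⟨g, rfl⟩ := KInj.Q_map_surjective (K := T) (I := W) g
  exact KInj.Q_map_eq_of_homotopy (h (f - g)).some

variable (S) in
/-- test objects: local K-injective complexes with injective terms -/
structure Good (W : CochainComplex A ℤ) : Prop where
  kInj : W.IsKInjective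
  inj : ∀ n, Injective (W.X n)
  isLocal : IsLocal S (DerivedCategory.Q.obj W)

lemma Good.shift {W : CochainComplex A ℤ} (h : Good S W) (k : ℤ) : Good S (W⟦k⟧) where
  kInj := haveI := h.kInj; inferInstance
  inj n := h.inj _
  isLocal := (h.isLocal.shift k).of_iso (((DerivedCategory.Q (C := A)).commShiftIso k).app W).symm

lemma Good.allNull {W : CochainComplex A ℤ} (h : Good S W) (s : ι) (m : ℤ) : AllNull ((S s)⟦m⟧) W :=
  haveI := h.kInj
  allNull_of_subsingleton
    ((((DerivedCategory.Q (C := A)).commShiftIso m).app (S s)).homFromEquiv.subsingleton_congr.mpr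
      (h.isLocal s m))

variable (S) in
/-- the new generators -/
noncomputable def coneGen (p : ι × ℤ) :
    ((S p.1)⟦p.2⟧) ⟶ mappingCone (𝟙 ((S p.1)⟦p.2⟧)) :=
  mappingCone.inr (𝟙 _)

variable (S) in
/-- all generators -/
def gen [IsGrothendieckAbelian.{v} A] : MorphismProperty (CochainComplex A ℤ) :=
  KInj.genAcyclicMonos A ⊔ MorphismProperty.ofHoms (coneGen S)

omit [HasDerivedCategory.{w} A] in
lemma mono_inr (T : CochainComplex A ℤ) : Mono (mappingCone.inr (𝟙 T)) := (shortExact_cone T).mono_f

variable [IsGrothendieckAbelian.{v} A]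

lemma gen_le_monomorphisms : gen S ≤ monomorphisms _ := by
  rintro X Y f (hf | hf)
  · exact KInj.genAcyclicMonos_le_monomorphisms A f hf
  · rcases hf with ⟨p⟩
    exact mono_inr _

instance hasSmallObjectArgument_gen : HasSmallObjectArgument.{v} (gen S) := by
  haveI : IsSmall.{v} (gen S) := ⟨small_subset
    (t := (KInj.genAcyclicMonos A).toSet ∪ (MorphismProperty.ofHoms (coneGen S)).toSet) fun _ hf => hf⟩
  obtain ⟨κ, hκ', hκ⟩ := HasCardinalLT.exists_regular_cardinal.{v}
    ((Σ w : KInj.GenIdx A, Subobject (w.S : CochainComplex A ℤ)) ⊕ Σ p : ι × ℤ, Subobject ((S p.1)⟦p.2⟧))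
  have : Fact κ.IsRegular := ⟨hκ'⟩
  have : Nonempty κ.ord.ToType := by simpa using hκ'.ne_zero
  have := WellFoundedLT.toOrderBot κ.ord.ToType
  exact ⟨κ, inferInstance, inferInstance,
    { preservesColimit {X₀ X₁ X Y} i hi f hf := by
        let hf' : (monomorphisms (CochainComplex A ℤ)).TransfiniteCompositionOfShape κ.ord.ToType f :=
          { toTransfiniteCompositionOfShape := hf.toTransfiniteCompositionOfShape
            map_mem j hj := by
              have := (hf.attachCells j hj).pushouts_coproducts
              simp only [ofHoms_homFamily] at this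
              refine (?_ : _ ≤ monomorphisms (CochainComplex A ℤ)) _ this
              simp only [pushouts_le_iff, coproducts_le_iff]
              exact gen_le_monomorphisms }
        have (j j' : κ.ord.ToType) (φ : j ⟶ j') : Mono (hf'.F.map φ) := hf'.mem_map φ
        apply IsGrothendieckAbelian.preservesColimit_coyoneda_obj_of_mono (Y := hf'.F) (κ := κ)
        rcases hi with hi | hi
        · obtain ⟨w⟩ := hi
          exact hκ.of_injective (fun s => Sum.inl ⟨w, s⟩) (fun s t h => by simpa using h)
        · obtain ⟨p⟩ := hi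
          exact hκ.of_injective (fun s => Sum.inr ⟨p, s⟩) (fun s t h => by simpa using h) }⟩

lemma rlp_coneProj {W : CochainComplex A ℤ} (h : Good S W) : (gen S).rlp (coneProj W) := by
  rintro X Y f (hf | hf)
  · rcases hf with ⟨w⟩
    haveI : Mono w.S.arrow := inferInstance
    have hS : (ShortComplex.mk w.S.arrow (cokernel.π w.S.arrow) (cokernel.condition _)).ShortExact :=
      { exact := ShortComplex.exact_cokernel _ }
    haveI := (h.shift 1).kInj
    exact hasLiftingProperty_coneProj _ hS h.inj fun c =>
      CochainComplex.IsKInjective.nonempty_homotopy_zero c ((KInj.cokerAcyclic_iff hS).1 w.cond)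
  · rcases hf with ⟨p⟩
    refine hasLiftingProperty_coneProj _ (shortExact_cone _) h.inj ?_
    haveI := (h.shift 1).kInj
    exact allNull_of_subsingleton
      ((((DerivedCategory.Q (C := A)).mapIso
        (((shiftFunctorAdd (CochainComplex A ℤ) p.2 1).app (S p.1)).symm))).homFromEquiv.subsingleton_congr.mpr
        (((DerivedCategory.Q (C := A)).commShiftIso (p.2 + 1)).app (S p.1) |>.homFromEquiv.subsingleton_congr.mpr
          ((h.shift 1).isLocal p.1 (p.2 + 1))))

lemma isKInjective_of_rlp {L : CochainComplex A ℤ} (hI : (KInj.genAcyclicMonos A).rlp (0 : L ⟶ 0)) :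
    L.IsKInjective := by
  refine ⟨fun {K} f hK => ?_⟩
  have hcone : (cone K).Acyclic := fun k => by
    rw [HomologicalComplex.exactAt_iff_isZero_homology, IsZero.iff_id_eq_zero,
      ← HomologicalComplex.homologyMap_id,
      (mappingCone.homotopyToZeroOfId K).homologyMap_eq]
    simp
  haveI := mono_inr K
  obtain ⟨g, hg⟩ := KInj.exists_extension (mappingCone.inr (𝟙 K))
    (KInj.cokerAcyclic_of_acyclic _ hK hcone) hI f
  exact ⟨(Homotopy.ofEq hg.symm).trans (KInj.nonempty_homotopy_of_extension_cone g).some⟩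

variable (S) in
/-- **localization**: every complex maps to a local object, universally -/
theorem exists_localization (K : CochainComplex A ℤ) :
    ∃ (L : CochainComplex A ℤ) (i : K ⟶ L), IsLocal S (DerivedCategory.Q.obj L) ∧
      ∀ W : CochainComplex A ℤ, Good S W → Function.Bijective
        (fun g : DerivedCategory.Q.obj L ⟶ DerivedCategory.Q.obj W => DerivedCategory.Q.map i ≫ g) := by
  let fac := (functorialFactorizationData (gen S).rlp.llp (gen S).rlp).factorizationData (0 : K ⟶ 0)
  have hI : (gen S).rlp (0 : fac.Z ⟶ 0) := by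
    simpa [(isZero_zero _).eq_of_tgt fac.p 0] using fac.hp
  haveI : Mono fac.i := by
    refine (antitone_llp (antitone_rlp (gen_le_monomorphisms (S := S)))).trans ?_ _ fac.hi
    rw [IsGrothendieckAbelian.llp_rlp_monomorphisms (isSeparator_separator (CochainComplex A ℤ))]
  haveI : fac.Z.IsKInjective :=
    isKInjective_of_rlp (fun X Y f hf => hI f (Or.inl hf))
  refine ⟨fac.Z, fac.i, fun s m => ?_, fun W hW => ⟨?_, ?_⟩⟩
  · refine (((DerivedCategory.Q (C := A)).commShiftIso m).app (S s)).homFromEquiv.subsingleton_congr.mp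
      (subsingleton_of_allNull fun c => ?_)
    have := hI _ (Or.inr (MorphismProperty.ofHoms.mk (f := coneGen S) (s, m)))
    have sq : CommSq c (coneGen S (s, m)) (0 : fac.Z ⟶ 0) 0 := ⟨by simp⟩
    exact ⟨(Homotopy.ofEq sq.fac_left.symm).trans (KInj.nonempty_homotopy_of_extension_cone sq.lift).some⟩
  · haveI := hW.kInj
    intro g₁ g₂ hg
    obtain ⟨f₁, rfl⟩ := KInj.Q_map_surjective (K := fac.Z) (I := W) g₁
    obtain ⟨f₂, rfl⟩ := KInj.Q_map_surjective (K := fac.Z) (I := W) g₂
    simp only [← Functor.map_comp] at hg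
    obtain ⟨H⟩ := KInj.nonempty_homotopy_of_Q_map_eq hg
    obtain ⟨e, he, ⟨He⟩⟩ := exists_extension_of_homotopy fac.i hW.inj _ H
    have h0 : fac.i ≫ (f₁ - f₂ - e) = 0 := by
      rw [Preadditive.comp_sub, Preadditive.comp_sub, he, sub_self]
    let φ : W ≅ (W⟦(-1 : ℤ)⟧)⟦(1 : ℤ)⟧ :=
      ((shiftFunctorCompIsoId (CochainComplex A ℤ) (-1 : ℤ) 1 (by norm_num)).app W).symm
    haveI : HasLiftingProperty fac.i (coneProj (W⟦(-1 : ℤ)⟧)) := fac.hi _ (rlp_coneProj (hW.shift (-1)))
    obtain ⟨H'⟩ := nonempty_homotopy_of_lifting fac.i ((f₁ - f₂ - e) ≫ φ.hom)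
      (by rw [reassoc_of% h0, zero_comp])
    have H'' : Homotopy (f₁ - f₂ - e) 0 :=
      (Homotopy.ofEq (by simp)).trans ((H'.compRight φ.inv).trans (Homotopy.ofEq zero_comp))
    exact KInj.Q_map_eq_of_homotopy ((Homotopy.ofEq (sub_add_cancel _ e).symm).trans
      ((H''.add He).trans (Homotopy.ofEq (add_zero 0))))
  · haveI := hW.kInj
    intro g
    obtain ⟨f, rfl⟩ := KInj.Q_map_surjective (K := K) (I := W) g
    haveI : HasLiftingProperty fac.i (coneProj W) := fac.hi _ (rlp_coneProj hW)
    obtain ⟨f', hf'⟩ := exists_extension_of_lifting fac.i f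
    exact ⟨DerivedCategory.Q.map f', by rw [← hf']; exact (Functor.map_comp _ _ _).symm⟩

variable (S) in
/-- **the reflection exists** -/
theorem isRightAdjoint_ι : (IsLocal S).ι.IsRightAdjoint := by
  haveI : ∀ X : DerivedCategory A, HasInitial (StructuredArrow X (IsLocal S).ι) := by
    intro X
    let e := DerivedCategory.Q.objObjPreimageIso X
    obtain ⟨L, i, hL, huniv⟩ := exists_localization S (DerivedCategory.Q.objPreimage X)
    let T : StructuredArrow X (IsLocal S).ι :=
      StructuredArrow.mk (Y := (⟨DerivedCategory.Q.obj L, hL⟩ : (IsLocal S).FullSubcategory))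
        (e.inv ≫ DerivedCategory.Q.map i : X ⟶ DerivedCategory.Q.obj L)
    have key : ∀ Y : StructuredArrow X (IsLocal S).ι, Function.Bijective
        (fun g : DerivedCategory.Q.obj L ⟶ Y.right.obj => DerivedCategory.Q.map i ≫ g) := by
      intro Y
      let eY := DerivedCategory.Q.objObjPreimageIso Y.right.obj
      obtain ⟨W, w, hW, hw, -, hWi⟩ := KInj.exists_kInjective (DerivedCategory.Q.objPreimage Y.right.obj)
      haveI := hw
      let a : DerivedCategory.Q.obj W ≅ Y.right.obj := (asIso (DerivedCategory.Q.map w)).symm ≪≫ eY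
      have hg : Good S W := ⟨hW, hWi, IsLocal.of_iso Y.right.property a.symm⟩
      refine ⟨fun g₁ g₂ h => ?_, fun g => ?_⟩
      · rw [← cancel_mono a.inv]
        exact (huniv W hg).1 (by simp only [← Category.assoc]; exact congrArg (· ≫ a.inv) h)
      · obtain ⟨g', hg'⟩ := (huniv W hg).2 (g ≫ a.inv)
        refine ⟨g' ≫ a.hom, ?_⟩
        simp only at hg' ⊢
        rw [← Category.assoc, hg', Category.assoc, a.inv_hom_id, Category.comp_id]
    haveI : ∀ Y, Nonempty (T ⟶ Y) := fun Y => by
      obtain ⟨g, hg⟩ := (key Y).2 (e.hom ≫ Y.hom)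
      exact ⟨StructuredArrow.homMk ⟨g⟩ (by
        simp only at hg
        simp [T, hg])⟩
    haveI : ∀ Y, Subsingleton (T ⟶ Y) := fun Y => ⟨fun p q => by
      refine StructuredArrow.hom_ext _ _ (ObjectProperty.hom_ext _ ((key Y).1 ?_))
      have hp := StructuredArrow.w p
      have hq := StructuredArrow.w q
      simpa [T] using hp.trans hq.symm⟩
    exact hasInitial_of_unique T
  exact isRightAdjointOfStructuredArrowInitials _

end Groth.Agent.Bousfield
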