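import Groth.Agent.Bousfield.TensLinear
import Groth.Agent.Bousfield.KosNull
import Groth.Agent.QuotDer.Basic
import Mathlib.Algebra.Category.ModuleCat.Presheaf.Limits
import Mathlib.Algebra.Category.ModuleCat.Presheaf.Colimits
import Mathlib.Algebra.Category.ModuleCat.Presheaf.Abelian

/-!
Presheaves of modules: scalars, and null objects detected on sections.
-/

set_option autoImplicit false
set_option backward.isDefEq.respectTransparency false
set_option backward.isDefEq.respectTransparency.types false
set_option linter.style.haveILetI false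
set_option linter.unusedSectionVars false
set_option maxHeartbeats 1000000
universe w w' v v' u u'

open CategoryTheory Limits Opposite

attribute [local instance] HasDerivedCategory.standard

namespace Groth.Agent.Bousfield

section Generic

variable {A : Type u} [Category.{v} A] [Abelian A] {B : Type u'} [Category.{v'} B] [Abelian B]
  {R R' : Type w} [CommRing R] [CommRing R'] [Linear R A] [Linear R' B] (G : A ⥤ B) [G.Additive]
  [PreservesFiniteLimits G] [PreservesFiniteColimits G] (ψ : R → R')

/-- compatibility with scalars passes to derived categories -/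
theorem mapDerivedCategory_smul_id (hG : ∀ (s : R) (M : A), G.map (s • 𝟙 M) = ψ s • 𝟙 (G.obj M)) (s : R)
    (X : DerivedCategory A) :
    G.mapDerivedCategory.map (s • 𝟙 X) = ψ s • 𝟙 (G.mapDerivedCategory.obj X) := by
  let K := DerivedCategory.Q.objPreimage X
  let e : DerivedCategory.Q.obj K ≅ X := DerivedCategory.Q.objObjPreimageIso X
  let φ := G.mapDerivedCategoryFactors
  have hK : (G.mapHomologicalComplex (ComplexShape.up ℤ)).map (s • 𝟙 K) =
      ψ s • 𝟙 ((G.mapHomologicalComplex (ComplexShape.up ℤ)).obj K) := by
    refine HomologicalComplex.hom_ext _ _ fun n => ?_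
    simp only [Functor.mapHomologicalComplex_map_f, HomologicalComplex.smul_f_apply, HomologicalComplex.id_f, hG]
    rfl
  have h0 : G.mapDerivedCategory.map (DerivedCategory.Q.map (s • 𝟙 K)) =
      ψ s • 𝟙 (G.mapDerivedCategory.obj (DerivedCategory.Q.obj K)) := by
    rw [← cancel_mono (φ.hom.app K)]
    refine (φ.hom.naturality (s • 𝟙 K)).trans ?_
    change _ ≫ DerivedCategory.Q.map ((G.mapHomologicalComplex (ComplexShape.up ℤ)).map (s • 𝟙 K)) = _
    rw [hK, Functor.map_smul, CategoryTheory.Functor.map_id, Linear.comp_smul, Linear.smul_comp]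
    simp
  have h1 : s • 𝟙 X = e.inv ≫ DerivedCategory.Q.map (s • 𝟙 K) ≫ e.hom := by
    rw [Functor.map_smul, CategoryTheory.Functor.map_id]
    simp
  rw [h1, Functor.map_comp, Functor.map_comp, h0]
  simp [← Functor.map_comp]

end Generic

variable {C : Type u} [SmallCategory C] {J : GrothendieckTopology C} {O : Sheaf J CommRingCat.{u}}

/-- presheaves of modules over the structure sheaf -/
abbrev PMod (O : Sheaf J CommRingCat.{u}) := PresheafOfModules.{u} (ModSite.ringSh O).obj

/-- linear over global sections -/
noncomputable instance linearPMod : Linear (DerComp.GSec O) (PMod O) where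
  homModule F G :=
    { smul := fun s φ => pSmul s F ≫ φ
      one_smul := fun φ => by
        refine PresheafOfModules.hom_ext fun X => ?_
        ext x
        exact (congrArg _ (one_smul _ x) : (φ.app X).hom ((1 : (ModSite.ringSh O).obj.obj X) • x) = (φ.app X).hom x)
      mul_smul := fun s t φ => by
        refine PresheafOfModules.hom_ext fun X => ?_
        ext x
        refine congrArg (φ.app X).hom ?_
        change (DerComp.GSec.val' s X * DerComp.GSec.val' t X) • x = DerComp.GSec.val' t X • DerComp.GSec.val' s X • x
        rw [smul_smul, DerComp.GSec.val'_comm]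
      smul_zero := fun s => show pSmul s F ≫ (0 : F ⟶ G) = 0 from Limits.comp_zero
      smul_add := fun s φ ψ => show pSmul s F ≫ (φ + ψ) = pSmul s F ≫ φ + pSmul s F ≫ ψ from
        Preadditive.comp_add _ _ _ _ _ _
      add_smul := fun s t φ => by
        refine PresheafOfModules.hom_ext fun X => ?_
        ext x
        change (φ.app X).hom ((DerComp.GSec.val' s X + DerComp.GSec.val' t X) • x) = _
        rw [add_smul, map_add]
        rfl
      zero_smul := fun φ => by
        refine PresheafOfModules.hom_ext fun X => ?_
        ext x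
        change (φ.app X).hom ((0 : (ModSite.ringSh O).obj.obj X) • x) = _
        rw [zero_smul, map_zero]
        rfl }
  smul_comp X Y Z r f g := Category.assoc _ _ _
  comp_smul X Y Z f r g := by
    change f ≫ pSmul r Y ≫ g = pSmul r X ≫ f ≫ g
    rw [← Category.assoc, ← Category.assoc]
    congr 1
    refine PresheafOfModules.hom_ext fun H => ?_
    ext x
    exact ((f.app H).hom.map_smul _ _).symm

lemma pmod_smul_def (s : DerComp.GSec O) {F G : PMod O} (φ : F ⟶ G) : s • φ = pSmul s F ≫ φ := rfl

/-- sections over `H` -/
noncomputable def evAt (O : Sheaf J CommRingCat.{u}) (H : C) :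
    PMod O ⥤ ModuleCat.{u} (O.obj.obj (op H)) :=
  PresheafOfModules.evaluation.{u} (ModSite.ringSh O).obj (op H)

instance additive_evAt (H : C) : (evAt O H).Additive :=
  inferInstanceAs ((PresheafOfModules.evaluation.{u} (ModSite.ringSh O).obj (op H)).Additive)

instance preservesColimits_evAt (H : C) : PreservesColimitsOfSize.{0, 0} (evAt O H) :=
  ⟨inferInstanceAs (PreservesColimitsOfShape _ (PresheafOfModules.evaluation.{u} (ModSite.ringSh O).obj (op H)))⟩

instance preservesFiniteLimits_evAt (H : C) : PreservesFiniteLimits (evAt O H) :=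
  ⟨fun _ => inferInstanceAs (PreservesLimitsOfShape _ (PresheafOfModules.evaluation.{u} (ModSite.ringSh O).obj (op H)))⟩

instance preservesFiniteColimits_evAt (H : C) : PreservesFiniteColimits (evAt O H) :=
  ⟨fun _ => inferInstanceAs (PreservesColimitsOfShape _ (PresheafOfModules.evaluation.{u} (ModSite.ringSh O).obj (op H)))⟩

lemma evAt_smul_id (H : C) (s : DerComp.GSec O) (M : PMod O) :
    (evAt O H).map (s • 𝟙 M) = s.1 H • 𝟙 ((evAt O H).obj M) := by
  rw [pmod_smul_def, Category.comp_id]
  rfl

/-- null objects are detected on sections -/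
theorem kosNull_of_evAt (l : List (DerComp.GSec O)) {X : DerivedCategory (PMod O)}
    (h : ∀ H : C, KosNull (l.map fun s => s.1 H) ((evAt O H).mapDerivedCategory.obj X)) : KosNull l X := by
  refine KosNull.of_family (fun H => (evAt O H).mapDerivedCategory) (fun H s => s.1 H)
    (fun H s Y => mapDerivedCategory_smul_id (evAt O H) (fun t => t.1 H) (evAt_smul_id H) s Y) (fun Y hY => ?_) l h
  let K := DerivedCategory.Q.objPreimage Y
  let e : DerivedCategory.Q.obj K ≅ Y := DerivedCategory.Q.objObjPreimageIso Y
  refine IsZero.of_iso ((QuotDer.isZero_Q_obj_iff K).2 fun n => ?_) e.symm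
  rw [HomologicalComplex.exactAt_iff_isZero_homology, IsZero.iff_id_eq_zero]
  refine PresheafOfModules.hom_ext fun X => ?_
  have h0 : IsZero (DerivedCategory.Q.obj (((evAt O X.unop).mapHomologicalComplex (ComplexShape.up ℤ)).obj K)) :=
    IsZero.of_iso ((hY X.unop).of_iso ((evAt O X.unop).mapDerivedCategory.mapIso e))
      ((evAt O X.unop).mapDerivedCategoryFactors.app K).symm
  have h1 : IsZero ((evAt O X.unop).obj (K.homology n)) :=
    (((QuotDer.isZero_Q_obj_iff _).1 h0 n).isZero_homology).of_iso ((K.sc n).mapHomologyIso (evAt O X.unop)).symm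
  exact h1.eq_of_src _ _

end Groth.Agent.Bousfield
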