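import Groth.Agent.Bousfield.AwayTens

/-!
`RHom(O_f, K)` is the derived limit of the multiplication tower.
-/

set_option autoImplicit false
set_option backward.isDefEq.respectTransparency false
set_option backward.isDefEq.respectTransparency.types false
set_option linter.style.haveILetI false
set_option maxHeartbeats 1000000
universe u

open CategoryTheory Limits Opposite Pretriangulated

attribute [local instance] HasDerivedCategory.standard

namespace Groth.Agent.Bousfield

variable {C : Type u} [SmallCategory C] {J : GrothendieckTopology C} {O : Sheaf J CommRingCat.{u}}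

instance additive_flip_obj (F : ModSite.Mod O) : ((ModSite.tensorBi O).flip.obj F).Additive where
  map_add {X Y a b} := by
    change ((ModSite.tensorBi O).map (a + b)).app F = _
    rw [Functor.map_add]
    rfl

/-- `- ⊗ F` on complexes -/
noncomputable abbrev RF (F : ModSite.Mod O) :
    CochainComplex (ModSite.Mod O) ℤ ⥤ CochainComplex (ModSite.Mod O) ℤ :=
  ((ModSite.tensorBi O).flip.obj F).mapHomologicalComplex (ComplexShape.up ℤ)

/-- tensoring with a module in degree zero is termwise -/
noncomputable def singleTensIso (F : ModSite.Mod O) :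
    (ModSite.tensorCx O).flip.obj ((CochainComplex.singleFunctor (ModSite.Mod O) 0).obj F) ≅ RF F :=
  NatIso.ofComponents
    (fun L => (HomologicalComplex.Hom.isoOfComponents
      (fun n => KFlat.singleXIso (ModSite.tensorBi O) L F 0 n n (add_zero n))
      (fun i j hij => by
        obtain rfl : i + 1 = j := hij
        exact KFlat.singleXIso_comm (ModSite.tensorBi O) L F 0 i i (add_zero i))).symm)
    (fun {L L'} g => by
      rw [Iso.symm_hom, Iso.symm_hom, Iso.eq_inv_comp, ← Category.assoc, Iso.comp_inv_eq]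
      refine HomologicalComplex.hom_ext _ _ fun n => ?_
      change (KFlat.singleXIso (ModSite.tensorBi O) L F 0 n n (add_zero n)).hom ≫
          ((((ModSite.tensorCx O).map g).app ((CochainComplex.singleFunctor (ModSite.Mod O) 0).obj F))).f n =
        ((ModSite.tensorBi O).map (g.f n)).app F ≫
          (KFlat.singleXIso (ModSite.tensorBi O) L' F 0 n n (add_zero n)).hom
      simp only [KFlat.singleXIso, Category.assoc]
      erw [HomologicalComplex.ι_mapBifunctorMap]
      erw [CategoryTheory.Functor.map_id, Category.id_comp])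

/-- `M ⊗ O ≅ M` -/
noncomputable def unitRightNat : (ModSite.tensorBi O).flip.obj (ModSite.unit O) ≅ 𝟭 (ModSite.Mod O) :=
  ((KFlat.braid O).app (ModSite.unit O)).symm ≪≫
    NatIso.ofComponents (fun M => ModSiteExt.unitTensorIso O M) fun g => DQCoh.unitTensorIso_natural O g

/-- `P ≅ P ⊗ O` on complexes -/
noncomputable def unitRightCx : 𝟭 (CochainComplex (ModSite.Mod O) ℤ) ≅ RF (ModSite.unit O) :=
  NatIso.ofComponents
    (fun P => HomologicalComplex.Hom.isoOfComponents (fun n => (unitRightNat.app (P.X n)).symm)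
      (fun i j _ => (unitRightNat.inv.naturality (P.d i j)).symm))
    (fun {P P'} g => HomologicalComplex.hom_ext _ _ fun n => unitRightNat.inv.naturality (g.f n))

/-- the termwise tensor product, in the module variable -/
noncomputable def tensAt (P : CochainComplex (ModSite.Mod O) ℤ) :
    ModSite.Mod O ⥤ CochainComplex (ModSite.Mod O) ℤ where
  obj F := (RF F).obj P
  map g := (NatTrans.mapHomologicalComplex ((ModSite.tensorBi O).flip.map g) (ComplexShape.up ℤ)).app P
  map_id F := by
    refine HomologicalComplex.hom_ext _ _ fun n => ?_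
    exact ((ModSite.tensorBi O).obj (P.X n)).map_id F
  map_comp a b := by
    refine HomologicalComplex.hom_ext _ _ fun n => ?_
    exact ((ModSite.tensorBi O).obj (P.X n)).map_comp a b

instance additive_tensAt (P : CochainComplex (ModSite.Mod O) ℤ) : (tensAt P).Additive where
  map_add {X Y a b} := by
    refine HomologicalComplex.hom_ext _ _ fun n => ?_
    exact ((ModSite.tensorBi O).obj (P.X n)).map_add

instance preservesColimits_tensAt (P : CochainComplex (ModSite.Mod O) ℤ) :
    PreservesColimitsOfSize.{0, 0} (tensAt P) := by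
  refine ⟨fun {K} _ => ⟨fun {F} => ?_⟩⟩
  refine ⟨fun {c} hc => ⟨HomologicalComplex.isColimitOfEval _ _ fun n => ?_⟩⟩
  haveI : PreservesColimitsOfSize.{u, u} ((ModSite.tensorBi O).obj (P.X n)) := KFlat.preservesColimits_left O (P.X n)
  haveI : PreservesColimitsOfSize.{0, 0} ((ModSite.tensorBi O).obj (P.X n)) :=
    preservesSmallestColimits_of_preservesColimits _
  exact isColimitOfPreserves ((ModSite.tensorBi O).obj (P.X n)) hc

lemma tensAt_smulEnd (P : CochainComplex (ModSite.Mod O) ℤ) (s : DerComp.GSec O) (F : ModSite.Mod O) :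
    (tensAt P).map (DerComp.smulEnd s F) = s • 𝟙 ((tensAt P).obj F) := by
  refine HomologicalComplex.hom_ext _ _ fun n => ?_
  rw [smul_id_f]
  exact smulEnd_tensor_right s (P.X n) F

variable (s : DerComp.GSec O)

/-- the complex `O_f[0]` -/
noncomputable abbrev awayCx : CochainComplex (ModSite.Mod O) ℤ :=
  (CochainComplex.singleFunctor (ModSite.Mod O) 0).obj (DerComp.locAway s (ModSite.unit O))

/-- `P → P ⊗ O_f` -/
noncomputable def etaCx : 𝟭 (CochainComplex (ModSite.Mod O) ℤ) ⟶ RF (DerComp.locAway s (ModSite.unit O)) :=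
  unitRightCx.hom ≫
    NatTrans.mapHomologicalComplex ((ModSite.tensorBi O).flip.map (DerComp.toLocAway s (ModSite.unit O)))
      (ComplexShape.up ℤ)

variable [ModSite.HasLTensorCx (awayCx s)]

/-- `X → X ⊗^L O_f` -/
noncomputable def etaD : 𝟭 (DerivedCategory (ModSite.Mod O)) ⟶ ModSite.LTensorCx (awayCx s) :=
  (ModSite.LTensorCx (awayCx s)).leftDerivedLift (ltCounit (awayCx s))
    (HomologicalComplex.quasiIso (ModSite.Mod O) (ComplexShape.up ℤ)) (𝟭 _)
    (DerivedCategory.Q.rightUnitor.hom ≫ DerivedCategory.Q.leftUnitor.inv ≫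
      Functor.whiskerRight (etaCx s ≫ (singleTensIso _).inv) DerivedCategory.Q)

lemma sInv_unit_away : IsIso (DerComp.smulEnd s (DerComp.locAway s (ModSite.unit O))) := by
  let O' := ModSite.unit O
  let v : (∐ fun _ : ℕ => O') ⟶ ∐ fun _ : ℕ => O' := Sigma.desc fun n => Sigma.ι (fun _ : ℕ => O') (n + 1)
  have hv : DerComp.awayMap s O' ≫ v ≫ cokernel.π (DerComp.awayMap s O') = 0 := by
    have : DerComp.awayMap s O' ≫ v = v ≫ DerComp.awayMap s O' := Sigma.hom_ext _ _ fun n => by
      simp [DerComp.awayMap, v, Preadditive.sub_comp]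
    rw [reassoc_of% this, cokernel.condition, comp_zero]
  let w : DerComp.locAway s O' ⟶ DerComp.locAway s O' := cokernel.desc _ _ hv
  have h1 : DerComp.smulEnd s (DerComp.locAway s O') ≫ w = 𝟙 _ := by
    refine coequalizer.hom_ext (Sigma.hom_ext _ _ fun n => ?_)
    have hc : (Sigma.ι (fun _ : ℕ => O') n - DerComp.smulEnd s O' ≫ Sigma.ι (fun _ : ℕ => O') (n + 1)) ≫
        cokernel.π (DerComp.awayMap s O') = 0 := by
      rw [← Sigma.ι_desc (fun n => Sigma.ι (fun _ : ℕ => O') n -
        DerComp.smulEnd s O' ≫ Sigma.ι (fun _ : ℕ => O') (n + 1)) n, Category.assoc]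
      change Sigma.ι _ n ≫ DerComp.awayMap s O' ≫ cokernel.π _ = 0
      rw [cokernel.condition, comp_zero]
    rw [Preadditive.sub_comp, sub_eq_zero] at hc
    rw [Category.comp_id]
    change Sigma.ι (fun _ : ℕ => O') n ≫ cokernel.π _ ≫ DerComp.smulEnd s _ ≫ w = _
    rw [← reassoc_of% (DerComp.smulEnd_comm s (cokernel.π (DerComp.awayMap s O'))),
      ← reassoc_of% (DerComp.smulEnd_comm s (Sigma.ι (fun _ : ℕ => O') n)), cokernel.π_desc]
    simp only [v, Sigma.ι_desc_assoc]
    exact (Category.assoc _ _ _).symm.trans hc.symm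
  refine ⟨w, h1, ?_⟩
  rw [← DerComp.smulEnd_comm, h1]

/-- `X ⊗^L O_f` is inverted -/
theorem sInv_lTensor (X : DerivedCategory (ModSite.Mod O)) : SInv s ((ModSite.LTensorCx (awayCx s)).obj X) := by
  obtain ⟨L, hL, ⟨i⟩⟩ := exists_rflat_model X
  haveI := isIso_ltCounit (awayCx s) hL
  let F := DerComp.locAway s (ModSite.unit O)
  let e : (ModSite.LTensorCx (awayCx s)).obj X ≅ DerivedCategory.Q.obj ((tensAt L).obj F) :=
    (ModSite.LTensorCx (awayCx s)).mapIso i.symm ≪≫ asIso ((ltCounit (awayCx s)).app L) ≪≫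
      DerivedCategory.Q.mapIso ((singleTensIso F).app L)
  haveI := sInv_unit_away s
  have : IsIso (s • 𝟙 (DerivedCategory.Q.obj ((tensAt L).obj F))) := by
    rw [← Q_smul_id, ← tensAt_smulEnd]
    infer_instance
  change IsIso _
  rw [show s • 𝟙 ((ModSite.LTensorCx (awayCx s)).obj X) = e.hom ≫ (s • 𝟙 _) ≫ e.inv by
    rw [Linear.smul_comp, Category.id_comp, Linear.comp_smul, e.hom_inv_id]]
  infer_instance

/-- `X → X ⊗^L O_f` is invertible where `f` is -/
theorem isIso_etaD {X : DerivedCategory (ModSite.Mod O)} (hX : SInv s X) : IsIso ((etaD s).app X) := by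
  obtain ⟨L, hL, ⟨i⟩⟩ := exists_rflat_model X
  refine (NatTrans.isIso_app_iff_of_iso _ i).1 ?_
  haveI := isIso_ltCounit (awayCx s) hL
  suffices IsIso ((etaD s).app (DerivedCategory.Q.obj L) ≫ (ltCounit (awayCx s)).app L) from
    IsIso.of_isIso_comp_right _ ((ltCounit (awayCx s)).app L)
  rw [etaD, Functor.leftDerived_fac_app]
  simp only [NatTrans.comp_app, Functor.rightUnitor_hom_app, Functor.leftUnitor_inv_app, Category.id_comp,
    Functor.whiskerRight_app, etaCx]
  rw [DerivedCategory.Q.map_comp, DerivedCategory.Q.map_comp]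
  let eZ : DerivedCategory.Q.obj ((tensAt L).obj (ModSite.unit O)) ≅ X :=
    DerivedCategory.Q.mapIso (unitRightCx.app L).symm ≪≫ i
  haveI := isIso_Q_toLocAway s (tensAt L) (tensAt_smulEnd L s _) (by
    change IsIso _
    haveI : IsIso (s • 𝟙 X) := hX
    rw [show s • 𝟙 (DerivedCategory.Q.obj ((tensAt L).obj (ModSite.unit O))) = eZ.hom ≫ (s • 𝟙 X) ≫ eZ.inv by
      rw [Linear.smul_comp, Category.id_comp, Linear.comp_smul, eZ.hom_inv_id]]
    infer_instance)
  exact IsIso.comp_isIso' (IsIso.id _) (IsIso.comp_isIso' (IsIso.comp_isIso' inferInstance this) inferInstance)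

variable [DerComp.HasRHom (awayCx s)]

/-- **`RHom(O_f, K) = T(K, f)`** -/
theorem isT_rhom_away (K : DerivedCategory (ModSite.Mod O)) [HasProduct fun _ : ℕ => K] :
    DerComp.IsT s K ((DerComp.RHom (awayCx s)).obj K) := by
  obtain ⟨L, a, c, hT⟩ := distinguished_cocone_triangle₁ (phi s K)
  let T := ModSite.LTensorCx (awayCx s)
  let R := DerComp.RHom (awayCx s)
  let adj := DerComp.RHomAdj (awayCx s)
  let L' := R.obj K
  have hL : SInv s L := sInv_fibre s a hT
  have hL' : SInv s L' := by
    refine (sInv_iff_bijective s L').2 fun Y => ?_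
    have e : ∀ g : T.obj Y ⟶ K, adj.homEquiv Y K (s • g) = s • adj.homEquiv Y K g := fun g => by
      rw [show s • g = T.map (s • 𝟙 Y) ≫ g by rw [lTensor_smul_id, Linear.smul_comp, Category.id_comp],
        adj.homEquiv_naturality_left, Linear.smul_comp, Category.id_comp]
    have hb := bijective_smul_source s (sInv_lTensor s Y) K
    refine ⟨fun g g' h => ?_, fun g => ?_⟩
    · obtain ⟨g, rfl⟩ := (adj.homEquiv Y K).surjective g
      obtain ⟨g', rfl⟩ := (adj.homEquiv Y K).surjective g'
      simp only [← e] at h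
      rw [hb.1 ((adj.homEquiv Y K).injective h)]
    · obtain ⟨g, rfl⟩ := (adj.homEquiv Y K).surjective g
      obtain ⟨x, hx⟩ := hb.2 g
      exact ⟨adj.homEquiv Y K x, (e x).symm.trans (congrArg _ hx)⟩
  let p : L ⟶ K := a ≫ Pi.π (fun _ : ℕ => K) 0
  let p' : L' ⟶ K := (etaD s).app L' ≫ adj.counit.app K
  have hB : ∀ {X : DerivedCategory (ModSite.Mod O)}, SInv s X →
      Function.Bijective fun g : X ⟶ L' => g ≫ p' := fun {X} hX => by
    haveI := isIso_etaD s hX
    have : (fun g : X ⟶ L' => g ≫ p') = fun g => (etaD s).app X ≫ (adj.homEquiv X K).symm g := by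
      funext g
      have h := (etaD s).naturality g
      simp only [Functor.id_map] at h
      rw [Adjunction.homEquiv_counit]
      exact (Category.assoc _ _ _).symm.trans ((congrArg (· ≫ adj.counit.app K) h).trans (Category.assoc _ _ _))
    rw [this]
    exact ⟨fun g g' h => (adj.homEquiv X K).symm.injective ((cancel_epi _).1 h),
      fun y => ⟨adj.homEquiv X K (inv ((etaD s).app X) ≫ y), by simp⟩⟩
  obtain ⟨u, hu⟩ := (bijective_fibre s a hT hL').2 p'
  obtain ⟨v, hv⟩ := (hB hL).2 p
  simp only at hu hv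
  let e : L' ≅ L :=
    { hom := u
      inv := v
      hom_inv_id := (hB hL').1 (by simp only; rw [Category.assoc, hv, hu, Category.id_comp])
      inv_hom_id := (bijective_fibre s a hT hL).1 (by simp only; rw [Category.assoc, hu, hv, Category.id_comp]) }
  have hphi : (Pi.lift fun n => Pi.π (fun _ : ℕ => K) n - Pi.π (fun _ : ℕ => K) (n + 1) ≫ (s • 𝟙 K)) = phi s K := by
    simp only [phi, Linear.comp_smul, Category.comp_id]
  refine ⟨e.hom ≫ a, c ≫ e.inv⟦(1 : ℤ)⟧', ?_⟩
  rw [hphi]
  refine isomorphic_distinguished _ hT _ (Triangle.isoMk _ _ e (Iso.refl _) (Iso.refl _) ?_ ?_ ?_)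
  · simp
  · simp
  · simp [← Functor.map_comp]

/-- **vanishing criterion** -/
theorem isZero_rhom_away_iff (K : DerivedCategory (ModSite.Mod O)) [HasProduct fun _ : ℕ => K] :
    IsZero ((DerComp.RHom (awayCx s)).obj K) ↔ ∀ L, DerComp.IsT s K L → IsZero L := by
  refine ⟨fun h L ⟨a, c, hL⟩ => ?_, fun h => h _ (isT_rhom_away s K)⟩
  obtain ⟨a', c', hL'⟩ := isT_rhom_away s K
  obtain ⟨e, -⟩ := exists_iso_of_arrow_iso _ _ (rot_of_distTriang _ hL) (rot_of_distTriang _ hL') (Iso.refl _)
  exact h.of_iso ((shiftFunctor (DerivedCategory (ModSite.Mod O)) (1 : ℤ)).preimageIso (Triangle.π₃.mapIso e))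

end Groth.Agent.Bousfield
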