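import Groth.Agent.Bousfield.Opens

/-!
`RHom(P, -)` commutes with derived completion.
-/

set_option autoImplicit false
set_option backward.isDefEq.respectTransparency false
set_option backward.isDefEq.respectTransparency.types false
set_option linter.style.haveILetI false
set_option maxHeartbeats 1000000
universe u

open CategoryTheory Limits Opposite Pretriangulated

attribute [local instance] HasDerivedCategory.standard

namespace Groth.Agent.Bousfield

variable {C : Type u} [SmallCategory C] {J : GrothendieckTopology C} {O : Sheaf J CommRingCat.{u}}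

lemma exactAt_map {A B : Type*} [Category A] [Category B] [Abelian A] [Abelian B] (F : A ⥤ B) [F.Additive]
    [PreservesFiniteLimits F] [PreservesFiniteColimits F] {K : CochainComplex A ℤ} {i : ℤ} (h : K.ExactAt i) :
    ((F.mapHomologicalComplex (ComplexShape.up ℤ)).obj K).ExactAt i :=
  ShortComplex.Exact.map h F

/-- extension by zero preserves K-flat complexes -/
theorem rflat_ext (U : C) {L : CochainComplex (ModSite.Mod (O.over U)) ℤ}
    (hL : KFlat.RFlat (ModSite.tensorBi (O.over U)) L) :
    KFlat.RFlat (ModSite.tensorBi O) (((ModSite.extZero O U).mapHomologicalComplex (ComplexShape.up ℤ)).obj L) := by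
  intro M hM
  refine KFlat.acyclic_of_iso (KFlat.swapIso (KFlat.braid O) _ M) ?_
  refine KFlat.acyclic_of_iso (projCxIso U L M).symm ?_
  have h : ∀ {K : CochainComplex (ModSite.Mod (O.over U)) ℤ}, K.Acyclic →
      (((ModSite.extZero O U).mapHomologicalComplex (ComplexShape.up ℤ)).obj K).Acyclic := fun hK i =>
    exactAt_map (ModSite.extZero O U) (hK i)
  refine h (KFlat.acyclic_of_iso (KFlat.swapIso (KFlat.braid (O.over U)) _ L) (hL _ fun i => ?_))
  exact exactAt_map (ModSite.restr O U) (hM i)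

/-- projection formula on derived categories, objectwise -/
theorem exists_lTensor_ext_iso (U : C) (P : CochainComplex (ModSite.Mod O) ℤ) [ModSite.HasLTensorCx P]
    [ModSite.HasLTensorCx (((ModSite.restr O U).mapHomologicalComplex (ComplexShape.up ℤ)).obj P)]
    (Y : DerivedCategory (ModSite.Mod (O.over U))) :
    Nonempty ((ModSite.LTensorCx P).obj ((extD O U).obj Y) ≅ (extD O U).obj
      ((ModSite.LTensorCx (((ModSite.restr O U).mapHomologicalComplex (ComplexShape.up ℤ)).obj P)).obj Y)) := by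
  obtain ⟨L, hL, ⟨e⟩⟩ := exists_rflat_model Y
  let P' := ((ModSite.restr O U).mapHomologicalComplex (ComplexShape.up ℤ)).obj P
  let j := (ModSite.extZero O U).mapHomologicalComplex (ComplexShape.up ℤ)
  let φ := (ModSite.extZero O U).mapDerivedCategoryFactors
  haveI := isIso_ltCounit P (rflat_ext U hL)
  haveI := isIso_ltCounit P' hL
  exact ⟨(ModSite.LTensorCx P).mapIso ((extD O U).mapIso e.symm ≪≫ φ.app L) ≪≫ asIso ((ltCounit P).app (j.obj L)) ≪≫
    DerivedCategory.Q.mapIso (projCxIso U L P) ≪≫ (φ.app _).symm ≪≫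
    (extD O U).mapIso ((asIso ((ltCounit P').app L)).symm ≪≫ (ModSite.LTensorCx P').mapIso e)⟩

lemma subsingleton_of_ext {U : C} {Y : DerivedCategory (ModSite.Mod (O.over U))}
    {N : DerivedCategory (ModSite.Mod O)} (h : ∀ g : Y ⟶ (restrD O U).obj N, g = 0) (g : (extD O U).obj Y ⟶ N) :
    g = 0 := ((extRestrAdj O U).homEquiv Y N).injective ((h _).trans (h _).symm)

variable {I : DerComp.IdealSh O}

theorem isIso_completion_rhom [DerComp.HasDerCompletion O I]
    (hcov : ∀ U : C, ∃ S ∈ J U, ∀ ⦃W : C⦄ (g : W ⟶ U), S g →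
      (∃ (r : ℕ) (a : Fin r → O.obj.obj (op W)), (I.over W).IsGenBy fun i => DerComp.GSec.ofSect O W (a i)) ∧
      ∀ N, Killed I N → Killed (I.over W) ((restrD O W).obj N))
    (P : CochainComplex (ModSite.Mod O) ℤ) [ModSite.HasLTensorCx P] [DerComp.HasRHom P]
    (G : DerivedCategory (ModSite.Mod O))
    (h : DerComp.IsDerComp O I ((DerComp.RHom P).obj ((DerComp.derCompletion O I).obj G).obj)) :
    IsIso (((DerComp.derCompletionAdj O I).homEquiv ((DerComp.RHom P).obj G)
      ⟨(DerComp.RHom P).obj ((DerComp.derCompletion O I).obj G).obj, h⟩).symm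
        ((DerComp.RHom P).map (DerComp.toDerCompletion I G))) := by
  let η := DerComp.toDerCompletion I G
  obtain ⟨N, i, p, hN⟩ := distinguished_cocone_triangle η
  obtain ⟨N', i', p', hN'⟩ := distinguished_cocone_triangle ((DerComp.RHom P).map η)
  refine isIso_homEquiv_symm _ _ hN' (killed_of_locally fun U => ?_)
  obtain ⟨S, hS, hW⟩ := hcov U
  refine ⟨S, hS, fun W g hg => ?_⟩
  obtain ⟨⟨r, a, ha⟩, hk⟩ := hW g hg
  refine ⟨killed_of_kosNull (fun i => DerComp.GSec.ofSect O W (a i)) ha.1 fun Y hY x => ?_, hk⟩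
  have hNU := (hk N (killed_cone_toDerCompletion G hN)).kosNull _ ha
  let P' := ((ModSite.restr O W).mapHomologicalComplex (ComplexShape.up ℤ)).obj P
  haveI : ModSite.HasLTensorCx P' := (leftResSite P').hasLeftDerivedFunctor
  -- maps out of nilpotent objects into the cone of `η`
  have h1 : ∀ Y : DerivedCategory (ModSite.Mod (O.over W)),
      (∀ s ∈ List.ofFn (fun i => DerComp.GSec.ofSect O W (a i)), NilOn s Y) →
      ∀ (n : ℤ) (x : ((ModSite.LTensorCx P).obj ((extD O W).obj Y))⟦n⟧ ⟶ N), x = 0 := by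
    intro Y hY n x
    obtain ⟨e⟩ := exists_lTensor_ext_iso W P Y
    let e' : ((ModSite.LTensorCx P).obj ((extD O W).obj Y))⟦n⟧ ≅
        (extD O W).obj (((ModSite.LTensorCx P').obj Y)⟦n⟧) :=
      (shiftFunctor _ n).mapIso e ≪≫ (((extD O W).commShiftIso n).app _).symm
    rw [← cancel_epi e'.inv, comp_zero]
    refine subsingleton_of_ext (hNU _ fun s hs => ?_) _
    obtain ⟨m, hm⟩ := hY s hs
    refine NilOn.shift ⟨m, ?_⟩ n
    rw [← lTensor_smul_id, hm]
    calc (ModSite.LTensorCx P').map (0 : Y ⟶ Y)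
        = (ModSite.LTensorCx P').map ((0 : DerComp.GSec (O.over W)) • 𝟙 Y) := by rw [zero_smul]
      _ = 0 := by rw [lTensor_smul_id, zero_smul]
  refine ((extRestrAdj O W).homEquiv Y N').symm.injective ?_
  have key : ∀ (n : ℤ) (y : ((extD O W).obj Y)⟦n⟧ ⟶ N'), y = 0 := by
    refine (subsingleton_iff_bijective_left _ hN' _).2 fun n => ?_
    let e := ((extD O W).commShiftIso n).app Y
    have hb := (subsingleton_iff_bijective_left _ hN ((ModSite.LTensorCx P).obj ((extD O W).obj (Y⟦n⟧)))).1
      (h1 _ fun s hs => (hY s hs).shift n) 0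
    let adj := DerComp.RHomAdj P
    let z := (shiftFunctorZero (DerivedCategory (ModSite.Mod O)) ℤ).app
      ((ModSite.LTensorCx P).obj ((extD O W).obj (Y⟦n⟧)))
    let c : ∀ K : DerivedCategory (ModSite.Mod O),
        ((((ModSite.LTensorCx P).obj ((extD O W).obj (Y⟦n⟧)))⟦(0 : ℤ)⟧) ⟶ K) ≃
          (((extD O W).obj Y)⟦n⟧ ⟶ (DerComp.RHom P).obj K) := fun K =>
      (z.homFromEquiv.trans (adj.homEquiv _ K)).trans e.homFromEquiv
    have hc : (fun y => y ≫ (DerComp.RHom P).map η) ∘ c G = c _ ∘ fun y => y ≫ η := by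
      funext y
      simp [c, Adjunction.homEquiv_unit]
    refine (Function.Bijective.of_comp_iff _ (c G).bijective).1 ?_
    change Function.Bijective ((fun y => y ≫ (DerComp.RHom P).map η) ∘ c G)
    rw [hc]
    exact (c _).bijective.comp hb
  have k0 := key 0
  let z := (shiftFunctorZero (DerivedCategory (ModSite.Mod O)) ℤ).app ((extD O W).obj Y)
  rw [← cancel_epi z.hom, k0 (z.hom ≫ _), k0 (z.hom ≫ ((extRestrAdj O W).homEquiv Y N').symm 0)]

end Groth.Agent.Bousfield
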