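import Groth.Agent.Bousfield.Killed
import Groth.Agent.KInj.Adjunction

/-!
Restriction to a slice has a derived right adjoint; killed objects and localisation.
-/

set_option autoImplicit false
set_option backward.isDefEq.respectTransparency false
set_option backward.isDefEq.respectTransparency.types false
set_option linter.style.haveILetI false
set_option maxHeartbeats 1000000
universe u

open CategoryTheory Limits Opposite Pretriangulated

attribute [local instance] HasDerivedCategory.standard

namespace Groth.Agent.Bousfield

variable {C : Type u} [SmallCategory C] {J : GrothendieckTopology C} {O : Sheaf J CommRingCat.{u}}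

theorem isLeftAdjoint_restrD (W : C) : (restrD O W).IsLeftAdjoint := by
  haveI hA : IsGrothendieckAbelian.{u} (ModSite.Mod O) := KFlat.isGrothendieck O
  haveI hB : IsGrothendieckAbelian.{u} (ModSite.Mod (O.over W)) := KFlat.isGrothendieck (O.over W)
  haveI : PreservesColimitsOfSize.{u, u} (ModSite.restr O W) :=
    ModSiteFlat.preservesColimits_pushforward (F := Over.forget W) _
  haveI : WellPowered.{u} (ModSite.Mod O)ᵒᵖ := CategoryTheory.Abelian.wellPowered_opposite
  haveI : (ModSite.restr O W).IsLeftAdjoint :=
    isLeftAdjoint_of_preservesColimits_of_isSeparating (isSeparator_separator (ModSite.Mod O)) _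
  let adj := Adjunction.ofIsLeftAdjoint (ModSite.restr O W)
  haveI : (ModSite.restr O W).rightAdjoint.Additive := adj.right_adjoint_additive
  have hK : ∀ K : CochainComplex (ModSite.Mod (O.over W)) ℤ, ∃ (I : CochainComplex (ModSite.Mod (O.over W)) ℤ)
      (g : K ⟶ I), I.IsKInjective ∧ QuasiIso g := fun K => by
    obtain ⟨I, g, h1, h2, -⟩ := KInj.exists_kInjective K
    exact ⟨I, g, h1, h2⟩
  let F := (ModSite.restr O W).rightAdjoint.mapHomotopyCategory (ComplexShape.up ℤ) ⋙
    (DerivedCategory.Qh : _ ⥤ DerivedCategory (ModSite.Mod O))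
  haveI := (KInj.isDeforming_Qh hK F).hasRightDerivedFunctor
    (W := HomotopyCategory.quasiIso (ModSite.Mod (O.over W)) (ComplexShape.up ℤ))
  obtain ⟨a⟩ := KInj.nonempty_adj_Qh adj hK
    (F.totalRightDerived DerivedCategory.Qh (HomotopyCategory.quasiIso _ (ComplexShape.up ℤ)))
    (F.totalRightDerivedUnit DerivedCategory.Qh (HomotopyCategory.quasiIso _ (ComplexShape.up ℤ)))
  exact a.isLeftAdjoint

variable {I : DerComp.IdealSh O}

lemma Killed.shift {X : DerivedCategory (ModSite.Mod O)} (h : Killed I X) (n : ℤ) : Killed I (X⟦n⟧) :=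
  fun Z hZ g => by
    let e := (shiftFunctorCompIsoId (DerivedCategory (ModSite.Mod O)) n (-n) (add_neg_cancel n)).app X
    refine (shiftFunctor _ (-n)).map_injective ?_
    rw [Functor.map_zero, ← cancel_epi e.inv, comp_zero]
    exact h _ (isDerComp_shift hZ _) _

/-- restriction preserves killed objects when it kills the tests -/
theorem killed_restr (W : C) (hT : ∀ p, Killed (I.over W) ((restrD O W).obj (DerivedCategory.Q.obj (tests I p))))
    {X : DerivedCategory (ModSite.Mod O)} (h : Killed I X) : Killed (I.over W) ((restrD O W).obj X) :=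
  fun Z hZ g => by
    haveI := isLeftAdjoint_restrD (O := O) W
    let adj := Adjunction.ofIsLeftAdjoint (restrD O W)
    have hR : DerComp.IsDerComp O I ((restrD O W).rightAdjoint.obj Z) := by
      rw [isDerComp_eq]
      refine fun p m => ⟨fun a b => (adj.homEquiv _ Z).symm.injective ?_⟩
      have h0 : Killed (I.over W) ((restrD O W).obj ((DerivedCategory.Q.obj (tests I p))⟦m⟧)) :=
        ((hT p).shift m).of_iso (((restrD O W).commShiftIso m).app _).symm
      exact (h0 Z hZ _).trans (h0 Z hZ _).symm
    exact (adj.homEquiv X Z).injective ((h _ hR _).trans (h _ hR _).symm)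

/-- killing is local, given that restriction preserves killed objects -/
theorem killed_of_locally [DerComp.HasDerCompletion O I] {X : DerivedCategory (ModSite.Mod O)}
    (h : ∀ U : C, ∃ S ∈ J U, ∀ ⦃W : C⦄ (g : W ⟶ U), S g → Killed (I.over W) ((restrD O W).obj X) ∧
      ∀ N, Killed I N → Killed (I.over W) ((restrD O W).obj N)) : Killed I X := by
  haveI : IsGrothendieckAbelian.{u} (ModSite.Mod O) := KFlat.isGrothendieck O
  let Y := ((DerComp.derCompletion O I).obj X).obj
  obtain ⟨N, i, p, hN⟩ := distinguished_cocone_triangle (DerComp.toDerCompletion I X)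
  have hk := killed_cone_toDerCompletion X hN
  have hY : IsZero Y := by
    suffices IsIso (0 : Y ⟶ Y) from
      (IsZero.iff_id_eq_zero _).2 ((IsIso.hom_inv_id (0 : Y ⟶ Y)).symm.trans zero_comp)
    let S' := HDU.modData O
    rw [DerivedCategory.isIso_iff]
    intro j
    choose S hS hW using h
    have hz : ∀ (V W : C) (g : W ⟶ V), S V g → ∀ x : S'.HG Y j W, x = 0 := fun V W g hg => by
      obtain ⟨h1, h2⟩ := hW V g hg
      have hk2 : Killed (I.over W) ((restrD O W).obj Y) := by
        have hT' := (restrD O W).map_distinguished _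
          (inv_rot_of_distTriang _ hN)
        exact Killed.of_triangle hT' (h2 _ (hk.shift (-1))) h1
      have h0 : IsZero ((restrD O W).obj Y) := hk2.isZero (isDerComp_restr (DerComp.derCompletion O I |>.obj X).property W)
      intro x
      let e : (extD O W).obj ((DerivedCategory.singleFunctor (ModSite.Mod (O.over W)) 0).obj (ModSite.unit (O.over W))) ≅
          (DerivedCategory.singleFunctor (ModSite.Mod O) 0).obj (HDU.freeMod O W) :=
        ((ModSite.extZero O W).mapDerivedCategorySingleFunctor 0).app _ ≪≫
          (DerivedCategory.singleFunctor (ModSite.Mod O) 0).mapIso (ModSiteFree.freeOnIso O W)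
      rw [← cancel_epi e.hom]
      refine (bijective_extRestrEquiv _ j Y).1 ?_
      exact ((shiftFunctor _ j).map_isZero h0).eq_of_tgt _ _
    exact S'.isIso_homology_of_locally_bijective (0 : Y ⟶ Y) j
      (fun V x _ => ⟨S V, hS V, fun W g hg => by rw [hz V W g hg (S'.res _ j g x), map_zero]⟩)
      fun V y => ⟨S V, hS V, fun W g hg => ⟨0, by
        rw [map_zero]
        have := congrArg (S'.η Y j W) (hz V W g hg (S'.res _ j g y))
        simpa [S'.η_res] using this.symm⟩⟩
  intro Z hZ g
  obtain ⟨f, hf⟩ := ((killed_cone_iff (Triangle.mk (DerComp.toDerCompletion I X) i p) hN).1 hk Z hZ).2 g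
  rw [← hf]
  change DerComp.toDerCompletion I X ≫ f = 0
  rw [hY.eq_of_src f 0, comp_zero]

end Groth.Agent.Bousfield
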