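import Groth.Agent.Bousfield.RestrAdj
import Groth.Agent.ModPerm.SliceFree

/-!
Restrictions of free modules to slices.
-/

set_option autoImplicit false
set_option backward.isDefEq.respectTransparency false
set_option backward.isDefEq.respectTransparency.types false
set_option linter.style.haveILetI false
set_option maxHeartbeats 1000000
universe u

open CategoryTheory Limits Opposite Pretriangulated

attribute [local instance] HasDerivedCategory.standard

namespace Groth.Agent.Bousfield

variable {C : Type u} [SmallCategory C] {J : GrothendieckTopology C} {O : Sheaf J CommRingCat.{u}}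

/-- the generator of `j_! O_V` -/
noncomputable def genF (O : Sheaf J CommRingCat.{u}) (V : C) : (ModSite.freeOn O V).val.obj (op V) :=
  sec V _ (𝟙 (ModSite.freeOn O V))

lemma sec_eq_app {V : C} {M : ModSite.Mod O} (a : ModSite.freeOn O V ⟶ M) :
    sec V M a = (a.val.app (op V)).hom (genF O V) := by
  conv_lhs => rw [← Category.id_comp a, sec_comp]
  rfl

lemma freeOnIso_genF (V : C) :
    ((ModSiteFree.freeOnIso O V).hom.val.app (op V)).hom (genF O V) = ModPerm.gen O V := by
  rw [← sec_eq_app]
  simp only [ModSiteFree.freeOnIso, Functor.CorepresentableBy.uniqueUpToIso_hom, sec]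
  simp [Coyoneda.fullyFaithful]
  exact Equiv.apply_symm_apply _ _

/-- the family of a map out of a restricted free module -/
noncomputable def famF {U V : C} {G : ModSite.Mod (O.over U)}
    (a : (ModSite.restr O U).obj (ModSite.freeOn O V) ⟶ G) (H : Over U) (k : H.left ⟶ V) : G.val.obj (op H) :=
  (a.val.app (op H)).hom ((ModSite.freeOn O V).val.map k.op (genF O V))

lemma famOf_eq {U V : C} {G : ModSite.Mod (O.over U)}
    (b : (ModSite.restr O U).obj (ModPerm.FY O V) ⟶ G) (H : Over U) (k : H.left ⟶ V) :
    famF ((ModSite.restr O U).map (ModSiteFree.freeOnIso O V).hom ≫ b) H k = (ModPerm.famOf b).app (op H) k := by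
  change (b.val.app (op H)).hom (((ModSiteFree.freeOnIso O V).hom.val.app (op H.left)).hom
    ((ModSite.freeOn O V).val.map k.op (genF O V))) = _
  rw [PresheafOfModules.naturality_apply, freeOnIso_genF]
  rfl

lemma hom_ext_famF {U V : C} {G : ModSite.Mod (O.over U)}
    {a b : (ModSite.restr O U).obj (ModSite.freeOn O V) ⟶ G} (h : ∀ H k, famF a H k = famF b H k) : a = b := by
  let i := (ModSite.restr O U).mapIso (ModSiteFree.freeOnIso O V)
  rw [← cancel_epi i.inv]
  refine (ModPerm.bijective_famOf G).1 ?_
  ext ⟨H⟩ k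
  have ha := famOf_eq (i.inv ≫ a) H k
  have hb := famOf_eq (i.inv ≫ b) H k
  change famF (i.hom ≫ i.inv ≫ a) H k = _ at ha
  change famF (i.hom ≫ i.inv ≫ b) H k = _ at hb
  rw [Iso.hom_inv_id_assoc] at ha hb
  exact ha.symm.trans ((h H k).trans hb)

lemma exists_of_fam {U V : C} {G : ModSite.Mod (O.over U)} (y : ModPerm.Fam O U V G) :
    ∃ a : (ModSite.restr O U).obj (ModSite.freeOn O V) ⟶ G, ∀ H k, famF a H k = y.app (op H) k := by
  obtain ⟨b, rfl⟩ := (ModPerm.bijective_famOf G).2 y
  exact ⟨_, fun H k => famOf_eq b H k⟩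

lemma eU_genF (V : C) (f : O.obj.obj (op V)) :
    ((eU V f).val.app (op V)).hom (genF O V) =
      (show (ModSite.ringSh O).obj.obj (op V) from f) • genF O V := by
  rw [← sec_eq_app, ← Category.comp_id (eU V f), sec_eU]
  rfl

lemma famF_eU {U V : C} {G : ModSite.Mod (O.over U)} (f : O.obj.obj (op V))
    (a : (ModSite.restr O U).obj (ModSite.freeOn O V) ⟶ G) (H : Over U) (k : H.left ⟶ V) :
    famF ((ModSite.restr O U).map (eU V f) ≫ a) H k =
      (show (ModSite.ringSh (O.over U)).obj.obj (op H) from (O.obj.map k.op).hom f) • famF a H k := by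
  change (a.val.app (op H)).hom (((eU V f).val.app (op H.left)).hom
    ((ModSite.freeOn O V).val.map k.op (genF O V))) = _
  rw [PresheafOfModules.naturality_apply, eU_genF, PresheafOfModules.map_smul]
  exact (a.val.app (op H)).hom.map_smul _ _

/-- if the pairs of maps to `U` and `V` have a terminal one, the restriction is free on it -/
theorem exists_restr_free_iso {U V : C} (H₀ : Over U) (k₀ : H₀.left ⟶ V)
    (huniq : ∀ (H : Over U) (k : H.left ⟶ V), ∃! t : H ⟶ H₀, t.left ≫ k₀ = k) (f : O.obj.obj (op V)) :
    ∃ i : ModSite.freeOn (O.over U) H₀ ≅ (ModSite.restr O U).obj (ModSite.freeOn O V),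
      i.hom ≫ (ModSite.restr O U).map (eU V f) = eU (O := O.over U) H₀ ((O.obj.map k₀.op).hom f) ≫ i.hom := by
  let M := (ModSite.restr O U).obj (ModSite.freeOn O V)
  let g₀ : M.val.obj (op H₀) := (ModSite.freeOn O V).val.map k₀.op (genF O V)
  obtain ⟨u, hu⟩ := sec_surjective (O := O.over U) H₀ M g₀
  have hu' : ∀ (G : ModSite.Mod (O.over U)) (a : M ⟶ G), sec (O := O.over U) H₀ G (u ≫ a) = famF a H₀ k₀ :=
    fun G a => by rw [sec_comp, hu]; rfl
  haveI : IsIso u := by
    rw [isIso_iff_coyoneda_map_bijective]
    intro G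
    refine ⟨fun a b hab => hom_ext_famF fun H k => ?_, fun c => ?_⟩
    · obtain ⟨t, rfl, -⟩ := huniq H k
      have h0 := congrArg (sec (O := O.over U) H₀ G) hab
      rw [hu', hu'] at h0
      have key : ∀ e : M ⟶ G, famF e H (t.left ≫ k₀) = G.val.map t.op (famF e H₀ k₀) := fun e => by
        rw [famF, famF, ← PresheafOfModules.naturality_apply e.val t.op]
        refine congrArg _ ?_
        exact PresheafOfModules.map_comp_apply _ k₀.op t.left.op _
      rw [key, key, h0]
    · let y : ModPerm.Fam O U V G :=
        { app := fun H => ↾fun k => G.val.map (huniq H.unop k).choose.op (sec (O := O.over U) H₀ G c)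
          naturality := fun H H' s => by
            ext k
            change G.val.map (huniq H'.unop (s.unop.left ≫ k)).choose.op _ = G.val.map s (G.val.map (huniq H.unop k).choose.op _)
            rw [← PresheafOfModules.map_comp_apply]
            have : (huniq H'.unop (s.unop.left ≫ k)).choose = s.unop ≫ (huniq H.unop k).choose :=
              ((huniq H'.unop (s.unop.left ≫ k)).choose_spec.2 _ (by
                simp only [Over.comp_left, Category.assoc, (huniq H.unop k).choose_spec.1])).symm
            rw [this]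
            rfl }
      obtain ⟨a, ha⟩ := exists_of_fam y
      refine ⟨a, sec_injective (O := O.over U) H₀ G ?_⟩
      rw [hu', ha]
      change G.val.map (huniq H₀ k₀).choose.op _ = _
      rw [((huniq H₀ k₀).choose_spec.2 (𝟙 H₀) (Category.id_comp _)).symm]
      change G.val.presheaf.map (𝟙 (op H₀)) _ = _
      rw [CategoryTheory.Functor.map_id]
      rfl
  refine ⟨asIso u, sec_injective (O := O.over U) H₀ M ?_⟩
  rw [asIso_hom, sec_eU, ← Category.comp_id ((ModSite.restr O U).map (eU V f)), hu', famF_eU]
  exact congrArg (_ • ·) (((hu' M (𝟙 M)).symm.trans (congrArg _ (Category.comp_id u))))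

variable {I : DerComp.IdealSh O}

/-- the restricted test is killed when the restricted tower vanishes on complete objects -/
theorem killed_restr_test (W U : C) (f : O.obj.obj (op U)) (hf : f ∈ I.ideal U)
    (h : ∀ Z, DerComp.IsDerComp (O.over W) (I.over W) Z → ∀ n : ℤ,
      TBij ((DerivedCategory.singleFunctor (ModSite.Mod (O.over W)) 0).map ((ModSite.restr O W).map (eU U f))) (Z⟦n⟧)) :
    Killed (I.over W) ((restrD O W).obj (DerivedCategory.Q.obj (tests I ⟨U, f, hf⟩))) := by
  intro Z hZ g
  haveI := isLeftAdjoint_restrD (O := O) W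
  let adj := Adjunction.ofIsLeftAdjoint (restrD O W)
  let R := (restrD O W).rightAdjoint.obj Z
  have hR : ∀ n : ℤ, TBij ((DerivedCategory.singleFunctor (ModSite.Mod O) 0).map (eU U f)) (R⟦n⟧) := fun n => by
    refine TBij.shift (-n) n (neg_add_cancel n) ?_
    let F := DerivedCategory.singleFunctor (ModSite.Mod O) 0
    let e' := (F.map (eU U f))⟦-n⟧'
    have : TBij ((restrD O W).map e') Z := by
      let σ := (ModSite.restr O W).mapDerivedCategorySingleFunctor 0
      let F' := DerivedCategory.singleFunctor (ModSite.Mod (O.over W)) 0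
      let i : (restrD O W).obj ((F.obj (ModSite.freeOn O U))⟦-n⟧) ≅
          (F'.obj ((ModSite.restr O W).obj (ModSite.freeOn O U)))⟦-n⟧ :=
        ((restrD O W).commShiftIso (-n)).app _ ≪≫ (shiftFunctor _ (-n)).mapIso (σ.app _)
      have h0 : TBij ((F'.map ((ModSite.restr O W).map (eU U f)))⟦-n⟧') Z := by
        let c := (shiftFunctorCompIsoId (DerivedCategory (ModSite.Mod (O.over W))) (n : ℤ) (-n) (add_neg_cancel n)).app Z
        refine TBij.of_iso ?_ c
        exact (h Z hZ n).transfer (AddMonoidHom.mk' (fun x => x⟦-n⟧') fun a b => Functor.map_add _)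
          ⟨(shiftFunctor _ (-n)).map_injective, (shiftFunctor _ (-n)).map_surjective⟩ fun x => Functor.map_comp _ _ _
      refine h0.of_comm i ?_
      simp only [i, Iso.trans_hom, Iso.app_hom, Functor.mapIso_hom, Category.assoc, e', F', F]
      rw [← Functor.map_comp]
      erw [← σ.hom.naturality (eU U f)]
      rw [Functor.map_comp]
      exact ((restrD O W).commShiftIso (-n)).hom.naturality_assoc _ _ |>.symm
    let b : ((restrD O W).obj ((F.obj (ModSite.freeOn O U))⟦-n⟧) ⟶ Z) →+ ((F.obj (ModSite.freeOn O U))⟦-n⟧ ⟶ R) :=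
      AddMonoidHom.mk' (adj.homEquiv _ _) fun x y => by
        haveI : (restrD O W).rightAdjoint.Additive := adj.right_adjoint_additive
        simp [R, Adjunction.homEquiv_unit, Functor.map_add, Preadditive.comp_add]
    exact this.transfer b (adj.homEquiv _ _).bijective fun x => adj.homEquiv_naturality_left _ _
  refine (adj.homEquiv _ Z).injective ?_
  have := (subsingleton_away_iff U f R).2 hR 0
  have e := (testsIso I ⟨U, f, hf⟩)
  exact (e.homFromEquiv.subsingleton_congr.1
    ((((shiftFunctorZero (DerivedCategory (ModSite.Mod O)) ℤ).app R).homToEquiv).subsingleton_congr.1 this)).elim _ _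

end Groth.Agent.Bousfield
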