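import Groth.Agent.Bousfield.Scalar
import Groth.Agent.RPushSite.Limits

/-!
`Rf_*` preserves derived completeness.
-/

set_option autoImplicit false
set_option backward.isDefEq.respectTransparency false
set_option backward.isDefEq.respectTransparency.types false
set_option linter.style.haveILetI false
set_option maxHeartbeats 1000000
universe u

open CategoryTheory Limits Opposite

attribute [local instance] HasDerivedCategory.standard

namespace Groth.Agent.Bousfield

lemma TBij.transfer {D D' : Type*} [Category D] [Preadditive D] [Category D'] [Preadditive D'] {Y K : D} {Y' K' : D'}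
    {e : Y ⟶ Y} {e' : Y' ⟶ Y'} (h : TBij e K) (b : (Y ⟶ K) →+ (Y' ⟶ K')) (hb : Function.Bijective b)
    (he : ∀ g, b (e ≫ g) = e' ≫ b g) : TBij e' K' := by
  refine ⟨fun φ ψ hφ => ?_, fun y => ?_⟩
  · choose φ' hφ' using fun n => hb.2 (φ n)
    choose ψ' hψ' using fun n => hb.2 (ψ n)
    have : φ' = ψ' := h.1 (funext fun n => hb.1 (by
      simp only [map_sub, he, hφ', hψ']; exact congrFun hφ n))
    exact funext fun n => by rw [← hφ', ← hψ', this]
  · choose y' hy' using fun n => hb.2 (y n)
    obtain ⟨φ, hφ⟩ := h.2 y'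
    refine ⟨fun n => b (φ n), funext fun n => ?_⟩
    simp only [← he, ← map_sub, ← hy']
    exact congrArg b (congrFun hφ n)

variable {C : Type u} [SmallCategory C] {J : GrothendieckTopology C} {D : Type u} [SmallCategory D]
  {K : GrothendieckTopology D} {O_C : Sheaf J CommRingCat.{u}} {O_D : Sheaf K CommRingCat.{u}}
  (f : ModSite.RMor O_C O_D)

/-- a module of `D`, as an object of the homotopy category -/
noncomputable abbrev sK (X : ModSite.Mod O_D) : HomotopyCategory (ModSite.Mod O_D) (ComplexShape.up ℤ) :=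
  (HomotopyCategory.quotient _ _).obj ((CochainComplex.singleFunctor _ 0).obj X)

/-- its inverse image -/
noncomputable def pullSK (X : ModSite.Mod O_D) :
    DerivedCategory.Qh.obj ((RPushSite.pullK f).obj (sK X)) ≅
      (DerivedCategory.singleFunctor (ModSite.Mod O_C) 0).obj (f.pull.obj X) :=
  DerivedCategory.Qh.mapIso ((HomotopyCategory.quotient _ _).mapIso
    ((HomologicalComplex.singleMapHomologicalComplex f.pull (ComplexShape.up ℤ) 0).app X))

lemma pullSK_natural {X X' : ModSite.Mod O_D} (a : X ⟶ X') :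
    DerivedCategory.Qh.map ((RPushSite.pullK f).map
        ((HomotopyCategory.quotient _ _).map ((CochainComplex.singleFunctor _ 0).map a))) ≫ (pullSK f X').hom =
      (pullSK f X).hom ≫ (DerivedCategory.singleFunctor (ModSite.Mod O_C) 0).map (f.pull.map a) := by
  have h := (HomologicalComplex.singleMapHomologicalComplex f.pull (ComplexShape.up ℤ) 0).hom.naturality a
  have h' := congrArg (fun t => DerivedCategory.Qh.map ((HomotopyCategory.quotient _ _).map t)) h
  simp only [Functor.map_comp] at h'
  exact h'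

variable [SiteCmp.HasRpushD f]

/-- the adjunction bijection at a module, as an additive map -/
noncomputable def adjAt (X : ModSite.Mod O_D) (n : ℤ) (M : DerivedCategory (ModSite.Mod O_C)) :
    ((DerivedCategory.singleFunctor (ModSite.Mod O_C) 0).obj (f.pull.obj X) ⟶ M⟦n⟧) →+
      ((DerivedCategory.singleFunctor (ModSite.Mod O_D) 0).obj X ⟶ ((SiteCmp.RpushD f).obj M)⟦n⟧) where
  toFun g := RPushSite.uMap f (sK X) ≫ (SiteCmp.RpushD f).map ((pullSK f X).hom ≫ g) ≫
    (RPushSite.shiftIso f n).hom.app M
  map_zero' := by simp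
  map_add' g g' := by simp [Preadditive.comp_add, Preadditive.add_comp, Functor.map_add]

lemma bijective_adjAt (X : ModSite.Mod O_D) (hX : RPushSite.FAcyc f X) (n : ℤ)
    (M : DerivedCategory (ModSite.Mod O_C)) : Function.Bijective (adjAt f X n M) := by
  have hb := RPushSite.bijective_uMap f (RPushSite.good_single f X hX) (M⟦n⟧)
  refine ⟨fun g g' h => ?_, fun y => ?_⟩
  · change RPushSite.uMap f (sK X) ≫ _ = RPushSite.uMap f (sK X) ≫ _ at h
    rw [← Category.assoc, ← Category.assoc, cancel_mono] at h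
    exact (cancel_epi (pullSK f X).hom).1 (hb.1 h)
  · obtain ⟨g, hg⟩ := hb.2 (y ≫ (RPushSite.shiftIso f n).inv.app M)
    refine ⟨(pullSK f X).inv ≫ g, ?_⟩
    dsimp only at hg
    change RPushSite.uMap f (sK X) ≫ (SiteCmp.RpushD f).map ((pullSK f X).hom ≫ (pullSK f X).inv ≫ g) ≫ _ = _
    rw [Iso.hom_inv_id_assoc, ← Category.assoc, hg, Category.assoc]
    exact (congrArg (y ≫ ·) ((RPushSite.shiftIso f n).inv_hom_id_app M)).trans (Category.comp_id _)

lemma adjAt_comp {X X' : ModSite.Mod O_D} (a : X ⟶ X') (n : ℤ) (M : DerivedCategory (ModSite.Mod O_C))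
    (g : (DerivedCategory.singleFunctor (ModSite.Mod O_C) 0).obj (f.pull.obj X') ⟶ M⟦n⟧) :
    adjAt f X n M ((DerivedCategory.singleFunctor (ModSite.Mod O_C) 0).map (f.pull.map a) ≫ g) =
      (DerivedCategory.singleFunctor (ModSite.Mod O_D) 0).map a ≫ adjAt f X' n M g := by
  let t := (HomotopyCategory.quotient _ (ComplexShape.up ℤ)).map ((CochainComplex.singleFunctor (ModSite.Mod O_D) 0).map a)
  have hu : DerivedCategory.Qh.map t ≫ RPushSite.uMap f (sK X') =
      RPushSite.uMap f (sK X) ≫ (SiteCmp.RpushD f).map (DerivedCategory.Qh.map ((RPushSite.pullK f).map t)) := by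
    rw [RPushSite.uMap, RPushSite.uMap, ← Category.assoc, ← Functor.map_comp, Category.assoc]
    erw [(RPushSite.adjK f).unit.naturality t, Functor.map_comp, Category.assoc]
    exact congrArg (_ ≫ ·) ((RPushSite.unit f).naturality ((RPushSite.pullK f).map t))
  change RPushSite.uMap f (sK X) ≫ (SiteCmp.RpushD f).map ((pullSK f X).hom ≫ _ ≫ g) ≫ _ =
    DerivedCategory.Qh.map t ≫ RPushSite.uMap f (sK X') ≫ (SiteCmp.RpushD f).map ((pullSK f X').hom ≫ g) ≫ _
  rw [reassoc_of% hu, ← Category.assoc (pullSK f X).hom, ← pullSK_natural f a, Category.assoc, Functor.map_comp,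
    Category.assoc]

theorem isDerComp_rpushD (I : DerComp.IdealSh O_D) (I' : DerComp.IdealSh O_C) (hf : DerComp.RMapsIdealInto f I I')
    (M : DerivedCategory (ModSite.Mod O_C)) (hM : DerComp.IsDerComp O_C I' M) :
    DerComp.IsDerComp O_D I ((SiteCmp.RpushD f).obj M) := by
  rw [isDerComp_iff] at hM ⊢
  intro V g hg n
  have hX : RPushSite.FAcyc f (ModSite.freeOn O_D V) :=
    RPushSite.fAcyc_of_iso f (ModSiteFree.freeOnIso O_D V).symm (RPushSite.fAcyc_freeMod f V)
  refine TBij.transfer ?_ (adjAt f _ n M) (bijective_adjAt f _ hX n M) fun x => adjAt_comp f (eU V g) n M x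
  refine (hM (f.fn.obj V) _ (hf V g hg) n).of_comm
    ((DerivedCategory.singleFunctor (ModSite.Mod O_C) 0).mapIso (ModSiteFree.pullFreeOnIso f V)) ?_
  rw [Functor.mapIso_hom, ← Functor.map_comp, ← Functor.map_comp, pull_eU]

end Groth.Agent.Bousfield
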