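import Groth.Agent.Bousfield.Restrict
import Groth.Agent.Bousfield.RpushComp

/-!
Derived completeness along a change of rings; locality.
-/

set_option autoImplicit false
set_option backward.isDefEq.respectTransparency false
set_option backward.isDefEq.respectTransparency.types false
set_option linter.style.haveILetI false
set_option maxHeartbeats 1000000
universe u

open CategoryTheory Limits Opposite

attribute [local instance] HasDerivedCategory.standard

namespace Groth.Agent.Bousfield

section Rpush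

variable {C : Type u} [SmallCategory C] {J : GrothendieckTopology C} {D : Type u} [SmallCategory D]
  {K : GrothendieckTopology D} {O_C : Sheaf J CommRingCat.{u}} {O_D : Sheaf K CommRingCat.{u}}
  (f : ModSite.RMor O_C O_D) [SiteCmp.HasRpushD f]

theorem tBij_rpush_iff (V : D) (g : O_D.obj.obj (op V)) (n : ℤ) (M : DerivedCategory (ModSite.Mod O_C)) :
    TBij ((DerivedCategory.singleFunctor (ModSite.Mod O_D) 0).map (eU V g)) (((SiteCmp.RpushD f).obj M)⟦n⟧) ↔
      TBij ((DerivedCategory.singleFunctor (ModSite.Mod O_C) 0).map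
        (eU (f.fn.obj V) (show O_C.obj.obj (op (f.fn.obj V)) from (f.sharp.hom.app (op V)).hom g))) (M⟦n⟧) := by
  have hX : RPushSite.FAcyc f (ModSite.freeOn O_D V) :=
    RPushSite.fAcyc_of_iso f (ModSiteFree.freeOnIso O_D V).symm (RPushSite.fAcyc_freeMod f V)
  have hb := bijective_adjAt f _ hX n M
  refine Iff.trans ?_ (tBij_iff_of_comm (K := M⟦n⟧)
    (e := (DerivedCategory.singleFunctor (ModSite.Mod O_C) 0).map (eU (f.fn.obj V)
      (show O_C.obj.obj (op (f.fn.obj V)) from (f.sharp.hom.app (op V)).hom g)))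
    (e' := (DerivedCategory.singleFunctor (ModSite.Mod O_C) 0).map (f.pull.map (eU V g)))
    ((DerivedCategory.singleFunctor (ModSite.Mod O_C) 0).mapIso (ModSiteFree.pullFreeOnIso f V)) (by
      rw [Functor.mapIso_hom, ← Functor.map_comp, ← Functor.map_comp, pull_eU]))
  refine ⟨fun h => ?_, fun h => h.transfer (adjAt f _ n M) hb fun x => adjAt_comp f (eU V g) n M x⟩
  let E := AddEquiv.ofBijective _ hb
  exact h.transfer E.symm.toAddMonoidHom E.symm.bijective fun x => by
    apply E.injective
    change E (E.symm _) = _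
    rw [E.apply_symm_apply]
    exact ((adjAt_comp f (eU V g) n M (E.symm x)).trans (congrArg (_ ≫ ·) (E.apply_symm_apply x))).symm

end Rpush

section RestrictScalars

variable {C : Type u} [SmallCategory C] {J : GrothendieckTopology C} {O O' : Sheaf J CommRingCat.{u}} (φ : O ⟶ O')

/-- a map of sheaves of rings as a morphism of ringed sites -/
noncomputable def idMor : ModSite.RMor O' O where
  fn := 𝟭 C
  exact := (ModSite.RMor.id O).exact
  sharp := φ

variable [PreservesFiniteLimits
    (SheafOfModules.restrictScalars.{u} ((sheafCompose J (forget₂ CommRingCat.{u} RingCat.{u})).map φ))]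
  [PreservesFiniteColimits
    (SheafOfModules.restrictScalars.{u} ((sheafCompose J (forget₂ CommRingCat.{u} RingCat.{u})).map φ))]

/-- restriction of scalars -/
noncomputable abbrev resFun : ModSite.Mod O' ⥤ ModSite.Mod O :=
  SheafOfModules.restrictScalars.{u} ((sheafCompose J (forget₂ CommRingCat.{u} RingCat.{u})).map φ)

theorem exists_rpushD_iso :
    ∃ _ : SiteCmp.HasRpushD (idMor φ), ∀ M, Nonempty ((SiteCmp.RpushD (idMor φ)).obj M ≅ (resFun φ).mapDerivedCategory.obj M) := by
  let W := HomotopyCategory.quasiIso (ModSite.Mod O') (ComplexShape.up ℤ)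
  have hk : ∀ K : CochainComplex (ModSite.Mod O') ℤ, ∃ (I : CochainComplex (ModSite.Mod O') ℤ) (g : K ⟶ I),
      I.IsKInjective ∧ QuasiIso g := fun K => by
    haveI : IsGrothendieckAbelian.{u} (ModSite.Mod O') := KFlat.isGrothendieck O'
    obtain ⟨I, g, h1, h2, -⟩ := KInj.exists_kInjective K
    exact ⟨I, g, h1, h2⟩
  let R := (resFun φ).mapDerivedCategory
  let α : SiteCmp.pushKh (idMor φ) ⟶ DerivedCategory.Qh ⋙ R := (resFun φ).mapDerivedCategoryFactorsh.inv
  haveI : R.IsRightDerivedFunctor α W :=
    (KInj.isDeforming_Qh hk (SiteCmp.pushKh (idMor φ))).isRightDerivedFunctor W R α fun _ _ => by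
      dsimp only [α]; infer_instance
  haveI : SiteCmp.HasRpushD (idMor φ) := Functor.HasRightDerivedFunctor.mk' R α (W := W)
  exact ⟨inferInstance, fun M => ⟨(Functor.rightDerivedUnique (SiteCmp.RpushD (idMor φ)) R
    ((SiteCmp.pushKh (idMor φ)).totalRightDerivedUnit DerivedCategory.Qh W) α W).app M⟩⟩

theorem isDerComp_restrictScalars_iff (I : DerComp.IdealSh O) (I' : DerComp.IdealSh O')
    (hI' : DerComp.IsIdealExt φ I I') (K' : DerivedCategory (ModSite.Mod O')) :
    DerComp.IsDerComp O' I' K' ↔ DerComp.IsDerComp O I ((resFun φ).mapDerivedCategory.obj K') := by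
  obtain ⟨_, hiso⟩ := exists_rpushD_iso φ
  obtain ⟨e⟩ := hiso K'
  rw [isDerComp_iff I]
  refine ⟨fun h V g hg n => ?_, fun h => ?_⟩
  · refine TBij.of_iso ?_ ((shiftFunctor _ n).mapIso e)
    exact (tBij_rpush_iff (idMor φ) V g n K').2 ((isDerComp_iff I' K').1 h V _ (hI'.1 V g hg) n)
  · have hle : I' ≤ vanIdeal K' := hI'.2 _ fun V g hg W a n => by
      have := (tBij_rpush_iff (idMor φ) W ((O.obj.map a.op).hom g) n K').1
        ((h W _ (I.map_mem a hg) n).of_iso ((shiftFunctor _ n).mapIso e.symm))
      have hn : (O'.obj.map a.op).hom ((φ.hom.app (op V)).hom g) = (φ.hom.app (op W)).hom ((O.obj.map a.op).hom g) :=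
        (ConcreteCategory.congr_hom (φ.hom.naturality a.op) g).symm
      rw [hn]
      exact this
    exact (isDerComp_iff I' K').2 fun V g hg n => by
      have := (hle V hg : GoodAt K' V g) V (𝟙 V) n
      simpa using this

end RestrictScalars

theorem isDerComp_iff_of_openCover (X : Type u) [TopologicalSpace X]
    (O : Sheaf (Opens.grothendieckTopology X) CommRingCat.{u}) (I : DerComp.IdealSh O) {ι : Type u}
    (U : ι → TopologicalSpace.Opens X) (hU : iSup U = ⊤) (K : DerivedCategory (ModSite.Mod O)) :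
    DerComp.IsDerComp O I K ↔ ∀ (i : ι) (V : TopologicalSpace.Opens X), V ≤ U i →
      ∀ (f : O.obj.obj (op V)), f ∈ I.ideal V → ∀ n : ℤ,
        Subsingleton (SiteCmp.inD O ((ModSite.extZero O V).obj (DerComp.awayOver O V f)) ⟶ K⟦n⟧) := by
  refine ⟨fun h i V _ f hf n => h V f hf n, fun h W f hf => ?_⟩
  rw [subsingleton_away_iff]
  let S : Sieve W :=
    { arrows := fun V _ => ∃ i, V ≤ U i
      downward_closed := fun ⟨i, hi⟩ g => ⟨i, (leOfHom g).trans hi⟩ }
  have hS : S ∈ Opens.grothendieckTopology X W := fun x hx => by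
    obtain ⟨i, hi⟩ := TopologicalSpace.Opens.mem_iSup.1 (hU ▸ TopologicalSpace.Opens.mem_top x : x ∈ iSup U)
    exact ⟨W ⊓ U i, homOfLE inf_le_left, ⟨i, inf_le_right⟩, hx, hi⟩
  have hg : GoodAt K W f := GoodAt.glue S hS fun V g ⟨i, hi⟩ V' g' n => by
    refine (subsingleton_away_iff V' _ K).1 (h i V' ((leOfHom g').trans hi) _ (I.map_mem g' (I.map_mem g hf))) n
  intro n
  simpa using hg W (𝟙 W) n

end Groth.Agent.Bousfield
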