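import Mathlib

/-!
Scalars acting completely: `1 - shift ∘ s` bijective on sequences. Stable under multiples and sums.
-/

set_option autoImplicit false
universe u v

namespace Groth.Agent.Bousfield

variable {R : Type u} [CommRing R] {M : Type v} [AddCommGroup M] [Module R M]

/-- `φ ↦ (φ n - s φ (n+1))` is bijective -/
def SBij (M : Type v) [AddCommGroup M] [Module R M] (s : R) : Prop :=
  Function.Bijective fun (φ : ℕ → M) (n : ℕ) => φ n - s • φ (n + 1)

lemma sBij_zero : SBij M (0 : R) := by
  have : (fun (φ : ℕ → M) (n : ℕ) => φ n - (0 : R) • φ (n + 1)) = id := by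
    funext φ n; simp
  rw [SBij, this]
  exact Function.bijective_id

variable {s t : R}

/-- `Σ s^i y_i` -/
noncomputable def SBij.sum (h : SBij M s) (y : ℕ → M) : M := (h.2 y).choose 0

lemma SBij.sum_of_rec (h : SBij M s) {y ψ : ℕ → M} (hψ : ∀ n, ψ n = y n + s • ψ (n + 1)) (k : ℕ) :
    ψ k = h.sum fun m => y (k + m) := by
  have e : (fun m => ψ (k + m)) = (h.2 fun m => y (k + m)).choose := h.1 (by
    funext m
    rw [(h.2 fun m => y (k + m)).choose_spec]
    change ψ (k + m) - s • ψ (k + (m + 1)) = y (k + m)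
    rw [sub_eq_iff_eq_add]
    exact hψ (k + m))
  exact congrFun e 0

lemma SBij.exists_rec (h : SBij M s) (y : ℕ → M) : ∃ ψ : ℕ → M, ∀ n, ψ n = y n + s • ψ (n + 1) := by
  obtain ⟨ψ, hψ⟩ := h.2 y
  exact ⟨ψ, fun n => by rw [← congrFun hψ n]; exact (sub_add_cancel _ _).symm⟩

lemma SBij.sum_eq (h : SBij M s) (y : ℕ → M) : h.sum y = y 0 + s • h.sum fun m => y (m + 1) := by
  obtain ⟨ψ, hψ⟩ := h.exists_rec y
  have e0 : ψ 0 = h.sum y := by simpa using h.sum_of_rec hψ 0
  have e1 : ψ 1 = h.sum fun m => y (m + 1) := by simpa [Nat.add_comm 1] using h.sum_of_rec hψ 1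
  rw [← e0, hψ 0, e1]

lemma SBij.sum_add (h : SBij M s) (y z : ℕ → M) : h.sum (y + z) = h.sum y + h.sum z := by
  obtain ⟨ψ, hψ⟩ := h.exists_rec y
  obtain ⟨χ, hχ⟩ := h.exists_rec z
  have e := h.sum_of_rec (y := y + z) (ψ := ψ + χ) (fun n => by
    simp only [Pi.add_apply, smul_add, hψ n, hχ n]; abel) 0
  have e1 := h.sum_of_rec hψ 0
  have e2 := h.sum_of_rec hχ 0
  simp only [Nat.zero_add, Pi.add_apply] at e e1 e2
  rw [e1, e2] at e
  exact e.symm

lemma SBij.sum_smul (h : SBij M s) (a : R) (y : ℕ → M) : h.sum (a • y) = a • h.sum y := by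
  obtain ⟨ψ, hψ⟩ := h.exists_rec y
  have e := h.sum_of_rec (y := a • y) (ψ := a • ψ) (fun n => by
    simp only [Pi.smul_apply]; rw [hψ n, smul_add, smul_comm a s]) 0
  have e1 := h.sum_of_rec hψ 0
  simp only [Nat.zero_add, Pi.smul_apply] at e e1
  rw [e1] at e
  exact e.symm

lemma SBij.sum_zero (h : SBij M s) : h.sum 0 = 0 := by
  simpa using h.sum_smul 0 0

lemma SBij.eq_zero (h : SBij M s) {φ : ℕ → M} (hφ : ∀ n, φ n = s • φ (n + 1)) : φ = 0 := by
  funext k
  rw [h.sum_of_rec (y := 0) (ψ := φ) (fun n => by simpa using hφ n) k]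
  exact h.sum_zero

lemma sBij_of_exists (hex : ∀ y : ℕ → M, ∃ φ : ℕ → M, ∀ n, φ n = y n + s • φ (n + 1))
    (huniq : ∀ φ : ℕ → M, (∀ n, φ n = s • φ (n + 1)) → φ 0 = 0) : SBij M s := by
  refine ⟨fun φ ψ h => funext fun k => sub_eq_zero.1 ?_, fun y => ?_⟩
  · refine huniq (fun n => φ (k + n) - ψ (k + n)) fun n => ?_
    have e := congrFun h (k + n)
    simp only at e
    rw [smul_sub, ← Nat.add_assoc]
    rwa [sub_eq_sub_iff_sub_eq_sub] at e
  · obtain ⟨φ, hφ⟩ := hex y
    exact ⟨φ, funext fun n => by simp only; rw [hφ n]; abel⟩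

/-- multiples -/
theorem SBij.mul (h : SBij M s) (a : R) : SBij M (a * s) := by
  refine sBij_of_exists (fun y => ?_) fun φ hφ => ?_
  · refine ⟨fun k => h.sum fun m => a ^ m • y (k + m), fun n => ?_⟩
    simp only
    rw [h.sum_eq, mul_comm a s, mul_smul]
    simp only [pow_zero, one_smul, Nat.add_zero]
    congr 2
    rw [← h.sum_smul]
    congr 1
    funext m
    simp only [Pi.smul_apply, smul_smul, pow_succ', show n + (m + 1) = n + 1 + m by omega]
  · have := congrFun (h.eq_zero (φ := fun n => a ^ n • φ n) fun n => by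
      rw [smul_smul]
      conv_lhs => rw [hφ n, smul_smul]
      congr 1; ring) 0
    simpa using this

/-- sums -/
theorem SBij.add (hs : SBij M s) (ht : SBij M t) : SBij M (s + t) := by
  refine sBij_of_exists (fun y => ?_) fun φ hφ => ?_
  · let A : (ℕ → M) → ℕ → M := fun y i => ht.sum fun j => ((i + j).choose i : R) • y (i + j)
    let Φ : (ℕ → M) → M := fun y => hs.sum (A y)
    refine ⟨fun k => Φ fun m => y (k + m), fun k => ?_⟩
    have key : ∀ z : ℕ → M, Φ z = z 0 + (s + t) • Φ fun m => z (m + 1) := by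
      intro z
      let z' := fun m => z (m + 1)
      have hA0 : A z 0 = z 0 + t • ht.sum z' := by
        simp only [A, Nat.zero_add, Nat.choose_zero_right, Nat.cast_one, one_smul]
        exact ht.sum_eq z
      have hA0' : A z' 0 = ht.sum z' := by
        simp only [A, Nat.zero_add, Nat.choose_zero_right, Nat.cast_one, one_smul]
      have hA : (fun i => A z (i + 1)) = A z' + t • fun i => A z' (i + 1) := by
        funext i
        simp only [Pi.add_apply, Pi.smul_apply, A, z']
        rw [← ht.sum_smul]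
        have e : (fun j => (((i + 1 + j).choose (i + 1) : R)) • z (i + 1 + j)) =
            (fun j => (((i + j).choose i : R)) • z (i + j + 1)) +
              fun j => (((i + j).choose (i + 1) : R)) • z (i + j + 1) := by
          funext j
          simp only [Pi.add_apply]
          rw [show i + 1 + j = i + j + 1 by omega, Nat.choose_succ_succ, Nat.cast_add, add_smul]
        rw [e, ht.sum_add]
        congr 1
        rw [ht.sum_eq (fun j => (((i + j).choose (i + 1) : R)) • z (i + j + 1)), ht.sum_smul]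
        simp [Nat.choose_succ_self, Nat.add_assoc, Nat.add_comm 1]
      have h1 : hs.sum (A z') = A z' 0 + s • hs.sum fun i => A z' (i + 1) := hs.sum_eq _
      simp only [Φ]
      rw [hs.sum_eq (A z), hA0, hA, hs.sum_add, hs.sum_smul, smul_add, smul_comm s t, add_smul]
      change z 0 + t • ht.sum z' + (s • hs.sum (A z') + t • s • hs.sum (fun i => A z' (i + 1))) =
        z 0 + (s • hs.sum (A z') + t • hs.sum (A z'))
      conv_rhs => rw [h1, smul_add t, hA0']
      rw [h1, hA0']
      abel
    have := key fun m => y (k + m)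
    simpa [Nat.add_assoc, Nat.add_comm 1] using this
  · let op : (ℕ → M) → ℕ → M := fun χ n => hs.sum fun m => χ (n + 1 + m)
    let χ : ℕ → ℕ → M := fun k => op^[k] φ
    have hop : ∀ χ, op (t • χ) = t • op χ := fun χ => funext fun n => by
      simp only [op, Pi.smul_apply]
      exact hs.sum_smul t _
    have h1 : φ = t • op φ := by
      funext n
      rw [hs.sum_of_rec (y := fun m => t • φ (m + 1)) (ψ := φ)
        (fun m => by rw [hφ m, add_smul]; abel) n]
      simp only [Pi.smul_apply, op]
      rw [← hs.sum_smul]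
      congr 1
      funext m
      simp [Nat.add_assoc, Nat.add_comm 1]
    have hk : ∀ k, χ k = t • χ (k + 1) := by
      intro k
      induction k with
      | zero => exact h1
      | succ k ih =>
        change op^[k + 1] φ = t • op^[k + 1 + 1] φ
        rw [Function.iterate_succ_apply' op (k + 1), ← hop]
        conv_lhs => rw [Function.iterate_succ_apply']
        exact congrArg op ih
    exact congrFun (ht.eq_zero (φ := fun k => χ k 0) fun k => congrFun (hk k) 0) 0

end Groth.Agent.Bousfield
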