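import Groth.Agent.Bousfield.Slice
import Groth.Agent.Bousfield.SeqBij

/-!
Derived completeness at one section: locality, ideal properties, slices.
-/

set_option autoImplicit false
set_option backward.isDefEq.respectTransparency false
set_option backward.isDefEq.respectTransparency.types false
set_option linter.style.haveILetI false
set_option maxHeartbeats 1000000
universe u

open CategoryTheory Limits Opposite

attribute [local instance] HasDerivedCategory.standard

namespace Groth.Agent.Bousfield

variable {C : Type u} [SmallCategory C] {J : GrothendieckTopology C} {O : Sheaf J CommRingCat.{u}}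

/-- `T(K|_U, f) = 0`, tested on free modules -/
def GoodAt (K : DerivedCategory (ModSite.Mod O)) (U : C) (f : O.obj.obj (op U)) : Prop :=
  ∀ (V : C) (g : V ⟶ U) (n : ℤ),
    TBij ((DerivedCategory.singleFunctor (ModSite.Mod O) 0).map (eU V ((O.obj.map g.op).hom f))) (K⟦n⟧)

theorem isIso_phi_of_locally_free (s : DerComp.GSec O) (K : DerivedCategory (ModSite.Mod O))
    [HasProduct fun _ : ℕ => K]
    (h : ∀ V : C, ∃ S ∈ J V, ∀ (W : C) (g : W ⟶ V), S g → ∀ n : ℤ,
      TBij ((DerivedCategory.singleFunctor (ModSite.Mod O) 0).map (DerComp.smulEnd s (ModSite.freeOn O W))) (K⟦n⟧)) :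
    IsIso (phi s K) := by
  haveI : IsGrothendieckAbelian.{u} (ModSite.Mod O) := KFlat.isGrothendieck O
  let S' := HDU.modData O
  rw [DerivedCategory.isIso_iff]
  intro j
  choose S hS hW using h
  have hb : ∀ (V W : C) (g : W ⟶ V), S V g →
      Function.Bijective fun x : S'.HG (∏ᶜ fun _ : ℕ => K) j W => x ≫ (phi s K)⟦j⟧' := fun V W g hg => by
    refine (tBij_iff_bijective_phi s K ((DerivedCategory.singleFunctor (ModSite.Mod O) 0).obj (HDU.freeMod O W)) j).1 ?_
    refine (hW V W g hg j).of_comm
      ((DerivedCategory.singleFunctor (ModSite.Mod O) 0).mapIso (ModSiteFree.freeOnIso O W).symm) ?_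
    rw [single_map_smulEnd, Linear.comp_smul, Category.comp_id, Linear.smul_comp, Category.id_comp]
  refine S'.isIso_homology_of_locally_bijective (phi s K) j (fun V x hx => ?_) fun V y => ?_
  · refine ⟨S V, hS V, fun W g hg => ?_⟩
    have h0 : S'.res _ j g x = 0 := (hb V W g hg).1 (by
      simp only [zero_comp]
      change ((DerivedCategory.singleFunctor (ModSite.Mod O) 0).map (S'.Pmap g) ≫ x) ≫ (phi s K)⟦j⟧' = 0
      rw [Category.assoc, hx, comp_zero])
    rw [h0, map_zero]
  · refine ⟨S V, hS V, fun W g hg => ?_⟩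
    obtain ⟨x, hx⟩ := (hb V W g hg).2 (S'.res _ j g y)
    exact ⟨S'.η _ j W x, (S'.η_comp (phi s K) j W x).symm.trans (congrArg (S'.η _ j W) hx)⟩

lemma eU_restr_restr {U V W : C} (g : V ⟶ U) (a : W ⟶ V) (f : O.obj.obj (op U)) :
    (O.obj.map a.op).hom ((O.obj.map g.op).hom f) = (O.obj.map (a ≫ g).op).hom f := by
  rw [op_comp, Functor.map_comp]
  rfl

theorem GoodAt.map {K : DerivedCategory (ModSite.Mod O)} {U : C} {f : O.obj.obj (op U)} (h : GoodAt K U f)
    {V : C} (g : V ⟶ U) : GoodAt K V ((O.obj.map g.op).hom f) := fun W a n => by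
  rw [eU_restr_restr]
  exact h W (a ≫ g) n

theorem goodAt_iff {K : DerivedCategory (ModSite.Mod O)} {U : C} (f : O.obj.obj (op U)) :
    GoodAt K U f ↔ ∀ (V : C) (g : V ⟶ U) (n : ℤ),
      Subsingleton (SiteCmp.inD O ((ModSite.extZero O V).obj (DerComp.awayOver O V ((O.obj.map g.op).hom f))) ⟶
        K⟦n⟧) :=
  forall_congr' fun _ => forall_congr' fun _ => (subsingleton_away_iff _ _ _).symm

theorem goodAt_of_isDerComp {I : DerComp.IdealSh O} {K : DerivedCategory (ModSite.Mod O)}
    (hK : DerComp.IsDerComp O I K) {U : C} {f : O.obj.obj (op U)} (hf : f ∈ I.ideal U) : GoodAt K U f :=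
  fun V g n => (isDerComp_iff I K).1 hK V _ (I.map_mem g hf) n

/-- the tower on the slice -/
theorem GoodAt.tBij_slice {K : DerivedCategory (ModSite.Mod O)} {U : C} {f : O.obj.obj (op U)} (h : GoodAt K U f)
    (Y : DerivedCategory (ModSite.Mod (O.over U))) (j : ℤ) :
    TBij (DerComp.GSec.ofSect O U f • 𝟙 Y) (((restrD O U).obj K)⟦j⟧) :=
  tBij_all_of_free _ _ (fun V n => (tBij_restr_free_iff V f K n).2 (h V.left V.hom n)) Y j

theorem GoodAt.glue {K : DerivedCategory (ModSite.Mod O)} {U : C} {f : O.obj.obj (op U)} (S : Sieve U) (hS : S ∈ J U)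
    (h : ∀ ⦃V : C⦄ (g : V ⟶ U), S g → GoodAt K V ((O.obj.map g.op).hom f)) : GoodAt K U f := by
  intro V g n
  let f' := (O.obj.map g.op).hom f
  let s := DerComp.GSec.ofSect O V f'
  let K' := (restrD O V).obj K
  haveI := hasProduct_const K'
  have hphi : IsIso (phi s K') := isIso_phi_of_locally_free s K' fun V' => by
    refine ⟨(Sieve.overEquiv V').symm (S.pullback (V'.hom ≫ g)), ?_, fun W a ha m => ?_⟩
    · rw [GrothendieckTopology.mem_over_iff]
      erw [OrderIso.apply_symm_apply]
      exact J.pullback_stable _ hS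
    · refine (tBij_restr_free_iff W f' K m).2 ?_
      have hS' : S (W.hom ≫ g) := by
        have := (Sieve.overEquiv_symm_iff _ _).1 ha
        rw [Sieve.pullback_apply, ← Category.assoc, Over.w a] at this
        exact this
      have := h _ hS' W.left (𝟙 _) m
      rwa [eU_restr_restr, Category.id_comp, ← eU_restr_restr g W.hom] at this
  have := (tBij_restr_free_iff (Over.mk (𝟙 V)) f' K n).1 ?_
  · simpa [f'] using this
  · refine (tBij_of_isIso s K' hphi _ n).of_comm (Iso.refl _) ?_
    rw [Iso.refl_hom, Category.id_comp, Category.comp_id, single_map_smulEnd]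

/-! ideal properties -/

lemma ofSect_add (U : C) (a b : O.obj.obj (op U)) :
    DerComp.GSec.ofSect O U (a + b) = DerComp.GSec.ofSect O U a + DerComp.GSec.ofSect O U b :=
  Subtype.ext (funext fun _ => map_add _ _ _)

lemma ofSect_mul (U : C) (a b : O.obj.obj (op U)) :
    DerComp.GSec.ofSect O U (a * b) = DerComp.GSec.ofSect O U a * DerComp.GSec.ofSect O U b :=
  Subtype.ext (funext fun _ => map_mul _ _ _)

lemma ofSect_one (U : C) : DerComp.GSec.ofSect O U 1 = 1 :=
  Subtype.ext (funext fun _ => map_one _)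

lemma eU_add (U : C) (a b : O.obj.obj (op U)) : eU U (a + b) = eU U a + eU U b := by
  rw [eU, ofSect_add, DerComp.smulEnd_add, Functor.map_add]
  rfl

lemma eU_mul (U : C) (a b : O.obj.obj (op U)) : eU U (a * b) = eU U a ≫ eU U b := by
  rw [eU, ofSect_mul, ← DerComp.smulEnd_comp, Functor.map_comp]
  rfl

lemma eU_one (U : C) : eU (O := O) U 1 = 𝟙 _ := by
  rw [eU, ofSect_one, DerComp.smulEnd_one, CategoryTheory.Functor.map_id]

/-- the action of sections on maps out of `j_! O_U` -/
noncomputable def secAct (U : C) (K : DerivedCategory (ModSite.Mod O)) :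
    (O.obj.obj (op U)) →+* AddMonoid.End ((DerivedCategory.singleFunctor (ModSite.Mod O) 0).obj (ModSite.freeOn O U) ⟶ K) where
  toFun a := Preadditive.leftComp K ((DerivedCategory.singleFunctor (ModSite.Mod O) 0).map (eU U a))
  map_one' := AddMonoidHom.ext fun x => by
    simp only [Preadditive.leftComp, AddMonoidHom.mk'_apply, eU_one, CategoryTheory.Functor.map_id, Category.id_comp]
    rfl
  map_mul' a b := AddMonoidHom.ext fun x => by
    simp only [Preadditive.leftComp, AddMonoidHom.mk'_apply, eU_mul, Functor.map_comp, Category.assoc]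
    rfl
  map_zero' := AddMonoidHom.ext fun x => by
    have : eU U (0 : O.obj.obj (op U)) = 0 := by simpa using eU_add U (0 : O.obj.obj (op U)) 0
    simp only [Preadditive.leftComp, AddMonoidHom.mk'_apply, this, Functor.map_zero, zero_comp]
    rfl
  map_add' a b := AddMonoidHom.ext fun x => by
    simp only [Preadditive.leftComp, AddMonoidHom.mk'_apply, eU_add, Functor.map_add, Preadditive.add_comp]
    rfl

/-- the module structure on maps out of `j_! O_U` -/
noncomputable abbrev secModule (U : C) (K : DerivedCategory (ModSite.Mod O)) :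
    Module (O.obj.obj (op U)) ((DerivedCategory.singleFunctor (ModSite.Mod O) 0).obj (ModSite.freeOn O U) ⟶ K) :=
  Module.compHom _ (secAct U K)

lemma sBij_iff (U : C) (K : DerivedCategory (ModSite.Mod O)) (a : O.obj.obj (op U)) :
    (letI := secModule U K
     SBij ((DerivedCategory.singleFunctor (ModSite.Mod O) 0).obj (ModSite.freeOn O U) ⟶ K) a) ↔
      TBij ((DerivedCategory.singleFunctor (ModSite.Mod O) 0).map (eU U a)) K := by
  unfold SBij TBij
  exact Iff.rfl

theorem tBij_eU_zero (U : C) (K : DerivedCategory (ModSite.Mod O)) :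
    TBij ((DerivedCategory.singleFunctor (ModSite.Mod O) 0).map (eU U (0 : O.obj.obj (op U)))) K := by
  letI := secModule U K
  exact (sBij_iff U K 0).1 sBij_zero

theorem tBij_eU_add {U : C} {K : DerivedCategory (ModSite.Mod O)} {a b : O.obj.obj (op U)}
    (ha : TBij ((DerivedCategory.singleFunctor (ModSite.Mod O) 0).map (eU U a)) K)
    (hb : TBij ((DerivedCategory.singleFunctor (ModSite.Mod O) 0).map (eU U b)) K) :
    TBij ((DerivedCategory.singleFunctor (ModSite.Mod O) 0).map (eU U (a + b))) K := by
  letI := secModule U K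
  exact (sBij_iff U K _).1 (((sBij_iff U K _).2 ha).add ((sBij_iff U K _).2 hb))

theorem tBij_eU_mul {U : C} {K : DerivedCategory (ModSite.Mod O)} (a : O.obj.obj (op U)) {b : O.obj.obj (op U)}
    (hb : TBij ((DerivedCategory.singleFunctor (ModSite.Mod O) 0).map (eU U b)) K) :
    TBij ((DerivedCategory.singleFunctor (ModSite.Mod O) 0).map (eU U (a * b))) K := by
  letI := secModule U K
  exact (sBij_iff U K _).1 (((sBij_iff U K _).2 hb).mul a)

/-- the sheaf of ideals of sections with vanishing `T` -/
noncomputable def vanIdeal (K : DerivedCategory (ModSite.Mod O)) : DerComp.IdealSh O where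
  ideal U :=
    { carrier := {f | GoodAt K U f}
      zero_mem' := fun V g n => by rw [map_zero]; exact tBij_eU_zero V _
      add_mem' := fun ha hb V g n => by rw [map_add]; exact tBij_eU_add (ha V g n) (hb V g n)
      smul_mem' := fun c f hf V g n => by rw [smul_eq_mul, map_mul]; exact tBij_eU_mul _ (hf V g n) }
  map_mem g _ hf := GoodAt.map hf g
  glue S hS h := GoodAt.glue S hS h

theorem exists_idealSh_of_vanishing (K : DerivedCategory (ModSite.Mod O)) :
    ∃ I : DerComp.IdealSh O, ∀ (U : C) (f : O.obj.obj (op U)), f ∈ I.ideal U ↔ ∀ (V : C) (g : V ⟶ U) (n : ℤ),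
      Subsingleton (SiteCmp.inD O ((ModSite.extZero O V).obj (DerComp.awayOver O V ((O.obj.map g.op).hom f))) ⟶ K⟦n⟧) :=
  ⟨vanIdeal K, fun _ f => goodAt_iff f⟩

end Groth.Agent.Bousfield
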