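import Groth.Agent.Bousfield.TestRestr
import Groth.Agent.PullFlat.SlicePull
import Groth.Agent.RPushSite.Limits
import Groth.Agent.ProjForm.Local

/-!
`Rf_*` commutes with derived completion on ringed sites.
-/

set_option autoImplicit false
set_option backward.isDefEq.respectTransparency false
set_option backward.isDefEq.respectTransparency.types false
set_option linter.style.haveILetI false
set_option maxHeartbeats 1000000
universe u

open CategoryTheory Limits Opposite Pretriangulated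

attribute [local instance] HasDerivedCategory.standard

namespace Groth.Agent.Bousfield

variable {C : Type u} [SmallCategory C] {J : GrothendieckTopology C} {D : Type u} [SmallCategory D]
  {K : GrothendieckTopology D} {O_C : Sheaf J CommRingCat.{u}} {O_D : Sheaf K CommRingCat.{u}}
  (f : ModSite.RMor O_C O_D)

/-- the structure map on sections -/
noncomputable def sharpAt (T : D) : O_D.obj.obj (op T) →+* O_C.obj.obj (op (f.fn.obj T)) :=
  (f.sharp.hom.app (op T)).hom

lemma sharpAt_map {T T' : D} (t : T' ⟶ T) (b : O_D.obj.obj (op T)) :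
    sharpAt f T' ((O_D.obj.map t.op).hom b) = (O_C.obj.map (f.fn.map t).op).hom (sharpAt f T b) :=
  ConcreteCategory.congr_hom (f.sharp.hom.naturality t.op) b

/-- generators pull back -/
theorem isGenBy_sharp {I : DerComp.IdealSh O_D} {I' : DerComp.IdealSh O_C} (hI' : DerComp.RIsIdealExt f I I')
    (T : D) {n : ℕ} (l : Fin n → O_D.obj.obj (op T)) (hl : (I.over T).IsGenBy fun i => DerComp.GSec.ofSect O_D T (l i)) :
    (I'.over (f.fn.obj T)).IsGenBy fun i => DerComp.GSec.ofSect O_C (f.fn.obj T) (sharpAt f T (l i)) := by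
  haveI : PreservesFiniteLimits (PullFlat.pb J K f.fn) := f.exact
  refine ⟨fun i H => ?_, fun 𝔍 h𝔍 => ?_⟩
  · have h0 : l i ∈ I.ideal T := by simpa [DerComp.GSec.ofSect, DerComp.IdealSh.over] using hl.1 i (Over.mk (𝟙 T))
    exact I'.map_mem H.hom (hI'.1 T (l i) h0)
  -- pull the test ideal to `D/T`
  let 𝔍' : ∀ H : Over (f.fn.obj T), Ideal (O_C.obj.obj (op H.left)) := 𝔍.ideal
  let JD : DerComp.IdealSh (O_D.over T) :=
    { ideal := fun H => Ideal.comap (sharpAt f H.left) (𝔍.ideal ((Over.post (X := T) f.fn).obj H))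
      map_mem := fun {H H'} t b hb => by
        change sharpAt f H'.left ((O_D.obj.map t.left.op).hom b) ∈ 𝔍' ((Over.post (X := T) f.fn).obj H')
        rw [sharpAt_map]
        exact 𝔍.map_mem ((Over.post (X := T) f.fn).map t) hb
      glue := fun {H b} S hS h => by
        have hS' := (GrothendieckTopology.mem_over_iff _ _).1 hS
        obtain ⟨R, hR, hR'⟩ : ∃ R ∈ J (f.fn.obj H.left), ∀ ⦃X : C⦄ (x : X ⟶ f.fn.obj H.left), R x →
            ∃ (W : D) (r : W ⟶ H.left) (k' : X ⟶ f.fn.obj W), (Sieve.overEquiv H S) r ∧ k' ≫ f.fn.map r = x ≫ 𝟙 _ :=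
          PullFlat.loc_lift (K := K) f.fn (𝟙 (f.fn.obj H.left)) hS'
        refine 𝔍.glue ((Sieve.overEquiv _).symm R) (J.overEquiv_symm_mem_over ((Over.post (X := T) f.fn).obj H) R hR) fun X x hx => ?_
        obtain ⟨W, r, k', hr, hk⟩ := hR' x.left ((Sieve.overEquiv_symm_iff R x).1 hx)
        rw [Category.comp_id] at hk
        have h1 := h (Over.homMk r : Over.mk (r ≫ H.hom) ⟶ H) ((Sieve.overEquiv_iff S r).1 hr)
        change (O_C.obj.map x.left.op).hom (sharpAt f H.left b) ∈ 𝔍' X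
        let q : X ⟶ (Over.post (X := T) f.fn).obj (Over.mk (r ≫ H.hom)) := Over.homMk k' (by
          change k' ≫ f.fn.map (r ≫ H.hom) = X.hom
          rw [f.fn.map_comp, reassoc_of% hk]
          exact Over.w x)
        have h2 := 𝔍.map_mem q h1
        rw [← hk, op_comp, Functor.map_comp]
        change (O_C.obj.map k'.op).hom ((O_C.obj.map (f.fn.map r).op).hom (sharpAt f H.left b)) ∈ 𝔍' X
        rw [← sharpAt_map]
        exact h2 }
  have hJD : I.over T ≤ JD := hl.2 JD fun i H => by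
    change sharpAt f H.left ((O_D.obj.map H.hom.op).hom (l i)) ∈ 𝔍' ((Over.post (X := T) f.fn).obj H)
    rw [sharpAt_map]
    exact h𝔍 i _
  -- extend the test ideal to `C`
  let J2 : DerComp.IdealSh O_C :=
    { ideal := fun X => ⨅ (H : Over (f.fn.obj T)) (k : H.left ⟶ X), Ideal.comap (O_C.obj.map k.op).hom (𝔍.ideal H)
      map_mem := fun {X X'} g b hb => by
        simp only [Ideal.mem_iInf] at hb ⊢
        intro H k
        change (O_C.obj.map k.op).hom ((O_C.obj.map g.op).hom b) ∈ 𝔍' H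
        rw [← CommRingCat.comp_apply, ← Functor.map_comp, ← op_comp]
        exact hb H (k ≫ g)
      glue := fun {X b} S hS h => by
        simp only [Ideal.mem_iInf]
        intro H k
        refine 𝔍.glue ((Sieve.overEquiv H).symm (S.pullback k)) (J.overEquiv_symm_mem_over _ _ (J.pullback_stable k hS))
          fun H' t ht => ?_
        have hS' : S (t.left ≫ k) := (Sieve.overEquiv_symm_iff _ t).1 ht
        have h1 := h (t.left ≫ k) hS'
        simp only [Ideal.mem_iInf] at h1
        have h2 := h1 H' (𝟙 _)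
        change (O_C.obj.map (𝟙 H'.left).op).hom ((O_C.obj.map (t.left ≫ k).op).hom b) ∈ 𝔍' H' at h2
        change (O_C.obj.map t.left.op).hom ((O_C.obj.map k.op).hom b) ∈ 𝔍' H'
        simpa using h2 }
  have hle : I' ≤ J2 := hI'.2 J2 fun V g hg => by
    simp only [J2, Ideal.mem_iInf]
    intro H k
    change (O_C.obj.map k.op).hom (sharpAt f V g) ∈ 𝔍.ideal H
    obtain ⟨R, hR, hR'⟩ : ∃ R ∈ J H.left, ∀ ⦃X : C⦄ (x : X ⟶ H.left), R x →
        ∃ (W : D) (k' : X ⟶ f.fn.obj W) (l₁ : W ⟶ T) (l₂ : W ⟶ V),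
          k' ≫ f.fn.map l₁ = x ≫ H.hom ∧ k' ≫ f.fn.map l₂ = x ≫ k :=
      PullFlat.loc_pair (K := K) f.fn H.hom k
    refine 𝔍.glue ((Sieve.overEquiv _).symm R) (J.overEquiv_symm_mem_over _ R hR) fun X x hx => ?_
    obtain ⟨W, k', l₁, l₂, h₁, h₂⟩ := hR' x.left ((Sieve.overEquiv_symm_iff R x).1 hx)
    have h3 : sharpAt f W ((O_D.obj.map l₂.op).hom g) ∈ 𝔍.ideal ((Over.post (X := T) f.fn).obj (Over.mk l₁)) :=
      hJD (Over.mk l₁) (I.map_mem l₂ hg)
    let q : X ⟶ (Over.post (X := T) f.fn).obj (Over.mk l₁) := Over.homMk k' (h₁.trans (Over.w x))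
    have h4 := 𝔍.map_mem q h3
    change (O_C.obj.map x.left.op).hom ((O_C.obj.map k.op).hom (sharpAt f V g)) ∈ 𝔍' X
    rw [← CommRingCat.comp_apply, ← Functor.map_comp, ← op_comp, ← h₂, op_comp, Functor.map_comp]
    change (O_C.obj.map k'.op).hom ((O_C.obj.map (f.fn.map l₂).op).hom (sharpAt f V g)) ∈ 𝔍' X
    rw [← sharpAt_map]
    exact h4
  intro H b hb
  have h5 := hle H.left hb
  simp only [J2, Ideal.mem_iInf] at h5
  have h6 := h5 H (𝟙 _)
  change (O_C.obj.map (𝟙 H.left).op).hom b ∈ 𝔍' H at h6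
  simpa using h6

/-- global sections of a slice as sections -/
noncomputable def psiV (T : D) (s : DerComp.GSec (O_D.over T)) : DerComp.GSec (O_C.over (f.fn.obj T)) :=
  DerComp.GSec.ofSect O_C (f.fn.obj T) (sharpAt f T (s.1 (Over.mk (𝟙 T))))

lemma psiV_ofSect (T : D) (b : O_D.obj.obj (op T)) :
    psiV f T (DerComp.GSec.ofSect O_D T b) = DerComp.GSec.ofSect O_C (f.fn.obj T) (sharpAt f T b) := by
  rw [psiV]
  congr 2
  change (O_D.obj.map (𝟙 T).op).hom b = b
  simp

/-- direct image along the localised morphism is linear -/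
lemma pushV_smul_id (T : D) (s : DerComp.GSec (O_D.over T)) (M : ModSite.Mod (O_C.over (f.fn.obj T))) :
    (PullFlat.pushV f T).map (psiV f T s • 𝟙 M) = s • 𝟙 ((PullFlat.pushV f T).obj M) := by
  rw [DerComp.smul_def, DerComp.smul_def, Category.comp_id, Category.comp_id]
  refine SheafOfModules.hom_ext (PresheafOfModules.hom_ext fun H => ?_)
  ext x
  refine congrArg (fun r : O_C.obj.obj (op (f.fn.obj H.unop.left)) =>
    (show (ModSite.ringSh (O_C.over (f.fn.obj T))).obj.obj (op ((Over.post (X := T) f.fn).obj H.unop)) from r) •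
      (show M.val.obj (op ((Over.post (X := T) f.fn).obj H.unop)) from x)) ?_
  change (O_C.obj.map (f.fn.map H.unop.hom).op).hom (sharpAt f T (s.1 (Over.mk (𝟙 T)))) = sharpAt f H.unop.left (s.1 H.unop)
  rw [← sharpAt_map]
  exact congrArg _ (s.2 (Over.homMk H.unop.hom : H.unop ⟶ Over.mk (𝟙 T)))

section KCat

variable {A : Type*} [Category* A] [Abelian A] [HasDerivedCategory A] {R : Type*} [CommRing R] [Linear R A]

omit [HasDerivedCategory A] in
lemma smul_id_mapHC {B : Type*} [Category* B] [Preadditive B] {R' : Type*} [CommRing R'] [Linear R' B]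
    (G : A ⥤ B) [G.Additive] (ψ : R' → R) (hG : ∀ (s : R') (M : A), G.map (ψ s • 𝟙 M) = s • 𝟙 (G.obj M)) (s : R')
    (X : HomotopyCategory A (ComplexShape.up ℤ)) :
    (G.mapHomotopyCategory (ComplexShape.up ℤ)).map (ψ s • 𝟙 X) = s • 𝟙 _ := by
  obtain ⟨X⟩ := X
  have h0 : (G.mapHomologicalComplex (ComplexShape.up ℤ)).map (ψ s • 𝟙 X) =
      s • 𝟙 ((G.mapHomologicalComplex (ComplexShape.up ℤ)).obj X) :=
    HomologicalComplex.hom_ext _ _ fun n => by
      simp only [Functor.mapHomologicalComplex_map_f, HomologicalComplex.smul_f_apply, HomologicalComplex.id_f, hG]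
      rfl
  have h1 : ψ s • 𝟙 ((HomotopyCategory.quotient A (ComplexShape.up ℤ)).obj X) =
      (HomotopyCategory.quotient A (ComplexShape.up ℤ)).map (ψ s • 𝟙 X) := by
    rw [Functor.map_smul, CategoryTheory.Functor.map_id]
  change (G.mapHomotopyCategory _).map (ψ s • 𝟙 ((HomotopyCategory.quotient A (ComplexShape.up ℤ)).obj X)) = _
  rw [h1]
  refine (congrArg (HomotopyCategory.quotient B (ComplexShape.up ℤ)).map h0).trans ?_
  rw [Functor.map_smul, CategoryTheory.Functor.map_id]
  rfl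

/-- null K-injectives are null up to homotopy -/
lemma kosNull_of_isKInjective (l : List R) {I : HomotopyCategory A (ComplexShape.up ℤ)} [hI : CochainComplex.IsKInjective I.as]
    (h : KosNull l (DerivedCategory.Qh.obj I)) : KosNull l I := fun Y hY g => by
  refine (CochainComplex.IsKInjective.Qh_map_bijective Y I.as).1 ((h _ (fun a ha => ?_) _).trans
    (Functor.map_zero _ _ _).symm)
  obtain ⟨m, hm⟩ := hY a ha
  exact ⟨m, by rw [← CategoryTheory.Functor.map_id, ← Functor.map_smul, hm, Functor.map_zero]⟩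

end KCat

variable [SiteCmp.HasRpushD f]

theorem isIso_completion_rpush {I : DerComp.IdealSh O_D} (hI : I.IsFiniteType) {I' : DerComp.IdealSh O_C}
    (hI' : DerComp.RIsIdealExt f I I') [DerComp.HasDerCompletion O_D I] [DerComp.HasDerCompletion O_C I']
    (M : DerivedCategory (ModSite.Mod O_C))
    (h : DerComp.IsDerComp O_D I ((SiteCmp.RpushD f).obj ((DerComp.derCompletion O_C I').obj M).obj)) :
    IsIso (((DerComp.derCompletionAdj O_D I).homEquiv ((SiteCmp.RpushD f).obj M)
      ⟨(SiteCmp.RpushD f).obj ((DerComp.derCompletion O_C I').obj M).obj, h⟩).symm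
        ((SiteCmp.RpushD f).map (DerComp.toDerCompletion I' M))) := by
  haveI : IsGrothendieckAbelian.{u} (ModSite.Mod O_C) := KFlat.isGrothendieck O_C
  let η := DerComp.toDerCompletion I' M
  -- K-injective models
  let Q := (DerivedCategory.Q : _ ⥤ DerivedCategory (ModSite.Mod O_C))
  let Qh := (DerivedCategory.Qh : _ ⥤ DerivedCategory (ModSite.Mod O_C))
  have hres : ∀ X : DerivedCategory (ModSite.Mod O_C), ∃ (I : HomotopyCategory (ModSite.Mod O_C) (ComplexShape.up ℤ)),
      CochainComplex.IsKInjective I.as ∧ Nonempty (Qh.obj I ≅ X) := fun X =>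
    let ⟨I, hI, e⟩ := (KInj.isDeforming_Qh RPushSite.exists_kInj (SiteCmp.pushKh f)).res X
    ⟨I, hI, e.map Iso.symm⟩
  obtain ⟨A₁, hA₁, ⟨e₁⟩⟩ := hres M
  obtain ⟨A₂, hA₂, ⟨e₂⟩⟩ := hres ((DerComp.derCompletion O_C I').obj M).obj
  obtain ⟨φ, hφ⟩ := (CochainComplex.IsKInjective.Qh_map_bijective A₁ A₂.as).2 (e₁.hom ≫ η ≫ e₂.inv)
  obtain ⟨φ₀, rfl⟩ := (HomotopyCategory.quotient _ _).map_surjective φ
  let T₀ := CochainComplex.mappingCone.triangleh φ₀
  have hT₀ : T₀ ∈ distTriang _ := HomotopyCategory.mappingCone_triangleh_distinguished φ₀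
  haveI hA₃ : CochainComplex.IsKInjective T₀.obj₃.as := ProjForm.isKInjective_mappingCone φ₀
  -- the cone of `η`
  obtain ⟨N, i, p, hN⟩ := distinguished_cocone_triangle η
  let eN : Qh.obj T₀.obj₃ ≅ N := Triangle.π₃.mapIso (isoTriangleOfIso₁₂ _ _ (Qh.map_distinguished _ hT₀) hN e₁ e₂ (by
    change Qh.map ((HomotopyCategory.quotient _ _).map φ₀) ≫ e₂.hom = e₁.hom ≫ η
    rw [hφ, Category.assoc, Category.assoc, e₂.inv_hom_id, Category.comp_id]))
  have hk : Killed I' N := killed_cone_toDerCompletion M hN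
  -- the cone of `Rf_* η`
  let u := RPushSite.unit f
  haveI := RPushSite.isIso_unit_app f (I := A₁) hA₁
  haveI := RPushSite.isIso_unit_app f (I := A₂) hA₂
  let P := f.push.mapHomotopyCategory (ComplexShape.up ℤ)
  let Qd := (DerivedCategory.Qh : _ ⥤ DerivedCategory (ModSite.Mod O_D))
  obtain ⟨N', i', p', hN'⟩ := distinguished_cocone_triangle ((SiteCmp.RpushD f).map η)
  let eN' : Qd.obj (P.obj T₀.obj₃) ≅ N' := Triangle.π₃.mapIso (isoTriangleOfIso₁₂ _ _
    (Qd.map_distinguished _ (P.map_distinguished _ hT₀)) hN'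
    (asIso (u.app A₁) ≪≫ (SiteCmp.RpushD f).mapIso e₁) (asIso (u.app A₂) ≪≫ (SiteCmp.RpushD f).mapIso e₂) (by
      change Qd.map (P.map ((HomotopyCategory.quotient _ _).map φ₀)) ≫ u.app A₂ ≫ (SiteCmp.RpushD f).map e₂.hom =
        (u.app A₁ ≫ (SiteCmp.RpushD f).map e₁.hom) ≫ (SiteCmp.RpushD f).map η
      refine (Category.assoc _ _ _).symm.trans (Eq.trans (congrArg (fun t => t ≫ (SiteCmp.RpushD f).map e₂.hom)
        (u.naturality ((HomotopyCategory.quotient _ _).map φ₀ : A₁ ⟶ A₂))) ?_)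
      simp only [Functor.comp_map, Category.assoc]
      rw [← Functor.map_comp, ← Functor.map_comp, hφ, Category.assoc, Category.assoc, e₂.inv_hom_id, Category.comp_id]
      rfl))
  refine isIso_homEquiv_symm _ _ hN' (killed_of_locally fun U => ?_)
  obtain ⟨S, hS, hW⟩ := hI U
  refine ⟨S, hS, fun T g hg => ?_⟩
  obtain ⟨r, a, ha⟩ := hW g hg
  refine ⟨killed_of_kosNull (fun i => DerComp.GSec.ofSect O_D T (a i)) ha.1 ?_,
    fun N hN => killed_restr T (fun q => killed_restr_test_of_gens T q.1 q.2.1 q.2.2 _ ha) hN⟩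
  have ha' := isGenBy_sharp f hI' T a ha
  have hNT := (killed_restr (f.fn.obj T)
    (fun q => killed_restr_test_of_gens (f.fn.obj T) q.1 q.2.1 q.2.2 _ ha') hk).kosNull _ ha'
  let rC := (ModSite.restr O_C (f.fn.obj T)).mapHomotopyCategory (ComplexShape.up ℤ)
  haveI : CochainComplex.IsKInjective (rC.obj T₀.obj₃).as :=
    KInj.isKInjective_rightAdjoint (ModSite.extZeroAdj O_C (f.fn.obj T)) T₀.obj₃.as hA₃
  have h1 : KosNull (List.ofFn fun i => DerComp.GSec.ofSect O_C (f.fn.obj T) (sharpAt f T (a i))) (rC.obj T₀.obj₃) :=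
    kosNull_of_isKInjective _ (hNT.of_iso ((restrD O_C (f.fn.obj T)).mapIso eN.symm ≪≫
      ((ModSite.restr O_C (f.fn.obj T)).mapDerivedCategoryFactorsh).app T₀.obj₃))
  haveI : (PullFlat.pushV f T).Additive := ⟨by intros; rfl⟩
  let pV := (PullFlat.pushV f T).mapHomotopyCategory (ComplexShape.up ℤ)
  have h2 : KosNull (List.ofFn fun i => DerComp.GSec.ofSect O_D T (a i)) (pV.obj (rC.obj T₀.obj₃)) := by
    refine KosNull.map pV (psiV f T) (smul_id_mapHC (PullFlat.pushV f T) (psiV f T) (pushV_smul_id f T)) _ ?_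
    rw [List.map_ofFn]
    simpa only [Function.comp_def, psiV_ofSect] using h1
  let QT := (DerivedCategory.Qh : _ ⥤ DerivedCategory (ModSite.Mod (O_D.over T)))
  have h3 : KosNull (List.ofFn fun i => DerComp.GSec.ofSect O_D T (a i)) (QT.obj (pV.obj (rC.obj T₀.obj₃))) :=
    KosNull.map QT id (fun s X => by rw [Functor.map_smul, CategoryTheory.Functor.map_id]; rfl) _ (by rwa [List.map_id])
  refine h3.of_iso (QT.mapIso ((HomotopyCategory.quotient _ _).mapIso ?_).symm ≪≫
    ((ModSite.restr O_D T).mapDerivedCategoryFactorsh.app _).symm ≪≫ (restrD O_D T).mapIso eN')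
  exact (NatIso.mapHomologicalComplex (PullFlat.pushRestrIso f T) (ComplexShape.up ℤ)).app T₀.obj₃.as

end Groth.Agent.Bousfield
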