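import Groth.Agent.Bousfield.DCCrit
import Groth.Agent.ModSiteFree.Basic

/-!
Multiplication by a section on `j_! O_U` in terms of the corepresented sections.
-/

set_option autoImplicit false
set_option backward.isDefEq.respectTransparency false
set_option backward.isDefEq.respectTransparency.types false
set_option linter.style.haveILetI false
universe u

open CategoryTheory Limits Opposite

namespace Groth.Agent.Bousfield

variable {C : Type u} [SmallCategory C] {J : GrothendieckTopology C} {O : Sheaf J CommRingCat.{u}}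

/-- the value at a morphism out of `j_! O_U`, typed as a section -/
noncomputable abbrev sec (U : C) (M : ModSite.Mod O) (g : ModSite.freeOn O U ⟶ M) : M.val.obj (op U) :=
  (ModSiteFree.freeOnCorep O U).homEquiv g

lemma sec_injective (U : C) (M : ModSite.Mod O) : Function.Injective (sec (O := O) U M) :=
  (ModSiteFree.freeOnCorep O U).homEquiv.injective

lemma sec_surjective (U : C) (M : ModSite.Mod O) : Function.Surjective (sec (O := O) U M) :=
  (ModSiteFree.freeOnCorep O U).homEquiv.surjective

lemma sec_comp {U : C} {M N : ModSite.Mod O} (g : ModSite.freeOn O U ⟶ M) (a : M ⟶ N) :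
    sec U N (g ≫ a) = (a.val.app (op U)).hom (sec U M g) :=
  (ModSiteFree.freeOnCorep O U).homEquiv_comp a g

lemma sec_eU {U : C} (f : O.obj.obj (op U)) {M : ModSite.Mod O} (g : ModSite.freeOn O U ⟶ M) :
    sec U M (eU U f ≫ g) = (show (ModSite.ringSh O).obj.obj (op U) from f) • sec U M g := by
  let adj := ModSite.extZeroAdj O U
  let s := DerComp.GSec.ofSect O U f
  let g' := adj.homEquiv _ M g
  have h1 : adj.homEquiv _ M (eU U f ≫ g) = DerComp.smulEnd s _ ≫ g' :=
    adj.homEquiv_naturality_left _ g
  let r : (ModSite.ringSh O).obj.obj (op U) := f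
  let y : M.val.obj (op U) := (((ModSite.restr O U).obj M).unitHomEquiv g').val (op (Over.mk (𝟙 U)))
  have h2 : (DerComp.GSec.val' s (op (Over.mk (𝟙 U))) : (ModSite.ringSh O).obj.obj (op U)) = r := by
    change (O.obj.map (𝟙 U).op).hom f = f
    rw [op_id, CategoryTheory.Functor.map_id]
    rfl
  change (((ModSite.restr O U).obj M).unitHomEquiv (adj.homEquiv _ M (eU U f ≫ g))).val
      (op (Over.mk (𝟙 U))) = r • y
  rw [h1, DerComp.smulEnd_comm, SheafOfModules.unitHomEquiv_comp_apply]
  exact (congrArg (fun t : (ModSite.ringSh O).obj.obj (op U) => t • y) h2)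

section Pull

variable {D : Type u} [SmallCategory D] {K : GrothendieckTopology D} {O_D : Sheaf K CommRingCat.{u}}
  (φ : ModSite.RMor O O_D)

/-- inverse image carries multiplication by `g` to multiplication by its image -/
theorem pull_eU (V : D) (g : O_D.obj.obj (op V)) :
    φ.pull.map (eU V g) ≫ (ModSiteFree.pullFreeOnIso φ V).hom =
      (ModSiteFree.pullFreeOnIso φ V).hom ≫
        eU (φ.fn.obj V) (show O.obj.obj (op (φ.fn.obj V)) from (φ.sharp.hom.app (op V)).hom g) := by
  set i := ModSiteFree.pullFreeOnIso φ V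
  set g' : O.obj.obj (op (φ.fn.obj V)) := (φ.sharp.hom.app (op V)).hom g
  have key : sec V (φ.push.obj (ModSite.freeOn O (φ.fn.obj V))) (φ.adj.homEquiv _ _ i.hom) =
      sec (φ.fn.obj V) _ (𝟙 (ModSite.freeOn O (φ.fn.obj V))) := by
    simp only [i, ModSiteFree.pullFreeOnIso, Functor.CorepresentableBy.uniqueUpToIso_hom, sec]
    simp [Coyoneda.fullyFaithful]
    exact Equiv.apply_symm_apply _ _
  refine (φ.adj.homEquiv _ _).injective (sec_injective V _ ?_)
  rw [Adjunction.homEquiv_naturality_left, Adjunction.homEquiv_naturality_right, sec_eU, sec_comp, key]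
  refine Eq.trans ?_ ((sec_comp (𝟙 _) (eU (φ.fn.obj V) g')).trans rfl)
  rw [Category.id_comp, ← Category.comp_id (eU (φ.fn.obj V) g'), sec_eU]
  rfl

end Pull

end Groth.Agent.Bousfield
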