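import Groth.Agent.Bousfield.TVan
import Groth.Agent.Bousfield.RpushComp
import Groth.Agent.ModSiteFlat.PushColim
import Groth.Agent.KInj.Adjunction

/-!
Derived completeness and restriction to a slice.
-/

set_option autoImplicit false
set_option backward.isDefEq.respectTransparency false
set_option backward.isDefEq.respectTransparency.types false
set_option linter.style.haveILetI false
set_option maxHeartbeats 1000000
universe u

open CategoryTheory Limits Opposite

attribute [local instance] HasDerivedCategory.standard

namespace Groth.Agent.Bousfield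

variable {C : Type u} [SmallCategory C] {J : GrothendieckTopology C} (O : Sheaf J CommRingCat.{u}) (U : C)

instance preservesFiniteColimits_restr : PreservesFiniteColimits (ModSite.restr O U) := by
  haveI : PreservesColimitsOfSize.{u, u} (ModSite.restr O U) :=
    ModSiteFlat.preservesColimits_pushforward (F := Over.forget U) _
  haveI : PreservesColimitsOfSize.{0, 0} (ModSite.restr O U) := preservesSmallestColimits_of_preservesColimits _
  infer_instance

instance preservesFiniteLimits_restr : PreservesFiniteLimits (ModSite.restr O U) := by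
  haveI : PreservesLimitsOfSize.{u, u} (ModSite.restr O U) := (ModSite.extZeroAdj O U).rightAdjoint_preservesLimits
  haveI : PreservesLimitsOfSize.{0, 0} (ModSite.restr O U) := preservesSmallestLimits_of_preservesLimits _
  infer_instance

instance additive_restr : (ModSite.restr O U).Additive :=
  (ModSite.extZeroAdj O U).right_adjoint_additive

instance preservesFiniteLimits_extZero' : PreservesFiniteLimits (ModSite.extZero O U) :=
  ModSiteExt.preservesFiniteLimits_extZero O U

instance preservesFiniteColimits_extZero : PreservesFiniteColimits (ModSite.extZero O U) := by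
  haveI : PreservesColimitsOfSize.{u, u} (ModSite.extZero O U) :=
    (ModSite.extZeroAdj O U).leftAdjoint_preservesColimits
  haveI : PreservesColimitsOfSize.{0, 0} (ModSite.extZero O U) := preservesSmallestColimits_of_preservesColimits _
  infer_instance

/-- extension by zero on derived categories -/
noncomputable abbrev extD : DerivedCategory (ModSite.Mod (O.over U)) ⥤ DerivedCategory (ModSite.Mod O) :=
  (ModSite.extZero O U).mapDerivedCategory

/-- restriction on derived categories -/
noncomputable abbrev restrD : DerivedCategory (ModSite.Mod O) ⥤ DerivedCategory (ModSite.Mod (O.over U)) :=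
  (ModSite.restr O U).mapDerivedCategory

/-- their adjunction -/
noncomputable def extRestrAdj : extD O U ⊣ restrD O U :=
  letI : CatCommSq ((ModSite.extZero O U).mapHomologicalComplex (ComplexShape.up ℤ)) DerivedCategory.Q
      DerivedCategory.Q (extD O U) := ⟨(ModSite.extZero O U).mapDerivedCategoryFactors.symm⟩
  letI : CatCommSq ((ModSite.restr O U).mapHomologicalComplex (ComplexShape.up ℤ)) DerivedCategory.Q
      DerivedCategory.Q (restrD O U) := ⟨(ModSite.restr O U).mapDerivedCategoryFactors.symm⟩
  (KInj.mapHomologicalComplexAdj (ModSite.extZeroAdj O U) (ComplexShape.up ℤ)).localization DerivedCategory.Q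
    (HomologicalComplex.quasiIso _ (ComplexShape.up ℤ)) DerivedCategory.Q
    (HomologicalComplex.quasiIso _ (ComplexShape.up ℤ)) (extD O U) (restrD O U)

variable {O} {U}

/-- the adjunction bijection, shifted -/
noncomputable def extRestrEquiv (X : DerivedCategory (ModSite.Mod (O.over U))) (n : ℤ)
    (K : DerivedCategory (ModSite.Mod O)) : ((extD O U).obj X ⟶ K⟦n⟧) →+ (X ⟶ ((restrD O U).obj K)⟦n⟧) where
  toFun g := (extRestrAdj O U).homEquiv _ _ g ≫ ((restrD O U).commShiftIso n).hom.app K
  map_zero' := by simp [Adjunction.homEquiv_unit]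
  map_add' a b := by simp [Adjunction.homEquiv_unit, Functor.map_add]

lemma bijective_extRestrEquiv (X : DerivedCategory (ModSite.Mod (O.over U))) (n : ℤ)
    (K : DerivedCategory (ModSite.Mod O)) : Function.Bijective (extRestrEquiv X n K) := by
  change Function.Bijective ((((extRestrAdj O U).homEquiv X (K⟦n⟧)).trans
    (((restrD O U).commShiftIso n).app K).homToEquiv))
  exact Equiv.bijective _

theorem tBij_ext_iff {X : DerivedCategory (ModSite.Mod (O.over U))} (e : X ⟶ X) (n : ℤ)
    (K : DerivedCategory (ModSite.Mod O)) :
    TBij ((extD O U).map e) (K⟦n⟧) ↔ TBij e (((restrD O U).obj K)⟦n⟧) := by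
  have hn : ∀ g, extRestrEquiv X n K ((extD O U).map e ≫ g) = e ≫ extRestrEquiv X n K g := fun g => by
    change (extRestrAdj O U).homEquiv _ _ ((extD O U).map e ≫ g) ≫ _ = e ≫ (extRestrAdj O U).homEquiv _ _ g ≫ _
    rw [Adjunction.homEquiv_naturality_left, Category.assoc]
  refine ⟨fun h => h.transfer _ (bijective_extRestrEquiv X n K) hn, fun h => ?_⟩
  let E := AddEquiv.ofBijective _ (bijective_extRestrEquiv X n K)
  exact h.transfer E.symm.toAddMonoidHom E.symm.bijective fun g => by
    apply E.injective
    change E (E.symm (e ≫ g)) = _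
    rw [E.apply_symm_apply]
    exact ((hn (E.symm g)).trans (congrArg (e ≫ ·) (E.apply_symm_apply g))).symm

/-- `j_!` of a free module on the slice -/
noncomputable def freeOverIso (V : Over U) :
    (ModSite.extZero O U).obj (ModSite.freeOn (O.over U) V) ≅ ModSite.freeOn O V.left :=
  let c : (ModSiteFree.sectFun O V.left).CorepresentableBy
      ((ModSite.extZero O U).obj (ModSite.freeOn (O.over U) V)) :=
    { homEquiv := fun {M} => ((ModSite.extZeroAdj O U).homEquiv _ M).trans
        (ModSiteFree.freeOnCorep (O.over U) V).homEquiv
      homEquiv_comp := fun {M N} g a => by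
        simp only [Equiv.trans_apply, Adjunction.homEquiv_naturality_right,
          (ModSiteFree.freeOnCorep (O.over U) V).homEquiv_comp]
        rfl }
  c.uniqueUpToIso (ModSiteFree.freeOnCorep O V.left)

lemma freeOverIso_comm (V : Over U) (f : O.obj.obj (op U)) :
    (ModSite.extZero O U).map (DerComp.smulEnd (DerComp.GSec.ofSect O U f) (ModSite.freeOn (O.over U) V)) ≫
        (freeOverIso V).hom =
      (freeOverIso V).hom ≫ eU V.left ((O.obj.map V.hom.op).hom f) := by
  let adj := ModSite.extZeroAdj O U
  refine (adj.homEquiv _ _).injective (sec_injective (O := O.over U) V _ ?_)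
  have key : sec (O := O.over U) V _ (adj.homEquiv _ _ (freeOverIso V).hom) =
      sec V.left _ (𝟙 (ModSite.freeOn O V.left)) := by
    simp only [freeOverIso, Functor.CorepresentableBy.uniqueUpToIso_hom, sec]
    simp [Coyoneda.fullyFaithful, adj]
    exact Equiv.apply_symm_apply _ _
  rw [Adjunction.homEquiv_naturality_left, Adjunction.homEquiv_naturality_right, DerComp.smulEnd_comm, sec_comp,
    sec_comp, key]
  refine Eq.trans ?_ ((sec_comp (𝟙 _) (eU V.left ((O.obj.map V.hom.op).hom f))).trans rfl)
  rw [Category.id_comp, ← Category.comp_id (eU V.left ((O.obj.map V.hom.op).hom f)), sec_eU]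
  rfl

/-- the tower at a free module of the slice -/
theorem tBij_restr_free_iff (V : Over U) (f : O.obj.obj (op U)) (K : DerivedCategory (ModSite.Mod O)) (n : ℤ) :
    TBij ((DerivedCategory.singleFunctor (ModSite.Mod (O.over U)) 0).map
        (DerComp.smulEnd (DerComp.GSec.ofSect O U f) (ModSite.freeOn (O.over U) V))) (((restrD O U).obj K)⟦n⟧) ↔
      TBij ((DerivedCategory.singleFunctor (ModSite.Mod O) 0).map (eU V.left ((O.obj.map V.hom.op).hom f))) (K⟦n⟧) := by
  rw [← tBij_ext_iff]
  let σ := (ModSite.extZero O U).mapDerivedCategorySingleFunctor 0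
  refine tBij_iff_of_comm (σ.app _ ≪≫ (DerivedCategory.singleFunctor (ModSite.Mod O) 0).mapIso (freeOverIso V)) ?_
  rw [Iso.trans_hom, Iso.app_hom, Functor.mapIso_hom, Category.assoc, ← Functor.map_comp, ← freeOverIso_comm,
    Functor.map_comp]
  exact (σ.hom.naturality_assoc _ _).symm

end Groth.Agent.Bousfield
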