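import Groth.Agent.Bousfield.Scalar
import Groth.Agent.RPushSite.Limits
import Groth.Agent.KInj.Ops

/-!
The telescope endomorphism of a countable self-product; vanishing of `T(K, f)` tested on free modules.
-/

set_option autoImplicit false
set_option backward.isDefEq.respectTransparency false
set_option backward.isDefEq.respectTransparency.types false
set_option linter.style.haveILetI false
universe u

open CategoryTheory Limits Opposite

attribute [local instance] HasDerivedCategory.standard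

namespace Groth.Agent.Bousfield

section Generic

variable {D : Type*} [Category D] [Preadditive D] {R : Type*} [CommRing R] [Linear R D] (s : R) (K : D)
  [HasProduct fun _ : ℕ => K]

/-- `1 - shift ∘ s` on the countable self-product -/
noncomputable def phi : (∏ᶜ fun _ : ℕ => K) ⟶ ∏ᶜ fun _ : ℕ => K :=
  Pi.lift fun n => Pi.π (fun _ : ℕ => K) n - s • Pi.π (fun _ : ℕ => K) (n + 1)

variable [HasShift D ℤ] [∀ n : ℤ, (shiftFunctor D n).Additive] [∀ n : ℤ, (shiftFunctor D n).Linear R]

theorem tBij_iff_bijective_phi (Y : D) (j : ℤ) :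
    TBij (s • 𝟙 Y) (K⟦j⟧) ↔ Function.Bijective fun y : Y ⟶ (∏ᶜ fun _ : ℕ => K)⟦j⟧ => y ≫ (phi s K)⟦j⟧' := by
  let G := shiftFunctor D j
  let hl : IsLimit (Fan.mk (G.obj (∏ᶜ fun _ : ℕ => K)) fun n => G.map (Pi.π (fun _ : ℕ => K) n)) :=
    isLimitFanMkObjOfIsLimit G _ _ (productIsProduct fun _ : ℕ => K)
  let c : (Y ⟶ G.obj (∏ᶜ fun _ : ℕ => K)) → (ℕ → (Y ⟶ G.obj K)) := fun y n =>
    y ≫ G.map (Pi.π (fun _ : ℕ => K) n)
  have hc : Function.Bijective c := by
    refine ⟨fun a b h => Fan.IsLimit.hom_ext hl _ _ fun n => congrFun h n, fun y => ?_⟩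
    exact ⟨Fan.IsLimit.desc hl y, funext fun n => Fan.IsLimit.fac hl y n⟩
  have hsq : c ∘ (fun y => y ≫ G.map (phi s K)) =
      (fun (φ : ℕ → (Y ⟶ G.obj K)) (n : ℕ) => φ n - (s • 𝟙 Y) ≫ φ (n + 1)) ∘ c := by
    funext y n
    simp only [Function.comp_apply, c, Category.assoc]
    rw [← G.map_comp, phi, limit.lift_π]
    dsimp only [Fan.mk_π_app]
    rw [G.map_sub, G.map_smul, Preadditive.comp_sub, Linear.comp_smul, Linear.smul_comp, Category.id_comp]
  refine Iff.trans ?_ (hc.of_comp_iff' (fun y => y ≫ G.map (phi s K)))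
  rw [hsq, Function.Bijective.of_comp_iff _ hc]
  rfl

theorem tBij_of_isIso (h : IsIso (phi s K)) (Y : D) (j : ℤ) : TBij (s • 𝟙 Y) (K⟦j⟧) :=
  (tBij_iff_bijective_phi s K Y j).2
    ⟨fun a b hab => (cancel_mono ((phi s K)⟦j⟧')).1 hab,
      fun y => ⟨y ≫ inv ((phi s K)⟦j⟧'), by simp⟩⟩

theorem isIso_phi_of_forall (h : ∀ (Y : D) (j : ℤ), TBij (s • 𝟙 Y) (K⟦j⟧)) : IsIso (phi s K) := by
  suffices IsIso ((phi s K)⟦(0 : ℤ)⟧') from isIso_of_reflects_iso _ (shiftFunctor D (0 : ℤ))
  obtain ⟨y, hy⟩ := ((tBij_iff_bijective_phi s K _ 0).1 (h _ 0)).2 (𝟙 _)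
  exact ⟨y, ((tBij_iff_bijective_phi s K _ 0).1 (h _ 0)).1 (by simp only at hy ⊢; rw [Category.assoc, hy]; simp), hy⟩

end Generic

section Derived

variable {C : Type u} [SmallCategory C] {J : GrothendieckTopology C} {O : Sheaf J CommRingCat.{u}}

lemma hasProduct_const (K : DerivedCategory (ModSite.Mod O)) : HasProduct fun _ : ℕ => K := by
  haveI := ModSiteGro.isGrothendieckAbelian (R := ModSite.ringSh O)
  obtain ⟨I, t, hI, ht, -⟩ := KInj.exists_kInjective (DerivedCategory.Q.objPreimage K)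
  haveI := ht
  exact KInj.hasProduct_Q (fun _ : ℕ => I) (fun _ => hI) _ fun _ =>
    (asIso (DerivedCategory.Q.map t)).symm ≪≫ DerivedCategory.Q.objObjPreimageIso K

lemma single_map_smulEnd (s : DerComp.GSec O) (F : ModSite.Mod O) (n : ℤ) :
    (DerivedCategory.singleFunctor (ModSite.Mod O) n).map (DerComp.smulEnd s F) =
      s • 𝟙 ((DerivedCategory.singleFunctor (ModSite.Mod O) n).obj F) := by
  rw [← CategoryTheory.Functor.map_id, ← Functor.map_smul, DerComp.smul_def, Category.comp_id]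

/-- **vanishing is detected on free modules** -/
theorem isIso_phi_of_free (s : DerComp.GSec O) (K : DerivedCategory (ModSite.Mod O))
    [HasProduct fun _ : ℕ => K]
    (h : ∀ (V : C) (n : ℤ),
      TBij ((DerivedCategory.singleFunctor (ModSite.Mod O) 0).map (DerComp.smulEnd s (ModSite.freeOn O V))) (K⟦n⟧)) :
    IsIso (phi s K) := by
  haveI : IsGrothendieckAbelian.{u} (ModSite.Mod O) := KFlat.isGrothendieck O
  refine (HDU.modData O).isIso_of_bijective_HG (phi s K) fun V j => ?_
  refine (tBij_iff_bijective_phi s K ((DerivedCategory.singleFunctor (ModSite.Mod O) 0).obj (HDU.freeMod O V)) j).1 ?_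
  refine (h V j).of_comm ((DerivedCategory.singleFunctor (ModSite.Mod O) 0).mapIso (ModSiteFree.freeOnIso O V).symm) ?_
  rw [single_map_smulEnd, Linear.comp_smul, Category.comp_id, Linear.smul_comp, Category.id_comp]

/-- the criterion for all objects from the criterion at free modules -/
theorem tBij_all_of_free (s : DerComp.GSec O) (K : DerivedCategory (ModSite.Mod O))
    (h : ∀ (V : C) (n : ℤ),
      TBij ((DerivedCategory.singleFunctor (ModSite.Mod O) 0).map (DerComp.smulEnd s (ModSite.freeOn O V))) (K⟦n⟧))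
    (Y : DerivedCategory (ModSite.Mod O)) (j : ℤ) : TBij (s • 𝟙 Y) (K⟦j⟧) := by
  haveI := hasProduct_const K
  exact tBij_of_isIso s K (isIso_phi_of_free s K h) Y j

end Derived

end Groth.Agent.Bousfield
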