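import Groth.Agent.Bousfield.TelMono
import Groth.Agent.Bousfield.KosNull

/-!
Localisations of modules along endomorphisms in the span of scalars.
-/

set_option autoImplicit false
set_option backward.isDefEq.respectTransparency false
set_option linter.style.haveILetI false
set_option linter.unusedSectionVars false
universe w v v' u u'

namespace Groth.Agent.Bousfield

open CategoryTheory Limits

section

variable {A : Type u} [Category.{v} A] [Abelian A] [HasCoproducts.{0} A] {B : Type u'} [Category.{v'} B] [Abelian B]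
  [HasCoproducts.{0} B]

/-- the telescope map, for any category with countable sums -/
noncomputable def telM {X : A} (e : X ⟶ X) : (∐ fun _ : ℕ => X) ⟶ ∐ fun _ : ℕ => X :=
  Sigma.desc fun n => Sigma.ι (fun _ : ℕ => X) n - e ≫ Sigma.ι (fun _ : ℕ => X) (n + 1)

/-- additive functors preserving colimits commute with telescopes -/
theorem exists_telMap_iso (G : A ⥤ B) [G.Additive] [PreservesColimitsOfShape (Discrete ℕ) G]
    [PreservesFiniteColimits G] {X : A} (e : X ⟶ X) :
    Nonempty (G.obj (cokernel (telM e)) ≅ cokernel (telM (G.map e))) := by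
  let M := fun _ : ℕ => X
  let σ : (∐ fun _ : ℕ => G.obj X) ≅ G.obj (∐ M) := asIso (sigmaComparison G M)
  have hσ : σ.hom ≫ G.map (telM e) = telM (G.map e) ≫ σ.hom := by
    refine Sigma.hom_ext _ _ fun n => ?_
    simp only [σ, asIso_hom, telM, Sigma.ι_desc_assoc, Preadditive.sub_comp, Category.assoc]
    erw [ι_comp_sigmaComparison_assoc, ι_comp_sigmaComparison, ι_comp_sigmaComparison]
    rw [← G.map_comp, Sigma.ι_desc, G.map_sub, G.map_comp]
  exact ⟨PreservesCokernel.iso G _ ≪≫ (cokernel.mapIso _ _ σ σ hσ.symm).symm⟩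

/-- conjugate endomorphisms have isomorphic telescopes -/
theorem exists_telMap_iso_of_comm {X X' : A} {e : X ⟶ X} {e' : X' ⟶ X'} (i : X ≅ X') (h : e ≫ i.hom = i.hom ≫ e') :
    Nonempty (cokernel (telM e) ≅ cokernel (telM e')) := by
  refine ⟨cokernel.mapIso _ _ (Sigma.mapIso fun _ : ℕ => i) (Sigma.mapIso fun _ : ℕ => i)
    (Sigma.hom_ext _ _ fun n => ?_)⟩
  simp [telM, Preadditive.sub_comp, Preadditive.comp_sub, reassoc_of% h]

variable {R : Type w} [CommRing R] [Linear R A]

/-- on the telescope of `e = ∑ sᵢ cᵢ` the scalars generate the unit ideal -/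
theorem exists_endo_telMap {X : A} (e : X ⟶ X) {n : ℕ} (s : Fin n → R) (c : Fin n → (X ⟶ X))
    (hc : ∀ i, c i ≫ e = e ≫ c i) (he : ∑ i, s i • c i = e) :
    ∃ c' : Fin n → (cokernel (telM e) ⟶ cokernel (telM e)), ∑ i, s i • c' i = 𝟙 _ := by
  let π := cokernel.π (telM e)
  let ι := fun k => Sigma.ι (fun _ : ℕ => X) k
  have hπ : ∀ k, ι k ≫ π = e ≫ ι (k + 1) ≫ π := fun k => by
    have h0 := congrArg (ι k ≫ ·) (cokernel.condition (telM e))
    simp only [ι, telM, comp_zero, Sigma.ι_desc_assoc, Preadditive.sub_comp, Category.assoc, sub_eq_zero] at h0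
    exact h0
  let d := fun i => Sigma.desc fun k => c i ≫ ι (k + 1) ≫ π
  have hd : ∀ i, telM e ≫ d i = 0 := fun i => Sigma.hom_ext _ _ fun k => by
    simp only [d, telM, Sigma.ι_desc_assoc, Preadditive.sub_comp, Category.assoc, Sigma.ι_desc, comp_zero]
    rw [hπ (k + 1), ← reassoc_of% (hc i), sub_self]
  refine ⟨fun i => cokernel.desc _ (d i) (hd i), coequalizer.hom_ext (Sigma.hom_ext _ _ fun k => ?_)⟩
  change ι k ≫ π ≫ _ = ι k ≫ π ≫ 𝟙 _
  rw [Category.comp_id, Preadditive.comp_sum, Preadditive.comp_sum, hπ k]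
  refine Eq.trans ?_ ((congrArg (fun t => t ≫ ι (k + 1) ≫ π) he))
  rw [Preadditive.sum_comp]
  refine Finset.sum_congr rfl fun i _ => ?_
  rw [Linear.comp_smul, Linear.comp_smul, Linear.smul_comp, cokernel.π_desc]
  simp [d, ι]

end

end Groth.Agent.Bousfield
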