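import Groth.Agent.Bousfield.RestrFree
import Groth.Agent.Bousfield.PMLin
import Groth.Agent.Bousfield.TelGen

/-!
Restrictions of tests to slices with generators of the ideal are killed.
-/

set_option autoImplicit false
set_option backward.isDefEq.respectTransparency false
set_option backward.isDefEq.respectTransparency.types false
set_option linter.style.haveILetI false
set_option maxHeartbeats 1000000
universe u

open CategoryTheory Limits Opposite Pretriangulated

attribute [local instance] HasDerivedCategory.standard

namespace Groth.Agent.Bousfield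

variable {C : Type u} [SmallCategory C] {J : GrothendieckTopology C} {O : Sheaf J CommRingCat.{u}}

/-- sections locally in the span of global sections -/
noncomputable def spanLoc {n : ℕ} (s : Fin n → DerComp.GSec O) : DerComp.IdealSh O :=
  let S : ∀ (U : C), O.obj.obj (op U) → Sieve U := fun U b =>
    { arrows := fun V g => (O.obj.map g.op).hom b ∈ Ideal.span (Set.range fun i => (s i).1 V)
      downward_closed := fun {V V' g} hg t => by
        have h1 := Ideal.mem_map_of_mem (O.obj.map t.op).hom hg
        rw [Ideal.map_span, ← Set.range_comp] at h1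
        have h2 : ((O.obj.map t.op).hom ∘ fun i => (s i).1 V) = fun i => (s i).1 V' :=
          funext fun i => (s i).2 t
        rw [h2] at h1
        simpa using h1 }
  { ideal := fun U =>
      { carrier := {b | S U b ∈ J U}
        zero_mem' := by
          refine J.superset_covering ?_ (J.top_mem U)
          intro V g _
          simp [S]
        add_mem' := fun {a b} ha hb => by
          refine J.superset_covering ?_ (J.intersection_covering ha hb)
          intro V g hg
          change (O.obj.map g.op).hom (a + b) ∈ _
          rw [map_add]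
          exact Ideal.add_mem _ hg.1 hg.2
        smul_mem' := fun c b hb => by
          refine J.superset_covering ?_ hb
          intro V g hg
          change (O.obj.map g.op).hom (c * b) ∈ _
          rw [map_mul]
          exact Ideal.mul_mem_left _ _ hg }
    map_mem := fun {U V} g f hf => by
      refine J.superset_covering ?_ (J.pullback_stable g hf)
      intro W t ht
      change (O.obj.map t.op).hom ((O.obj.map g.op).hom f) ∈ _
      simpa [S] using ht
    glue := fun {U f} R hR h => by
      refine J.transitive hR _ fun V g hg => J.superset_covering ?_ (h g hg)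
      intro W t ht
      change (O.obj.map (t ≫ g).op).hom f ∈ _
      simpa [S] using ht }

theorem mem_spanLoc_contains {n : ℕ} (s : Fin n → DerComp.GSec O) : (spanLoc s).Contains s := fun i U =>
  J.superset_covering (fun V g _ => by
    change (O.obj.map g.op).hom ((s i).1 U) ∈ _
    rw [(s i).2 g]
    exact Ideal.subset_span ⟨i, rfl⟩) (J.top_mem U)

lemma exists_loc_span {I : DerComp.IdealSh O} {n : ℕ} {s : Fin n → DerComp.GSec O} (hI : I.IsGenBy s)
    {U : C} {b : O.obj.obj (op U)} (hb : b ∈ I.ideal U) :
    ∃ S ∈ J U, ∀ ⦃V : C⦄ (g : V ⟶ U), S g →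
      (O.obj.map g.op).hom b ∈ Ideal.span (Set.range fun i => (s i).1 V) :=
  ⟨_, hI.2 _ (mem_spanLoc_contains s) U hb, fun _ _ h => h⟩

lemma sum_smul_apply {R : Type u} [CommRing R] {M N : ModuleCat.{u} R} {n : ℕ} (r : Fin n → R)
    (f : Fin n → (M ⟶ N)) (x : M) : (∑ i, r i • f i).hom x = ∑ i, r i • (f i).hom x := by
  simp [ModuleCat.hom_sum]

variable {I : DerComp.IdealSh O}

/-- **restricted tests are killed** -/
theorem killed_restr_test_of_gens (W U : C) (f : O.obj.obj (op U)) (hf : f ∈ I.ideal U) {n : ℕ}
    (s : Fin n → DerComp.GSec (O.over W)) (hs : (I.over W).IsGenBy s) :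
    Killed (I.over W) ((restrD O W).obj (DerivedCategory.Q.obj (tests I ⟨U, f, hf⟩))) := by
  haveI := ModSiteGro.isGrothendieckAbelian (R := ModSite.ringSh O)
  haveI := ModSiteGro.isGrothendieckAbelian (R := ModSite.ringSh (O.over W))
  refine killed_of_kosNull s hs.1 ?_
  -- pairs with the section in the span
  let P : ∀ (H : Over W), (H.left ⟶ U) → Prop := fun H k =>
    (O.obj.map k.op).hom f ∈ Ideal.span (Set.range fun i => (s i).1 H)
  have hP : ∀ {H H' : Over W} (t : H' ⟶ H) (k : H.left ⟶ U), P H k → P H' (t.left ≫ k) := by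
    intro H H' t k hk
    have h1 := Ideal.mem_map_of_mem ((O.over W).obj.map t.op).hom hk
    rw [Ideal.map_span, ← Set.range_comp] at h1
    have h2 : (((O.over W).obj.map t.op).hom ∘ fun i => (s i).1 H) = fun i => (s i).1 H' :=
      funext fun i => (s i).2 t
    rw [h2] at h1
    change (O.obj.map (t.left ≫ k).op).hom f ∈ _
    rw [op_comp, Functor.map_comp]
    exact h1
  let F : (Over W)ᵒᵖ ⥤ Type u :=
    { obj := fun H => {k : H.unop.left ⟶ U // P H.unop k}
      map := fun t => ↾fun k => ⟨t.unop.left ≫ k.1, hP t.unop k.1 k.2⟩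
      map_id := fun H => by
        ext k
        exact Category.id_comp _
      map_comp := fun a b => by
        ext k
        exact Category.assoc _ _ _ }
  let ι : F ⟶ (Over.forget W).op ⋙ yoneda.obj U :=
    { app := fun H => ↾fun k => k.1
      naturality := fun H H' t => rfl }
  haveI : Presheaf.IsLocallyInjective (J.over W) ι :=
    Presheaf.isLocallyInjective_of_injective _ _ fun H a b h => Subtype.ext h
  haveI : Presheaf.IsLocallySurjective (J.over W) ι := ⟨fun {H} k => by
    obtain ⟨S, hS, hS'⟩ := exists_loc_span hs (U := H) (b := (O.obj.map (k : H.left ⟶ U).op).hom f)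
      (I.map_mem (k : H.left ⟶ U) hf)
    refine (J.over W).superset_covering ?_ hS
    intro H' t ht
    refine ⟨⟨t.left ≫ k, ?_⟩, rfl⟩
    change (O.obj.map (t.left ≫ (k : H.left ⟶ U)).op).hom f ∈ _
    rw [op_comp, Functor.map_comp]
    exact hS' t ht⟩
  have hW : (J.over W).W ι := (J.over W).W_of_isLocallyBijective ι
  -- the free presheaf, its endomorphism, and the comparison
  let P' : PMod (O.over W) := (PresheafOfModules.free (ModSite.ringSh (O.over W)).obj).obj F
  let M := (ModSite.restr O W).obj (ModSite.freeOn O U)
  let e : P' ⟶ P' := PresheafOfModules.freeHomEquiv.symm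
    { app := fun H => ↾fun k =>
        (show (ModSite.ringSh (O.over W)).obj.obj H from (O.obj.map k.1.op).hom f) • ModuleCat.freeMk k
      naturality := fun H H' t => by
        ext k
        change (show (ModSite.ringSh (O.over W)).obj.obj H' from (O.obj.map (t.unop.left ≫ k.1).op).hom f) •
            ModuleCat.freeMk (F.map t k) = P'.map t (_ • ModuleCat.freeMk k)
        rw [PresheafOfModules.map_smul]
        congr 1
        · change (O.obj.map (t.unop.left ≫ k.1).op).hom f = (O.obj.map t.unop.left.op).hom ((O.obj.map k.1.op).hom f)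
          rw [op_comp, Functor.map_comp]
          rfl
        · refine Eq.symm ?_
          exact ModuleCat.freeDesc_apply _ _ }
  let v : P' ⟶ M.val := PresheafOfModules.freeHomEquiv.symm
    { app := fun H => ↾fun k => (ModSite.freeOn O U).val.map k.1.op (genF O U)
      naturality := fun H H' t => by
        ext k
        exact PresheafOfModules.map_comp_apply _ k.1.op t.unop.left.op _ }
  let adj := PresheafOfModules.sheafificationAdjunction.{u} (R := ModSite.ringSh (O.over W))
    (𝟙 (ModSite.ringSh (O.over W)).obj)
  let v' : (ModSite.sheafify (O.over W)).obj P' ⟶ M := (adj.homEquiv P' M).symm v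
  have hv : ∀ (G : ModSite.Mod (O.over W)) (a : M ⟶ G) (H : Over W) (k : F.obj (op H)),
      ((adj.homEquiv P' G) (v' ≫ a)).app (op H) (ModuleCat.freeMk k) = famF a H k.1 := by
    intro G a H k
    rw [adj.homEquiv_naturality_right, Equiv.apply_symm_apply]
    change (a.val.app (op H)).hom ((v.app (op H)).hom (ModuleCat.freeMk k)) = _
    refine congrArg (a.val.app (op H)).hom ?_
    exact ModuleCat.freeDesc_apply _ _
  haveI : IsIso v' := by
    rw [isIso_iff_coyoneda_map_bijective]
    intro G
    have hG : Presheaf.IsSheaf (J.over W) (G.val.presheaf ⋙ forget AddCommGrpCat.{u}) :=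
      GrothendieckTopology.HasSheafCompose.isSheaf _ G.isSheaf
    have hb := hW _ hG
    refine ⟨fun a b hab => hom_ext_famF fun H k => ?_, fun c => ?_⟩
    · let fa : ∀ x : M ⟶ G, (Over.forget W).op ⋙ yoneda.obj U ⟶ G.val.presheaf ⋙ forget AddCommGrpCat.{u} := fun x =>
        { app := fun H => ↾fun k => famF x H.unop k
          naturality := fun H H' t => by
            ext k
            change famF x H'.unop (t.unop.left ≫ k) = G.val.map t (famF x H.unop k)
            rw [famF, famF, ← PresheafOfModules.naturality_apply x.val t]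
            refine congrArg _ ?_
            exact PresheafOfModules.map_comp_apply _ k.op t.unop.left.op _ }
      have : fa a = fa b := hb.1 (by
        ext H k
        exact ((hv G a H.unop k).symm.trans (by simp only at hab; rw [hab])).trans (hv G b H.unop k))
      exact ConcreteCategory.congr_hom (NatTrans.congr_app this (op H)) k
    · obtain ⟨y, hy⟩ := hb.2 (PresheafOfModules.freeHomEquiv ((adj.homEquiv P' G) c))
      obtain ⟨a, ha⟩ := exists_of_fam y
      refine ⟨a, (adj.homEquiv P' G).injective (PresheafOfModules.freeHomEquiv.injective ?_)⟩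
      ext H k
      refine (hv G a H.unop k).trans ((ha _ _).trans ?_)
      exact ConcreteCategory.congr_hom (NatTrans.congr_app hy H) k
  have hve : (ModSite.sheafify (O.over W)).map e ≫ v' = v' ≫ (ModSite.restr O W).map (eU U f) := by
    refine (adj.homEquiv P' M).injective (PresheafOfModules.freeHomEquiv.injective ?_)
    ext H k
    rw [adj.homEquiv_naturality_left, Equiv.apply_symm_apply]
    refine Eq.trans ?_ (hv M ((ModSite.restr O W).map (eU U f)) H.unop k).symm
    change (v.app H).hom ((e.app H).hom (ModuleCat.freeMk k)) = _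
    conv_rhs => rw [← Category.comp_id ((ModSite.restr O W).map (eU U f)), famF_eU]
    refine (congrArg (v.app H).hom (ModuleCat.freeDesc_apply _ _)).trans ?_
    refine ((v.app H).hom.map_smul _ _).trans ?_
    exact congrArg (_ • ·) (ModuleCat.freeDesc_apply _ _)
  -- the test is the sheafified telescope
  let T' : PMod (O.over W) := cokernel (telM e)
  haveI : PreservesColimitsOfSize.{u, u} (ModSite.sheafify (O.over W)) := adj.leftAdjoint_preservesColimits
  haveI : PreservesColimitsOfSize.{0, 0} (ModSite.sheafify (O.over W)) := preservesSmallestColimits_of_preservesColimits _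
  haveI : PreservesColimitsOfSize.{u, u} (ModSite.restr O W) :=
    ModSiteFlat.preservesColimits_pushforward (F := Over.forget W) _
  haveI : PreservesColimitsOfSize.{0, 0} (ModSite.restr O W) := preservesSmallestColimits_of_preservesColimits _
  haveI : PreservesColimitsOfSize.{u, u} (ModSite.extZero O U) :=
    (ModSite.extZeroAdj O U).leftAdjoint_preservesColimits
  haveI : PreservesColimitsOfSize.{0, 0} (ModSite.extZero O U) := preservesSmallestColimits_of_preservesColimits _
  haveI : (ModSite.sheafify (O.over W)).Additive := adj.left_adjoint_additive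
  obtain ⟨i₁⟩ := exists_telMap_iso (ModSite.sheafify (O.over W)) e
  obtain ⟨i₂⟩ := exists_telMap_iso_of_comm (asIso v') hve
  obtain ⟨i₃⟩ := exists_telMap_iso (ModSite.restr O W) (eU U f)
  obtain ⟨i₄⟩ := exists_telMap_iso (ModSite.extZero O U)
    (DerComp.smulEnd (DerComp.GSec.ofSect O U f) (ModSite.unit (O.over U)))
  let iM : (ModSite.sheafify (O.over W)).obj T' ≅
      (ModSite.restr O W).obj ((ModSite.extZero O U).obj (DerComp.awayOver O U f)) :=
    i₁ ≪≫ i₂ ≪≫ i₃.symm ≪≫ (ModSite.restr O W).mapIso i₄.symm
  let SD := (ModSite.sheafify (O.over W)).mapDerivedCategory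
  let F0 := DerivedCategory.singleFunctor (PMod (O.over W)) 0
  let iD : SD.obj (F0.obj T') ≅ (restrD O W).obj (DerivedCategory.Q.obj (tests I ⟨U, f, hf⟩)) :=
    ((ModSite.sheafify (O.over W)).mapDerivedCategorySingleFunctor 0).app T' ≪≫
      (DerivedCategory.singleFunctor (ModSite.Mod (O.over W)) 0).mapIso iM ≪≫
      (((ModSite.restr O W).mapDerivedCategorySingleFunctor 0).app _).symm ≪≫
      (restrD O W).mapIso (testsIso I ⟨U, f, hf⟩)
  refine KosNull.of_iso ?_ iD
  refine KosNull.map SD id (fun t X => mapDerivedCategory_smul_id (ModSite.sheafify (O.over W)) id (fun r N => ?_) t X)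
    (List.ofFn s) ?_
  · rw [pmod_smul_def, Category.comp_id, sheafify_pSmul, DerComp.smul_def, Category.comp_id]
    rfl
  rw [List.map_id]
  refine kosNull_of_evAt _ fun H => ?_
  rw [List.map_ofFn]
  -- on sections over `H`
  let ev := evAt (O.over W) H
  choose c hc using fun k : F.obj (op H) => Ideal.mem_span_range_iff_exists_fun.1 k.2
  let cE : Fin n → (ev.obj P' ⟶ ev.obj P') := fun i =>
    ModuleCat.freeDesc (R := (ModSite.ringSh (O.over W)).obj.obj (op H)) (↾fun k : F.obj (op H) =>
      (show (ModSite.ringSh (O.over W)).obj.obj (op H) from c k i) • ModuleCat.freeMk k)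
  let eH := ev.map e
  have hcomm : ∀ i, cE i ≫ eH = eH ≫ cE i := fun i => by
    refine ModuleCat.free_hom_ext fun k => ?_
    change (eH.hom) ((cE i).hom (ModuleCat.freeMk k)) = (cE i).hom (eH.hom (ModuleCat.freeMk k))
    refine (congrArg eH.hom (ModuleCat.freeDesc_apply _ _)).trans ?_
    refine (eH.hom.map_smul _ _).trans ?_
    refine (congrArg (_ • ·) (ModuleCat.freeDesc_apply _ _)).trans ?_
    refine Eq.trans ?_ (congrArg (cE i).hom (ModuleCat.freeDesc_apply _ _)).symm
    refine Eq.trans ?_ ((cE i).hom.map_smul _ _).symm
    refine Eq.trans ?_ (congrArg (_ • ·) (ModuleCat.freeDesc_apply _ _).symm)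
    refine (smul_smul _ _ _).trans (Eq.trans ?_ (smul_smul _ _ _).symm)
    exact congrArg (· • _) (mul_comm (G := O.obj.obj (op H.left)) _ _)
  have hsum : ∑ i, (s i).1 H • cE i = eH := by
    refine ModuleCat.free_hom_ext fun k => ?_
    refine (sum_smul_apply _ cE _).trans ?_
    refine Eq.trans ?_ (ModuleCat.freeDesc_apply _ _).symm
    change ∑ i, ((s i).1 H) • ((cE i).hom (ModuleCat.freeMk k)) = _
    refine (Finset.sum_congr rfl fun i _ => congrArg ((s i).1 H • ·) (ModuleCat.freeDesc_apply _ _)).trans ?_
    refine Eq.trans ?_ (congrArg (fun r : (O.over W).obj.obj (op H) => r • (ModuleCat.freeMk k)) (hc k))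
    rw [Finset.sum_smul]
    refine Finset.sum_congr rfl fun i _ => ?_
    rw [mul_comm, mul_smul]
    rfl
  obtain ⟨c', hc'⟩ := exists_endo_telMap eH (fun i => (s i).1 H) cE hcomm hsum
  obtain ⟨j₁⟩ := exists_telMap_iso ev e
  let F1 := DerivedCategory.singleFunctor (ModuleCat.{u} ((O.over W).obj.obj (op H))) 0
  refine KosNull.of_iso ?_ (((evAt (O.over W) H).mapDerivedCategorySingleFunctor 0).app T' ≪≫ F1.mapIso j₁).symm
  refine kosNull_of_sum _ (fun i => F1.map (c' i)) ?_
  simp only [Function.comp_apply]
  rw [← F1.map_id, ← hc', Functor.map_sum]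
  refine Finset.sum_congr rfl fun i _ => ?_
  rw [Functor.map_smul]

end Groth.Agent.Bousfield
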