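import Groth.Agent.Bousfield.Main
import Groth.Agent.Bousfield.TelMono
import Groth.Agent.FilTower.Basic
import Mathlib.Algebra.Homology.DerivedCategory.SingleTriangle

/-!
Maps out of the cokernel of a telescope map in the derived category.
-/

set_option autoImplicit false
set_option backward.isDefEq.respectTransparency false
set_option linter.style.haveILetI false
universe w v u

namespace Groth.Agent.Bousfield

open CategoryTheory Limits CochainComplex Pretriangulated

section Generic

variable {D : Type*} [Category D] [Preadditive D]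

/-- `1 - e` is bijective on sequences of maps `Y ⟶ K`, i.e. the limit and first derived limit vanish -/
def TBij {Y : D} (e : Y ⟶ Y) (K : D) : Prop :=
  Function.Bijective fun (φ : ℕ → (Y ⟶ K)) (n : ℕ) => φ n - e ≫ φ (n + 1)

lemma TBij.of_iso {Y : D} {e : Y ⟶ Y} {K K' : D} (h : TBij e K) (i : K ≅ K') : TBij e K' := by
  refine ⟨fun φ ψ hφ => funext fun n => ?_, fun y => ?_⟩
  · rw [← cancel_mono i.inv]
    refine congrFun (h.1 (a₁ := fun n => φ n ≫ i.inv) (a₂ := fun n => ψ n ≫ i.inv) (funext fun m => ?_)) n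
    have := congrArg (· ≫ i.inv) (congrFun hφ m)
    simpa [Preadditive.sub_comp] using this
  · obtain ⟨φ, hφ⟩ := h.2 fun n => y n ≫ i.inv
    refine ⟨fun n => φ n ≫ i.hom, funext fun n => ?_⟩
    have := congrArg (· ≫ i.hom) (congrFun hφ n)
    simpa [Preadditive.sub_comp] using this

/-- invariance under conjugate endomorphisms -/
lemma TBij.of_comm {Y Y' : D} {e : Y ⟶ Y} {e' : Y' ⟶ Y'} {K : D} (h : TBij e K) (i : Y' ≅ Y)
    (hi : i.hom ≫ e = e' ≫ i.hom) : TBij e' K := by
  have hi' : i.inv ≫ e' = e ≫ i.inv := by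
    rw [Iso.inv_comp_eq, ← Category.assoc, hi, Category.assoc, i.hom_inv_id, Category.comp_id]
  refine ⟨fun φ ψ hφ => funext fun n => ?_, fun y => ?_⟩
  · rw [← cancel_epi i.inv]
    refine congrFun (h.1 (a₁ := fun n => i.inv ≫ φ n) (a₂ := fun n => i.inv ≫ ψ n) (funext fun m => ?_)) n
    have := congrArg (i.inv ≫ ·) (congrFun hφ m)
    simpa [Preadditive.comp_sub, reassoc_of% hi'] using this
  · obtain ⟨φ, hφ⟩ := h.2 fun n => i.inv ≫ y n
    refine ⟨fun n => i.hom ≫ φ n, funext fun n => ?_⟩
    have := congrArg (i.hom ≫ ·) (congrFun hφ n)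
    simpa [Preadditive.comp_sub, reassoc_of% hi] using this

lemma tBij_iff_of_comm {Y Y' : D} {e : Y ⟶ Y} {e' : Y' ⟶ Y'} {K : D} (i : Y' ≅ Y)
    (hi : i.hom ≫ e = e' ≫ i.hom) : TBij e' K ↔ TBij e K :=
  ⟨fun h => h.of_comm i.symm (by
    rw [Iso.symm_hom, Iso.inv_comp_eq, ← Category.assoc, hi, Category.assoc, i.hom_inv_id, Category.comp_id]),
    fun h => h.of_comm i hi⟩

end Generic

section Vanish

variable {D : Type*} [Category D] [Preadditive D] [HasZeroObject D] [HasShift D ℤ]
  [∀ n : ℤ, (CategoryTheory.shiftFunctor D n).Additive] [Pretriangulated D]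

/-- maps out of the cone of `a` vanish iff precomposition with `a` is bijective in all degrees -/
theorem subsingleton_iff_bijective (T : Triangle D) (hT : T ∈ distTriang D) (K : D) :
    (∀ n : ℤ, Subsingleton (T.obj₃ ⟶ K⟦n⟧)) ↔
      ∀ n : ℤ, Function.Bijective fun f : T.obj₂ ⟶ K⟦n⟧ => T.mor₁ ≫ f := by
  constructor
  · intro h n
    refine ⟨fun f g hfg => ?_, fun g => ?_⟩
    · obtain ⟨k, hk⟩ := T.yoneda_exact₂ hT (f - g) (by rw [Preadditive.comp_sub, sub_eq_zero]; exact hfg)
      rwa [(h n).elim k 0, comp_zero, sub_eq_zero] at hk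
    · let i := (shiftFunctorAdd D n (1 : ℤ)).app K
      have h0 : T.mor₃ ≫ g⟦(1 : ℤ)⟧' = 0 := by
        rw [← cancel_mono i.inv, zero_comp]
        exact (h (n + 1)).elim _ _
      obtain ⟨k, hk⟩ := Triangle.yoneda_exact₂ _ (rot_of_distTriang _ (rot_of_distTriang _ hT)) (g⟦(1 : ℤ)⟧')
        (by exact h0)
      refine ⟨-((CategoryTheory.shiftFunctor D (1 : ℤ)).preimage k),
        (CategoryTheory.shiftFunctor D (1 : ℤ)).map_injective ?_⟩
      rw [Functor.map_comp, Functor.map_neg, Functor.map_preimage, hk]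
      simp [Triangle.rotate]
  · intro h n
    refine ⟨fun f g => sub_eq_zero.mp ?_⟩
    generalize f - g = x
    have h2 : T.mor₂ ≫ x = 0 := (h n).1 (by
      simp only [comp_zero]; rw [← Category.assoc, comp_distTriang_mor_zero₁₂ _ hT, zero_comp])
    obtain ⟨k, rfl⟩ := T.yoneda_exact₃ hT x h2
    let i := ((shiftFunctorAdd D (n - 1) (1 : ℤ)).app K).symm ≪≫ eqToIso (by rw [sub_add_cancel])
    obtain ⟨j, hj⟩ := (h (n - 1)).2 ((CategoryTheory.shiftFunctor D (1 : ℤ)).preimage (k ≫ i.inv))
    simp only at hj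
    have hk : k ≫ i.inv = T.mor₁⟦(1 : ℤ)⟧' ≫ j⟦(1 : ℤ)⟧' := by
      rw [← Functor.map_comp, hj, Functor.map_preimage]
    rw [← cancel_mono i.inv, zero_comp, Category.assoc, hk, ← Category.assoc,
      comp_distTriang_mor_zero₃₁ _ hT, zero_comp]

end Vanish

section Derived

variable {A : Type u} [Category.{v} A] [Abelian A] [IsGrothendieckAbelian.{v} A] [HasDerivedCategory.{w} A]

/-- coproducts in degree zero stay coproducts in the derived category -/
theorem bijective_sigma_single (M : ℕ → A) (K : DerivedCategory A) :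
    Function.Bijective fun (g : (DerivedCategory.singleFunctor A 0).obj (∐ M) ⟶ K) (n : ℕ) =>
      (DerivedCategory.singleFunctor A 0).map (Sigma.ι M n) ≫ g := by
  obtain ⟨I, t, hI, ht, -⟩ := KInj.exists_kInjective (DerivedCategory.Q.objPreimage K)
  haveI := ht
  haveI := hI
  let a : DerivedCategory.Q.obj I ≅ K :=
    (asIso (DerivedCategory.Q.map t)).symm ≪≫ DerivedCategory.Q.objObjPreimageIso K
  let s := HomologicalComplex.single A (ComplexShape.up ℤ) 0
  let σ := DerivedCategory.singleFunctorIsoCompQ A 0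
  have hs : IsIso (sigmaComparison s M) := inferInstance
  constructor
  · intro g₁ g₂ h
    obtain ⟨f₁, hf₁⟩ := KInj.Q_map_surjective (K := s.obj (∐ M)) (I := I) (σ.inv.app _ ≫ g₁ ≫ a.inv)
    obtain ⟨f₂, hf₂⟩ := KInj.Q_map_surjective (K := s.obj (∐ M)) (I := I) (σ.inv.app _ ≫ g₂ ≫ a.inv)
    rw [← cancel_epi (σ.inv.app (∐ M)), ← cancel_mono a.inv, Category.assoc, Category.assoc, ← hf₁, ← hf₂]
    obtain ⟨H⟩ := FilTower.nonempty_homotopy_of_sigma (K := fun n => s.obj (M n))
      (sigmaComparison s M ≫ (f₁ - f₂)) fun n => by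
        rw [ι_comp_sigmaComparison_assoc, Preadditive.comp_sub]
        refine KInj.nonempty_homotopy_of_Q_map_eq ?_
        rw [Functor.map_comp, Functor.map_comp, hf₁, hf₂]
        have e := congrFun h n
        simp only at e
        have hn := σ.inv.naturality (Sigma.ι M n)
        exact (Category.assoc _ _ _).symm.trans ((congrArg (· ≫ g₁ ≫ a.inv) hn).trans
          ((Category.assoc _ _ _).trans ((congrArg (σ.inv.app (M n) ≫ ·)
            ((Category.assoc _ _ _).symm.trans ((congrArg (· ≫ a.inv) e).trans (Category.assoc _ _ _)))).trans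
              ((Category.assoc _ _ _).symm.trans ((congrArg (· ≫ g₂ ≫ a.inv) hn).symm.trans
                (Category.assoc _ _ _))))))
    exact KInj.Q_map_eq_of_homotopy ((Homotopy.ofEq (by simp)).trans
      ((H.compLeft (inv (sigmaComparison s M))).trans (Homotopy.ofEq comp_zero)))
  · intro φ
    choose f hf using fun n => KInj.Q_map_surjective (K := s.obj (M n)) (I := I) (σ.inv.app _ ≫ φ n ≫ a.inv)
    refine ⟨σ.hom.app _ ≫ DerivedCategory.Q.map (inv (sigmaComparison s M) ≫ Sigma.desc f) ≫ a.hom,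
      funext fun n => ?_⟩
    simp only
    rw [← Category.assoc, σ.hom.naturality (Sigma.ι M n), Category.assoc]
    change _ ≫ DerivedCategory.Q.map (s.map (Sigma.ι M n)) ≫ _ = _
    rw [← Functor.map_comp_assoc, ← ι_comp_sigmaComparison s M n, Category.assoc, IsIso.hom_inv_id_assoc,
      Sigma.ι_desc, hf]
    simp

variable {X : A} (e : X ⟶ X)

/-- maps out of the telescope cokernel vanish iff the tower criterion holds -/
theorem subsingleton_cokernel_iff (K : DerivedCategory A) :
    (∀ n : ℤ, Subsingleton ((DerivedCategory.singleFunctor A 0).obj (cokernel (telMap e)) ⟶ K⟦n⟧)) ↔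
      ∀ n : ℤ, TBij ((DerivedCategory.singleFunctor A 0).map e) (K⟦n⟧) := by
  haveI := mono_telMap e
  let S := ShortComplex.mk (telMap e) (cokernel.π (telMap e)) (cokernel.condition _)
  have hS : S.ShortExact := { exact := ShortComplex.exact_cokernel _ }
  refine (subsingleton_iff_bijective _ hS.singleTriangle_distinguished K).trans (forall_congr' fun n => ?_)
  let F := DerivedCategory.singleFunctor A 0
  let c : (F.obj (∐ fun _ : ℕ => X) ⟶ K⟦n⟧) → (ℕ → (F.obj X ⟶ K⟦n⟧)) := fun g m =>
    F.map (Sigma.ι (fun _ : ℕ => X) m) ≫ g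
  have hc : Function.Bijective c := bijective_sigma_single (fun _ : ℕ => X) (K⟦n⟧)
  change Function.Bijective (fun g => F.map (telMap e) ≫ g) ↔
    Function.Bijective fun (φ : ℕ → (F.obj X ⟶ K⟦n⟧)) (m : ℕ) => φ m - F.map e ≫ φ (m + 1)
  have hsq : c ∘ (fun g => F.map (telMap e) ≫ g) =
      (fun (φ : ℕ → (F.obj X ⟶ K⟦n⟧)) (m : ℕ) => φ m - F.map e ≫ φ (m + 1)) ∘ c := by
    funext g m
    simp only [Function.comp_apply, c]
    rw [← Category.assoc, ← F.map_comp, telMap, Sigma.ι_desc, Functor.map_sub, Functor.map_comp,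
      Preadditive.sub_comp, Category.assoc]
  rw [← hc.of_comp_iff', hsq, Function.Bijective.of_comp_iff _ hc]

end Derived

end Groth.Agent.Bousfield
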